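import Groth.Agent.GITLib.AffineQuot

/-!
# Linear coactions on polynomial rings: grading, invariants
-/

set_option autoImplicit false

universe u v w

noncomputable section

open TensorProduct HopfRep WithConv

namespace Groth.Agent.GITLib

variable {k : Type u} [Field k] {A : Type v} [CommRing A] [Bialgebra k A]
  {ι : Type w} [Fintype ι] [HopfRep.Comod k A (MvPolynomial ι k)] [GLin.IsCoactAlg k A (MvPolynomial ι k)]

/-- A linear coaction preserves the degree. -/
theorem isHomogeneous_slice_coact (hlin : GLin.IsLinear k A ι) (s : ι →₀ ℕ) (ψ : A →ₗ[k] k) :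
    (Comod.slice ψ (HopfRep.Comod.coact (k := k) (A := A) (MvPolynomial.monomial s (1 : k)))).IsHomogeneous s.degree := by
  revert ψ
  induction s using Finsupp.induction with
  | zero =>
    intro ψ
    rw [show (MvPolynomial.monomial (0 : ι →₀ ℕ) (1 : k)) = 1 by simp,
      GLin.IsCoactAlg.coact_one (k := k), Algebra.TensorProduct.one_def, Comod.slice_tmul, map_zero,
      ← map_one (MvPolynomial.C (σ := ι) (R := k)), MvPolynomial.smul_eq_C_mul, ← map_mul]
    exact MvPolynomial.isHomogeneous_C _ _
  | single_add i n s hi hn ih =>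
    clear hn
    induction n with
    | zero => simpa using ih
    | succ n ihn =>
      intro ψ
      obtain ⟨m, hm⟩ := hlin i
      rw [show Finsupp.single i (n + 1) + s = Finsupp.single i 1 + (Finsupp.single i n + s) by
        rw [← add_assoc, ← Finsupp.single_add, add_comm 1 n], map_add,
        show MvPolynomial.monomial (Finsupp.single i 1 + (Finsupp.single i n + s)) (1 : k) =
          MvPolynomial.X i * MvPolynomial.monomial (Finsupp.single i n + s) (1 : k) by
          rw [MvPolynomial.X, MvPolynomial.monomial_mul, one_mul], GLin.IsCoactAlg.coact_mul, hm,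
        Finset.sum_mul, map_sum]
      refine MvPolynomial.IsHomogeneous.sum _ _ _ fun j _ => ?_
      have key : ∀ z : MvPolynomial ι k ⊗[k] A, Comod.slice ψ ((MvPolynomial.X j ⊗ₜ[k] m j) * z) =
          MvPolynomial.X j * Comod.slice (ψ ∘ₗ LinearMap.mulLeft k (m j)) z := by
        intro z
        induction z using TensorProduct.induction_on with
        | zero => simp
        | tmul a b => simp [Algebra.TensorProduct.tmul_mul_tmul]
        | add a b ha hb => simp only [mul_add, map_add, ha, hb]
      rw [key, Finsupp.degree_single]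
      exact (MvPolynomial.isHomogeneous_X k j).mul (ihn _)

theorem isHomogeneous_contract (hlin : GLin.IsLinear k A ι) {F : MvPolynomial ι k} {d : ℕ}
    (hF : F.IsHomogeneous d) (ψ : A →ₗ[k] k) : (Comod.contract ψ F).IsHomogeneous d := by
  rw [F.as_sum, map_sum]
  refine MvPolynomial.IsHomogeneous.sum _ _ _ fun s hs => ?_
  rw [show MvPolynomial.monomial s (F.coeff s) = F.coeff s • MvPolynomial.monomial s (1 : k) by
    rw [MvPolynomial.smul_monomial, smul_eq_mul, mul_one], map_smul]
  have hd : s.degree = d := by
    have := hF (MvPolynomial.mem_support_iff.1 hs)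
    rw [← this, Finsupp.degree_eq_weight_one]
    rfl
  exact hd ▸ Submodule.smul_mem (MvPolynomial.homogeneousSubmodule ι k _) _ (isHomogeneous_slice_coact hlin s ψ)

theorem homogeneousComponent_contract (hlin : GLin.IsLinear k A ι) (F : MvPolynomial ι k) (ψ : A →ₗ[k] k) (d : ℕ) :
    MvPolynomial.homogeneousComponent d (Comod.contract ψ F) =
      Comod.contract ψ (MvPolynomial.homogeneousComponent d F) := by
  conv_lhs => rw [← MvPolynomial.sum_homogeneousComponent F, map_sum, map_sum]
  have hc : ∀ i, MvPolynomial.homogeneousComponent d (Comod.contract ψ (MvPolynomial.homogeneousComponent i F)) =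
      if i = d then Comod.contract ψ (MvPolynomial.homogeneousComponent i F) else 0 := fun i => by
    rw [MvPolynomial.homogeneousComponent_of_mem (n := i)
      (isHomogeneous_contract hlin (MvPolynomial.homogeneousComponent_isHomogeneous i F) ψ)]
    simp [eq_comm]
  simp only [hc, Finset.sum_ite_eq']
  split_ifs with h
  · rfl
  · rw [MvPolynomial.homogeneousComponent_eq_zero d F (by simpa using h), map_zero]

/-- Homogeneous components of invariants are invariant. -/
theorem homogeneousComponent_mem_invariants (hlin : GLin.IsLinear k A ι) {F : MvPolynomial ι k}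
    (hF : F ∈ GLin.invariants k A (MvPolynomial ι k)) (d : ℕ) :
    MvPolynomial.homogeneousComponent d F ∈ GLin.invariants k A (MvPolynomial ι k) := by
  refine (Comod.eq_tmul_iff_contract (k := k) (A := A) _ 1).2 fun ψ => ?_
  rw [← homogeneousComponent_contract hlin, (Comod.eq_tmul_iff_contract (k := k) (A := A) F 1).1 hF ψ, map_smul]

theorem orbitHom_zero_X (hlin : GLin.IsLinear k A ι) (i : ι) :
    GLin.orbitHom k A (GLin.vecPt k ι fun _ => (0 : k)) (MvPolynomial.X i) = 0 := by
  obtain ⟨m, hm⟩ := hlin i
  simp [GLin.orbitHom, hm]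

theorem eq_zero_of_inOrbitClosure_zero (hlin : GLin.IsLinear k A ι) {z : MvPolynomial ι k →ₐ[k] k}
    (hz : GLin.InOrbitClosure k A (GLin.vecPt k ι fun _ => (0 : k)) z) :
    z = GLin.vecPt k ι fun _ => (0 : k) :=
  MvPolynomial.algHom_ext fun i => by
    rw [show z (MvPolynomial.X i) = 0 from hz (orbitHom_zero_X hlin i)]
    simp

/-- If all homogeneous invariants of positive degree vanish at `v`, invariants cannot separate `v` from `0`. -/
theorem eval_eq_of_isNullform (hlin : GLin.IsLinear k A ι) {v : ι → k} (hv : GLin.IsNullform k A v)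
    {F : MvPolynomial ι k} (hF : F ∈ GLin.invariants k A (MvPolynomial ι k)) :
    GLin.vecPt k ι v F = GLin.vecPt k ι (fun _ => (0 : k)) F := by
  rw [← MvPolynomial.sum_homogeneousComponent F, map_sum, map_sum]
  refine Finset.sum_congr rfl fun d _ => ?_
  rcases Nat.eq_zero_or_pos d with rfl | hd
  · simp [MvPolynomial.homogeneousComponent_zero]
  · have h1 : GLin.vecPt k ι v (MvPolynomial.homogeneousComponent d F) = 0 :=
      hv _ (homogeneousComponent_mem_invariants hlin hF d) d hd (MvPolynomial.homogeneousComponent_isHomogeneous d F)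
    rw [h1]
    exact ((MvPolynomial.aeval_zero' (R := k) (σ := ι) _).trans (by
      simp [MvPolynomial.constantCoeff_eq,
        MvPolynomial.coeff_homogeneousComponent, (Nat.pos_iff_ne_zero.1 hd).symm])).symm

end Groth.Agent.GITLib
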