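import Groth.Agent.GITLib.CatQuot
import Mathlib.AlgebraicGeometry.Morphisms.Separated
import Mathlib.AlgebraicGeometry.Morphisms.ClosedImmersion

/-!
# Orbits of a geometric quotient
-/

set_option autoImplicit false

universe u

open CategoryTheory MonoidalCategory CartesianMonoidalCategory MonObj AlgebraicGeometry Topology

namespace Groth.Agent.GITLib

variable {S : Scheme.{u}} {G X Y : Over S} [GrpObj G] {a : AlgGrp.Action G X} {φ : X ⟶ Y}

theorem isPullback_whiskerRight (φ : X ⟶ Y) (T : Over S) :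
    IsPullback (fst X T).left (φ ▷ T).left φ.left (fst Y T).left := by
  refine (IsPullback.of_right (h₁₂ := (snd Y T).left) (v₁₃ := T.hom) (h₂₂ := Y.hom) ?_ ?_
    (IsPullback.of_hasPullback Y.hom T.hom).flip).flip
  · rw [← Over.comp_left, whiskerRight_snd, Over.w]
    exact (IsPullback.of_hasPullback X.hom T.hom).flip
  · exact congrArg CommaMorphism.left (whiskerRight_fst φ T)

theorem isPullback_whiskerLeft (T : Over S) (φ : X ⟶ Y) :
    IsPullback (snd T X).left (T ◁ φ).left φ.left (snd T Y).left := by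
  refine (IsPullback.of_right (h₁₂ := (fst T Y).left) (v₁₃ := T.hom) (h₂₂ := Y.hom) ?_ ?_
    (IsPullback.of_hasPullback T.hom Y.hom)).flip
  · rw [← Over.comp_left, whiskerLeft_fst, Over.w]
    exact IsPullback.of_hasPullback T.hom X.hom
  · exact congrArg CommaMorphism.left (whiskerLeft_snd T φ)

theorem psi_comp_whiskerRight (hi : GIT.IsInvariant a φ) {T : Over S} (f : T ⟶ X) :
    GIT.psi a f ≫ φ ▷ T = snd G T ≫ lift (f ≫ φ) (𝟙 T) := by
  refine CartesianMonoidalCategory.hom_ext _ _ ?_ ?_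
  · simp only [GIT.psi, Category.assoc, whiskerRight_fst, lift_fst, lift_fst_assoc]
    rw [show a.act ≫ φ = snd G X ≫ φ from hi, whiskerLeft_snd_assoc]
  · simp [GIT.psi]

/-- The orbit map of a point has for image the preimage of the image of that point in the quotient. -/
theorem range_psi (h : GIT.IsGeomQuot a φ) {T : Over S} (f : T ⟶ X) :
    Set.range (GIT.psi a f).left.base =
      (φ ▷ T).left.base ⁻¹' Set.range (lift (f ≫ φ) (𝟙 T)).left.base := by
  refine subset_antisymm ?_ ?_
  · rintro _ ⟨g, rfl⟩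
    refine ⟨(snd G T).left.base g, ?_⟩
    exact (congrArg (fun m : G ⊗ T ⟶ Y ⊗ T => m.left.base g) (psi_comp_whiskerRight h.inv f)).symm
  · rintro z ⟨t, ht⟩
    obtain ⟨w, hw, -⟩ := Scheme.Pullback.exists_preimage_pullback (f := (φ ▷ T).left)
      (g := (lift (f ≫ φ) (𝟙 T)).left) z t ht.symm
    let Q := Limits.pullback (φ ▷ T).left (lift (f ≫ φ) (𝟙 T)).left
    let bl : Q ⟶ T.left := Limits.pullback.snd _ _
    let Qo : Over S := Over.mk (bl ≫ T.hom)
    let b : Qo ⟶ T := Over.homMk bl rfl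
    let m : Qo ⟶ X ⊗ T := Over.homMk (Limits.pullback.fst _ _) (by
      show Limits.pullback.fst _ _ ≫ (X ⊗ T).hom = bl ≫ T.hom
      rw [← Over.w (φ ▷ T), ← Over.w (lift (f ≫ φ) (𝟙 T)), Limits.pullback.condition_assoc])
    have hm : m ≫ φ ▷ T = b ≫ lift (f ≫ φ) (𝟙 T) := Over.OverMorphism.ext Limits.pullback.condition
    have hmf : (m ≫ fst X T) ≫ φ = (b ≫ f) ≫ φ := by
      have := congrArg (· ≫ fst Y T) hm
      simpa [Category.assoc] using this
    have hms : m ≫ snd X T = b := by
      have := congrArg (· ≫ snd Y T) hm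
      simpa [Category.assoc] using this
    let c : Q ⟶ Limits.pullback φ.left φ.left :=
      Limits.pullback.lift (m ≫ fst X T).left (b ≫ f).left (congrArg CommaMorphism.left hmf)
    obtain ⟨gp, hgp⟩ := h.orbit (c.base w)
    obtain ⟨r, -, hr⟩ := Scheme.Pullback.exists_preimage_pullback (f := GIT.PsiY a φ h.inv) (g := c) gp w hgp
    let R := Limits.pullback (GIT.PsiY a φ h.inv) c
    let cl : R ⟶ Q := Limits.pullback.snd _ _
    let Ro : Over S := Over.mk (cl ≫ Qo.hom)
    let c' : Ro ⟶ Qo := Over.homMk cl rfl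
    have hact : Limits.pullback.fst (GIT.PsiY a φ h.inv) c ≫ a.act.left = (c' ≫ m ≫ fst X T).left := by
      have := congrArg (· ≫ Limits.pullback.fst φ.left φ.left)
        (Limits.pullback.condition (f := GIT.PsiY a φ h.inv) (g := c))
      simp only [Category.assoc] at this
      rw [show GIT.PsiY a φ h.inv ≫ Limits.pullback.fst φ.left φ.left = a.act.left from Limits.pullback.lift_fst _ _ _,
        show c ≫ Limits.pullback.fst φ.left φ.left = (m ≫ fst X T).left from Limits.pullback.lift_fst _ _ _] at this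
      exact this
    have hsnd : Limits.pullback.fst (GIT.PsiY a φ h.inv) c ≫ (snd G X).left = (c' ≫ b ≫ f).left := by
      have := congrArg (· ≫ Limits.pullback.snd φ.left φ.left)
        (Limits.pullback.condition (f := GIT.PsiY a φ h.inv) (g := c))
      simp only [Category.assoc] at this
      rw [show GIT.PsiY a φ h.inv ≫ Limits.pullback.snd φ.left φ.left = (snd G X).left from Limits.pullback.lift_snd _ _ _,
        show c ≫ Limits.pullback.snd φ.left φ.left = (b ≫ f).left from Limits.pullback.lift_snd _ _ _] at this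
      exact this
    let g : Ro ⟶ G ⊗ X := Over.homMk (Limits.pullback.fst _ _) (by
      rw [← Over.w (snd G X), ← Category.assoc, hsnd, Over.w])
    have hg₁ : g ≫ a.act = c' ≫ m ≫ fst X T := Over.OverMorphism.ext hact
    have hg₂ : g ≫ snd G X = c' ≫ b ≫ f := Over.OverMorphism.ext hsnd
    let hh : Ro ⟶ G ⊗ T := lift (g ≫ fst G X) (c' ≫ b)
    have key : hh ≫ GIT.psi a f = c' ≫ m := by
      refine CartesianMonoidalCategory.hom_ext _ _ ?_ ?_
      · have : hh ≫ G ◁ f = g := CartesianMonoidalCategory.hom_ext _ _ (by simp [hh]) (by simp [hh, hg₂])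
        simp only [GIT.psi, Category.assoc, lift_fst]
        rw [reassoc_of% this, hg₁]
      · simp only [GIT.psi, Category.assoc, lift_snd, hms]
        simp [hh]
    refine ⟨hh.left.base r, ?_⟩
    rw [← hw, ← hr]
    exact congrArg (fun k : Ro ⟶ X ⊗ T => k.left.base r) key

/-- A section at a one-point space has closed image. -/
theorem isClosed_range_section {T W : Scheme.{u}} [Subsingleton T] (p : W ⟶ T) (s : T ⟶ W) (hs : s ≫ p = 𝟙 T) :
    IsClosed (Set.range s.base) := by
  refine closure_subset_iff_isClosed.1 fun z hz => ?_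
  obtain ⟨U, hU, hzU, -⟩ := exists_isAffineOpen_mem_and_subset (x := z) (U := ⊤) trivial
  obtain ⟨_, hwU, t₀, rfl⟩ := mem_closure_iff.1 hz U U.isOpen hzU
  have hr : Set.range s.base ⊆ (U : Set W) := by
    rintro _ ⟨t, rfl⟩; rwa [Subsingleton.elim t t₀]
  have : IsAffine U := hU
  let s' : T ⟶ U := IsOpenImmersion.lift U.ι s (by simpa using hr)
  have hs' : s' ≫ U.ι = s := IsOpenImmersion.lift_fac _ _ _
  have : IsSeparated (U.ι ≫ p) := IsSeparated.of_comp (U.ι ≫ p) (CategoryTheory.Limits.terminal.from T)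
  have : IsClosedImmersion (s' ≫ (U.ι ≫ p)) := by rw [reassoc_of% hs', hs]; infer_instance
  have : IsClosedImmersion s' := IsClosedImmersion.of_comp s' (U.ι ≫ p)
  by_contra hzr
  obtain ⟨C, hC, hCeq⟩ := isOpen_induced_iff.1 (s'.isClosedEmbedding.isClosed_range).isOpen_compl
  have hzC : z ∈ C := by
    have : (⟨z, hzU⟩ : U) ∈ (Set.range s'.base)ᶜ := fun ⟨t, ht⟩ => hzr ⟨t, by
      rw [← hs']; exact congrArg Subtype.val ht⟩
    rw [← hCeq] at this
    exact this
  obtain ⟨_, ⟨hC', hU'⟩, t, rfl⟩ := mem_closure_iff.1 hz (C ∩ U) (hC.inter U.isOpen) ⟨hzC, hzU⟩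
  have hm : (⟨s.base t, hU'⟩ : U) ∈ (Set.range s'.base)ᶜ := by rw [← hCeq]; exact hC'
  exact hm ⟨t, Subtype.ext (by
    show (s' ≫ U.ι).base t = s.base t
    rw [hs'])⟩

/-- The action of a geometric quotient is closed. -/
theorem isClosedAction (h : GIT.IsGeomQuot a φ) : GIT.IsClosedAction a := by
  intro Ω _ _ T e f
  rw [range_psi h]
  refine IsClosed.preimage (φ ▷ T).left.base.hom.continuous ?_
  have : Subsingleton T.left := ⟨fun x y => e.hom.homeomorph.injective (Subsingleton.elim _ _)⟩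
  exact isClosed_range_section (snd Y T).left _ (congrArg CommaMorphism.left (lift_snd (f ≫ φ) (𝟙 T)))

/-- Separatedness of a geometric quotient. -/
theorem isSeparated_iff (h : GIT.IsGeomQuot a φ) :
    IsSeparated Y.hom ↔ IsClosed (Set.range (GIT.psi a (𝟙 X)).left.base) := by
  constructor
  · intro hY
    rw [range_psi h]
    refine IsClosed.preimage (φ ▷ X).left.base.hom.continuous ?_
    have : IsSeparated (snd Y X).left := inferInstanceAs (IsSeparated (Limits.pullback.snd Y.hom X.hom))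
    have : IsClosedImmersion ((lift (𝟙 X ≫ φ) (𝟙 X)).left ≫ (snd Y X).left) := by
      rw [← Over.comp_left, lift_snd]; exact inferInstanceAs (IsClosedImmersion (𝟙 X.left))
    exact (IsClosedImmersion.of_comp (lift (𝟙 X ≫ φ) (𝟙 X)).left (snd Y X).left).base_closed.isClosed_range
  · intro hcl
    have hpre : Set.range (lift (𝟙 X ≫ φ) (𝟙 X)).left.base =
        (Y ◁ φ).left.base ⁻¹' Set.range (lift (𝟙 Y) (𝟙 Y)).left.base := by
      refine subset_antisymm ?_ ?_
      · rintro _ ⟨x, rfl⟩
        refine ⟨φ.left.base x, ?_⟩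
        have : φ ≫ lift (𝟙 Y) (𝟙 Y) = lift (𝟙 X ≫ φ) (𝟙 X) ≫ Y ◁ φ :=
          CartesianMonoidalCategory.hom_ext _ _ (by simp) (by simp)
        exact congrArg (fun m : X ⟶ Y ⊗ Y => m.left.base x) this
      · rintro z ⟨y, hy⟩
        obtain ⟨w, hw, -⟩ := Scheme.Pullback.exists_preimage_pullback (f := (Y ◁ φ).left)
          (g := (lift (𝟙 Y) (𝟙 Y)).left) z y hy.symm
        let Q := Limits.pullback (Y ◁ φ).left (lift (𝟙 Y) (𝟙 Y)).left
        let Qo : Over S := Over.mk (Limits.pullback.fst _ _ ≫ (Y ⊗ X).hom : Q ⟶ S)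
        let m : Qo ⟶ Y ⊗ X := Over.homMk (Limits.pullback.fst _ _) rfl
        let b : Qo ⟶ Y := Over.homMk (Limits.pullback.snd _ _) (by
          show Limits.pullback.snd _ _ ≫ Y.hom = Limits.pullback.fst _ _ ≫ (Y ⊗ X).hom
          rw [← Over.w (Y ◁ φ), ← Over.w (lift (𝟙 Y) (𝟙 Y)), Limits.pullback.condition_assoc])
        have hm : m ≫ Y ◁ φ = b ≫ lift (𝟙 Y) (𝟙 Y) := Over.OverMorphism.ext Limits.pullback.condition
        have key : (m ≫ snd Y X) ≫ lift (𝟙 X ≫ φ) (𝟙 X) = m := by
          refine CartesianMonoidalCategory.hom_ext _ _ ?_ (by simp)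
          have h1 := congrArg (· ≫ fst Y Y) hm
          have h2 := congrArg (· ≫ snd Y Y) hm
          simp only [Category.assoc, whiskerLeft_fst, whiskerLeft_snd, lift_fst, lift_snd, Category.comp_id] at h1 h2
          simp only [Category.assoc, lift_fst, Category.id_comp, h1, h2]
        refine ⟨(m ≫ snd Y X).left.base w, ?_⟩
        rw [← hw]
        exact congrArg (fun k : Qo ⟶ Y ⊗ X => k.left.base w) key
    rw [range_psi h, hpre] at hcl
    have hq₁ : IsQuotientMap (φ ▷ X).left.base := h.subm _ _ _ (isPullback_whiskerRight φ X).flip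
    have hq₂ : IsQuotientMap (Y ◁ φ).left.base := h.subm _ _ _ (isPullback_whiskerLeft Y φ).flip
    have hd : IsClosed (Set.range (lift (𝟙 Y) (𝟙 Y)).left.base) :=
      hq₂.isClosed_preimage.1 (hq₁.isClosed_preimage.1 hcl)
    have e : Limits.pullback.diagonal Y.hom = (lift (𝟙 Y) (𝟙 Y)).left :=
      Limits.pullback.hom_ext
        ((Limits.pullback.diagonal_fst Y.hom).trans (congrArg CommaMorphism.left (lift_fst (𝟙 Y) (𝟙 Y))).symm)
        ((Limits.pullback.diagonal_snd Y.hom).trans (congrArg CommaMorphism.left (lift_snd (𝟙 Y) (𝟙 Y))).symm)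
    exact ⟨IsClosedImmersion.of_isPreimmersion _ (e ▸ hd)⟩

end Groth.Agent.GITLib
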