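import Groth.Agent.GITLib.RigidProper
import Groth.Agent.GITLib.Orbit
import Groth.Agent.AbVarLib.Rigidity
import Groth.Agent.AGFHull.Reduced
import Groth.Prelude.Def_Red
import Mathlib.CategoryTheory.Monoidal.Cartesian.Grp
import Mathlib.AlgebraicGeometry.Morphisms.Smooth

/-!
# Rigidity of morphisms into group schemes
-/

set_option autoImplicit false

universe u

open CategoryTheory CategoryTheory.Limits MonoidalCategory CartesianMonoidalCategory MonObj GrpObj AlgebraicGeometry
  Topology

namespace Groth.Agent.GITLib.Rigid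

section Field

variable {K : Type u} [Field K] {X : Scheme.{u}} (p : X ⟶ Spec (CommRingCat.of K))

/-- A scheme smooth over a field is reduced. -/
theorem isReduced_of_smooth [Smooth p] : IsReduced X := by
  have hred : ∀ U : X.affineOpens, _root_.IsReduced Γ(X, U) := fun U => by
    have h := HasRingHomProperty.appLE (P := @Smooth) p inferInstance ⟨⊤, isAffineOpen_top _⟩ U le_top
    let := (AbVarLib.Rigidity.isField_gammaSpec (K := K)).toField
    let := (p.appLE ⊤ U.1 le_top).hom.toAlgebra
    have : Algebra.Smooth Γ(Spec (CommRingCat.of K), ⊤) Γ(X, U) := h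
    exact AGFHull.isReduced_of_smooth Γ(Spec (CommRingCat.of K), ⊤) Γ(X, U)
  refine @isReduced_of_isReduced_stalk X fun x => ?_
  obtain ⟨U, hU, hxU, -⟩ := exists_isAffineOpen_mem_and_subset (x := x) (U := (⊤ : X.Opens)) trivial
  have := hred ⟨U, hU⟩
  let := X.presheaf.algebra_section_stalk ⟨x, hxU⟩
  have := hU.isLocalization_stalk ⟨x, hxU⟩
  exact isReduced_localizationPreserves (R := Γ(X, U)) (hU.primeIdealOf ⟨x, hxU⟩).asIdeal.primeCompl _ (hred ⟨U, hU⟩)

/-- A proper connected reduced scheme over an algebraically closed field has only constant functions. -/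
theorem bijective_appTop [IsAlgClosed K] [UniversallyClosed p] [IsReduced X] [ConnectedSpace X] :
    Function.Bijective p.appTop := by
  let := (AbVarLib.Rigidity.isField_gammaSpec (K := K)).toField
  have : IsAlgClosed Γ(Spec (CommRingCat.of K), ⊤) :=
    IsAlgClosed.of_ringEquiv K _ (Scheme.ΓSpecIso (CommRingCat.of K)).commRingCatIsoToRingEquiv.symm
  let := p.appTop.hom.toAlgebra
  have hint : Algebra.IsIntegral Γ(Spec (CommRingCat.of K), ⊤) Γ(X, ⊤) :=
    ⟨isIntegral_appTop_of_universallyClosed p⟩
  have hnt : Nontrivial Γ(X, ⊤) := by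
    obtain ⟨x⟩ := (inferInstance : Nonempty X)
    exact (X.presheaf.germ ⊤ x trivial).hom.domain_nontrivial
  have hidem : ∀ e : Γ(X, ⊤), IsIdempotentElem e → e = 0 ∨ e = 1 := by
    intro e he
    have hd : X.basicOpen e ⊓ X.basicOpen (1 - e) = ⊥ := by
      rw [← Scheme.basicOpen_mul, he.mul_one_sub_self, Scheme.basicOpen_zero]
    have hc : X.basicOpen e ⊔ X.basicOpen (1 - e) = ⊤ := by
      refine top_le_iff.1 fun x _ => ?_
      simp only [TopologicalSpace.Opens.mem_sup, Scheme.mem_basicOpen_top]
      have h1 : IsUnit (X.presheaf.germ ⊤ x trivial e + X.presheaf.germ ⊤ x trivial (1 - e)) := by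
        rw [← map_add, add_sub_cancel, map_one]
        exact isUnit_one
      exact IsLocalRing.isUnit_or_isUnit_of_isUnit_add h1
    have hcl : IsClopen (X.basicOpen e : Set X) := by
      refine ⟨isOpen_compl_iff.1 ?_, (X.basicOpen e).isOpen⟩
      convert (X.basicOpen (1 - e)).isOpen using 1
      ext x
      have hd' := TopologicalSpace.Opens.ext_iff.1 hd
      have hc' := TopologicalSpace.Opens.ext_iff.1 hc
      simp only [TopologicalSpace.Opens.coe_inf, TopologicalSpace.Opens.coe_sup, TopologicalSpace.Opens.coe_bot,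
        TopologicalSpace.Opens.coe_top] at hd' hc'
      exact ⟨fun hx => (hc'.ge (Set.mem_univ x)).resolve_left hx, fun hx hxe => hd'.le ⟨hxe, hx⟩⟩
    rcases isClopen_iff.1 hcl with h | h
    · left
      exact (basicOpen_eq_bot_iff e).1 (TopologicalSpace.Opens.ext h)
    · right
      have : X.basicOpen (1 - e) = ⊥ := by
        rw [← hd, show X.basicOpen e = ⊤ from TopologicalSpace.Opens.ext h, top_inf_eq]
      exact (sub_eq_zero.1 ((basicOpen_eq_bot_iff _).1 this)).symm
  have hf : IsField Γ(X, ⊤) := by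
    refine ⟨exists_pair_ne _, mul_comm, fun {a} ha => ?_⟩
    obtain ⟨q, hq, hqa⟩ := hint.isIntegral a
    rw [← Polynomial.aeval_def] at hqa
    obtain ⟨r, hr, hndvd⟩ := Polynomial.exists_eq_pow_rootMultiplicity_mul_and_not_dvd q hq.ne_zero 0
    rw [map_zero, sub_zero] at hr hndvd
    rw [hr, map_mul, map_pow, Polynomial.aeval_X] at hqa
    have har : a * Polynomial.aeval a r = 0 := by
      refine (IsNilpotent.eq_zero ⟨Polynomial.rootMultiplicity 0 q + 1, ?_⟩)
      rw [mul_pow, pow_succ a, pow_succ' (Polynomial.aeval a r)]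
      linear_combination (a * Polynomial.aeval a r ^ Polynomial.rootMultiplicity 0 q) * hqa
    rw [← r.divX_mul_X_add, map_add, map_mul, Polynomial.aeval_X, Polynomial.aeval_C] at har
    have hr0 : r.coeff 0 ≠ 0 := fun h => hndvd (Polynomial.X_dvd_iff.2 h)
    have hu : IsUnit (algebraMap Γ(Spec (CommRingCat.of K), ⊤) Γ(X, ⊤) (r.coeff 0)) :=
      (isUnit_iff_ne_zero.2 hr0).map _
    obtain ⟨c, hc⟩ := hu.exists_left_inv
    let t := -(c * Polynomial.aeval a r.divX)
    have hat : a = a * a * t := by
      linear_combination (c : Γ(X, ⊤)) * har - a * hc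
    have hidem' : IsIdempotentElem (a * t) := by
      unfold IsIdempotentElem
      linear_combination -t * hat
    rcases hidem _ hidem' with h | h
    · exact absurd (by rw [hat, _root_.mul_assoc, h, mul_zero]) ha
    · exact ⟨t, h⟩
  let := hf.toField
  exact IsAlgClosed.algebraMap_bijective_of_isIntegral

end Field

variable {S : Scheme.{u}}

/-- The fibres of a proper smooth scheme with connected geometric fibres have only constant functions. -/
theorem constFibres_of_geomFibre (X : Over S) [IsProper X.hom] [Smooth X.hom]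
    (hc : ∀ s : S, ConnectedSpace (Red.geomFibre s X).left) : ConstFibres X.hom := by
  intro s
  let F := pullback X.hom (S.fromSpecResidueField s)
  let π : F ⟶ Spec (CommRingCat.of (S.residueField s)) := pullback.snd _ _
  let q : Spec (CommRingCat.of (AlgebraicClosure (S.residueField s))) ⟶ Spec (CommRingCat.of (S.residueField s)) :=
    Spec.map (CommRingCat.ofHom (algebraMap (S.residueField s) (AlgebraicClosure (S.residueField s))))
  let e : pullback π q ≅ pullback X.hom (Red.geomPt s) := pullbackLeftPullbackSndIso X.hom _ q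
  have : ConnectedSpace (pullback π q : Scheme.{u}) := by
    have := hc s
    have : ConnectedSpace (pullback X.hom (Red.geomPt s) : Scheme.{u}) := hc s
    exact (Scheme.homeoOfIso e.symm).surjective.connectedSpace (Scheme.homeoOfIso e.symm).continuous
  have : Smooth π := inferInstanceAs (Smooth (pullback.snd _ _))
  have : IsProper π := MorphismProperty.pullback_snd (P := @IsProper) X.hom _ inferInstance
  have : IsReduced (pullback π q : Scheme.{u}) := isReduced_of_smooth (pullback.snd π q)
  exact AbVarLib.Rigidity.finrank_of_isPushout (AbVarLib.Rigidity.isPushout_appTop π q)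
    AbVarLib.Rigidity.isField_gammaSpec AbVarLib.Rigidity.isField_gammaSpec
    (bijective_appTop (pullback.snd π q))

variable {X Y G : Over S} [GrpObj G]

theorem one_left_apply {Z : Over S} (z : Z.left) :
    (1 : Z ⟶ G).left.base z = η[G].left.base (Z.hom.base z) := by
  rw [show (1 : Z ⟶ G) = toUnit Z ≫ η[G] from Hom.one_def, Over.comp_left, Scheme.Hom.comp_apply]
  rfl

variable [IsSeparated G.hom] [IsProper X.hom] [Flat X.hom]

/-- Two morphisms into a group scheme that agree on a fibre differ by a section. -/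
theorem hom_eq_section_mul [IsLocallyNoetherian S] [ConnectedSpace S] (h0 : ConstFibres X.hom)
    (f g : X ⟶ G) (s : S)
    (hs : pullback.fst X.hom (S.fromSpecResidueField s) ≫ f.left =
      pullback.fst X.hom (S.fromSpecResidueField s) ≫ g.left) :
    ∃ t : 𝟙_ (Over S) ⟶ G, f = (toUnit X ≫ t) * g := by
  have : IsLocallyNoetherian X.left := LocallyOfFiniteType.isLocallyNoetherian X.hom
  let Fo : Over S := Over.mk (pullback.fst X.hom (S.fromSpecResidueField s) ≫ X.hom)
  let k : Fo ⟶ X := Over.homMk (pullback.fst X.hom (S.fromSpecResidueField s)) rfl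
  have hk : k ≫ (f * g⁻¹) = 1 := by
    rw [MonObj.comp_mul, GrpObj.comp_inv, show k ≫ f = k ≫ g from Over.OverMorphism.ext hs, mul_inv_cancel]
  have hcol : Collapsed X.hom (f * g⁻¹).left s := by
    have key : ∀ x, X.hom.base x = s → (f * g⁻¹).left.base x = η[G].left.base s := by
      intro x hx
      obtain ⟨z, hz, -⟩ := Scheme.Pullback.exists_preimage_pullback (f := X.hom) (g := S.fromSpecResidueField s) x
        (IsLocalRing.closedPoint _) (by rw [hx]; exact (Scheme.fromSpecResidueField_apply _ _).symm)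
      have h1 : (k ≫ (f * g⁻¹)).left.base z = (1 : Fo ⟶ G).left.base z := by rw [hk]
      rw [one_left_apply, Over.comp_left, Scheme.Hom.comp_apply] at h1
      rw [← hz]
      refine h1.trans (congrArg η[G].left.base ?_)
      rw [← hx, ← hz]
      rfl
    intro x x' hx hx'
    rw [key x hx, key x' hx']
  obtain ⟨t, htq, ht⟩ := rigidity X.hom G.hom (f * g⁻¹).left (Over.w _) h0 s hcol
  refine ⟨Over.homMk t htq, ?_⟩
  rw [← show f * g⁻¹ = toUnit X ≫ Over.homMk t htq from Over.OverMorphism.ext ht, inv_mul_cancel_right]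

/-- A morphism on a product that is trivial along a section of the second factor comes from that factor. -/
theorem eq_snd_comp [IsLocallyNoetherian S] [IsLocallyNoetherian Y.left] (h0 : ConstFibres X.hom) (e : 𝟙_ (Over S) ⟶ Y)
    (F : X ⊗ Y ⟶ G) (hF : (X ◁ e) ≫ F = 1)
    (hconn : ∀ C : Set Y.left, IsClopen C → Set.range e.left.base ⊆ C → C = Set.univ) :
    ∃ h : Y ⟶ G, F = snd X Y ≫ h := by
  let p := (snd X Y).left
  have hp : p = pullback.snd X.hom Y.hom := rfl
  have : IsProper p := inferInstanceAs (IsProper (pullback.snd X.hom Y.hom))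
  have : Flat p := inferInstanceAs (Flat (pullback.snd X.hom Y.hom))
  have : IsLocallyNoetherian (X ⊗ Y).left := LocallyOfFiniteType.isLocallyNoetherian p
  have : IsSeparated (snd G Y).left := inferInstanceAs (IsSeparated (pullback.snd G.hom Y.hom))
  have h0p : ConstFibres p := constFibres_baseChange X.hom h0 Y.hom
  let F' : X ⊗ Y ⟶ G ⊗ Y := lift F (snd X Y)
  obtain ⟨hclopen, hall⟩ := proper_rigidity p (snd G Y).left F'.left
    (congrArg CommaMorphism.left (lift_snd F (snd X Y))) h0p
  have hsub : Set.range e.left.base ⊆ {y | Collapsed p F'.left y} := by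
    rintro _ ⟨s, rfl⟩
    have key : ∀ z, p.base z = e.left.base s → F'.left.base z = (lift η[G] e).left.base s := by
      intro z hz
      obtain ⟨w, hw, hws⟩ := Scheme.Pullback.exists_preimage_pullback (f := p) (g := e.left) z s hz
      let i := (Groth.Agent.GITLib.isPullback_whiskerLeft X e).isoPullback
      obtain ⟨v, rfl⟩ := (Scheme.homeoOfIso (pullbackSymmetry e.left p ≪≫ Iso.refl _)).surjective w
      obtain ⟨u, rfl⟩ := (Scheme.homeoOfIso i).surjective v
      have h1 : (X ◁ e).left.base u = z := by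
        rw [← hw]
        show _ = ((i.hom ≫ (pullbackSymmetry e.left p).hom) ≫ pullback.fst p e.left).base u
        rw [Category.assoc, pullbackSymmetry_hom_comp_fst]
        erw [IsPullback.isoPullback_hom_snd]
      have h2 : (snd X (𝟙_ (Over S))).left.base u = s := by
        rw [← hws]
        show _ = ((i.hom ≫ (pullbackSymmetry e.left p).hom) ≫ pullback.snd p e.left).base u
        rw [Category.assoc, pullbackSymmetry_hom_comp_snd]
        erw [IsPullback.isoPullback_hom_fst]
      have h3 : (X ◁ e) ≫ F' = snd X (𝟙_ (Over S)) ≫ lift η[G] e := by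
        refine CartesianMonoidalCategory.hom_ext _ _ ?_ ?_
        · rw [Category.assoc, Category.assoc, lift_fst, lift_fst, hF, Hom.one_def, toUnit_unique (toUnit _) (snd X _)]
        · rw [Category.assoc, Category.assoc, lift_snd, lift_snd, whiskerLeft_snd]
      rw [← h1, ← h2, ← Scheme.Hom.comp_apply, ← Scheme.Hom.comp_apply, ← Over.comp_left, ← Over.comp_left, h3]
    intro z z' hz hz'
    rw [key z hz, key z' hz']
  obtain ⟨t, htq, ht⟩ := hall fun y => (hconn _ hclopen hsub).ge (Set.mem_univ y)
  let t' : Y ⟶ G ⊗ Y := Over.homMk t (by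
    rw [← Over.w (snd G Y), reassoc_of% htq])
  refine ⟨t' ≫ fst G Y, ?_⟩
  rw [show F = F' ≫ fst G Y from (lift_fst _ _).symm, show F' = snd X Y ≫ t' from Over.OverMorphism.ext ht, Category.assoc]

/-- A morphism on a product is a product of morphisms on the factors. -/
theorem hom_from_product [IsLocallyNoetherian S] [IsLocallyNoetherian Y.left] [ConnectedSpace Y.left]
    (h0 : ConstFibres X.hom) (e : 𝟙_ (Over S) ⟶ Y) (f : X ⊗ Y ⟶ G) :
    ∃ (g : X ⟶ G) (h : Y ⟶ G), f = (fst X Y ≫ g) * (snd X Y ≫ h) := by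
  let g : X ⟶ G := lift (𝟙 X) (toUnit X ≫ e) ≫ f
  have hF : (X ◁ e) ≫ ((fst X Y ≫ g)⁻¹ * f) = 1 := by
    rw [MonObj.comp_mul, GrpObj.comp_inv, whiskerLeft_fst_assoc,
      show fst X (𝟙_ (Over S)) ≫ g = (X ◁ e) ≫ f from ?_, inv_mul_cancel]
    rw [show fst X (𝟙_ (Over S)) ≫ g = (fst X (𝟙_ (Over S)) ≫ lift (𝟙 X) (toUnit X ≫ e)) ≫ f from
      (Category.assoc _ _ _).symm]
    congr 1
    refine CartesianMonoidalCategory.hom_ext _ _ (by simp) ?_
    rw [Category.assoc, lift_snd, whiskerLeft_snd, ← Category.assoc,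
      toUnit_unique (fst X (𝟙_ (Over S)) ≫ toUnit X) (snd X (𝟙_ (Over S)))]
  obtain ⟨h, hh⟩ := eq_snd_comp h0 e _ hF fun C hC hsub =>
    hC.eq_univ (by
      obtain ⟨y⟩ := (inferInstance : Nonempty Y.left)
      exact ⟨_, hsub ⟨Y.hom.base y, rfl⟩⟩)
  exact ⟨g, h, by rw [← hh, mul_inv_cancel_left]⟩

omit [IsSeparated G.hom] [IsProper X.hom] [Flat X.hom] in
theorem isConnected_fibre (X : Over S) (hc : ∀ s : S, ConnectedSpace (Red.geomFibre s X).left) (s : S) :
    _root_.IsPreconnected (X.hom.base ⁻¹' {s}) := by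
  have : ConnectedSpace (pullback X.hom (Red.geomPt s) : Scheme.{u}) := hc s
  have hr : Set.range (pullback.fst X.hom (Red.geomPt s)).base = X.hom.base ⁻¹' {s} := by
    rw [Scheme.Pullback.range_fst]
    congr 1
    refine Set.eq_singleton_iff_nonempty_unique_mem.2 ⟨Set.range_nonempty _, ?_⟩
    rintro _ ⟨z, rfl⟩
    rw [Red.geomPt, Scheme.Hom.comp_apply]
    exact Scheme.fromSpecResidueField_apply _ _
  rw [← hr]
  exact isPreconnected_range (pullback.fst X.hom (Red.geomPt s)).base.hom.continuous

/-- A unit-preserving morphism from an abelian scheme into a separated group scheme is a homomorphism. -/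
theorem isMonHom_of_one [IsLocallyNoetherian S] [GrpObj X] [Smooth X.hom]
    (hc : ∀ s : S, ConnectedSpace (Red.geomFibre s X).left) (f : X ⟶ G) (hf : η[X] ≫ f = η[G]) : IsMonHom f := by
  have h0 := constFibres_of_geomFibre X hc
  have : IsLocallyNoetherian X.left := LocallyOfFiniteType.isLocallyNoetherian X.hom
  let F : X ⊗ X ⟶ G := (μ[X] ≫ f) * (snd X X ≫ f)⁻¹ * (fst X X ≫ f)⁻¹
  have hone : ∀ (Z : Over S), (toUnit Z ≫ η[X]) ≫ f = (1 : Z ⟶ G) := fun Z => by
    rw [Category.assoc, hf, Hom.one_def]
  have hconn : ∀ C : Set X.left, IsClopen C → Set.range η[X].left.base ⊆ C → C = Set.univ := by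
    intro C hC hsub
    refine Set.eq_univ_of_forall fun x => ?_
    have he : X.hom.base (η[X].left.base (X.hom.base x)) = X.hom.base x := by
      rw [← Scheme.Hom.comp_apply, Over.w η[X]]
      rfl
    exact (isConnected_fibre X hc (X.hom.base x)).subset_isClopen hC
      ⟨_, he, hsub ⟨_, rfl⟩⟩ rfl
  have hsndη : snd X (𝟙_ (Over S)) ≫ η[X] = toUnit _ ≫ η[X] := by rw [toUnit_unique (toUnit _) (snd X _)]
  have hF : (X ◁ η[X]) ≫ F = 1 := by
    rw [MonObj.comp_mul, MonObj.comp_mul, GrpObj.comp_inv, GrpObj.comp_inv, whiskerLeft_fst_assoc,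
      whiskerLeft_snd_assoc, MonObj.mul_one_assoc, rightUnitor_hom, ← Category.assoc (snd X _), hsndη, hone,
      inv_one, _root_.mul_one, mul_inv_cancel]
  obtain ⟨h, hh⟩ := eq_snd_comp h0 η[X] F hF hconn
  let j : X ⟶ X ⊗ X := lift (toUnit X ≫ η[X]) (𝟙 X)
  have hh1 : h = 1 := by
    have h1 : j ≫ F = h := by rw [hh, lift_snd_assoc, Category.id_comp]
    have h2 : j ≫ μ[X] = 𝟙 X := by
      rw [← Hom.mul_def, ← Hom.one_def, _root_.one_mul]
    rw [← h1, MonObj.comp_mul, MonObj.comp_mul, GrpObj.comp_inv, GrpObj.comp_inv, reassoc_of% h2,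
      lift_snd_assoc, lift_fst_assoc, Category.id_comp, mul_inv_cancel, _root_.one_mul, hone, inv_one]
  rw [hh1, MonObj.comp_one] at hh
  refine ⟨hf, ?_⟩
  have hkey : μ[X] ≫ f = (fst X X ≫ f) * (snd X X ≫ f) := by
    have := mul_inv_eq_one.1 hh
    exact mul_inv_eq_iff_eq_mul.1 this
  rw [hkey, Hom.mul_def]
  congr 1

end Groth.Agent.GITLib.Rigid
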