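import Groth.Agent.GITLib.TrivFibres
import Groth.Agent.S7494
import Groth.Prelude.Def_W4bk4git07Quot

/-!
# Proper actions with trivial stabilisers are free
-/

set_option autoImplicit false

universe u

open CategoryTheory Limits MonoidalCategory CartesianMonoidalCategory MonObj AlgebraicGeometry

namespace Groth.Agent.GITLib

variable {S : Scheme.{u}} {G X : Over S} [GrpObj G] (a : AlgGrp.Action G X)

/-- The stabiliser is the base when it maps monomorphically: then the action is free. -/
theorem mono_psi_of_mono_stab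
    [Mono (pullback.snd (GIT.psi a (𝟙 X)).left (lift (𝟙 X) (𝟙 X)).left)] :
    Mono (GIT.psi a (𝟙 X)).left := by
  have hpsi : GIT.psi a (𝟙 X) = lift a.act (snd G X) := by
    rw [GIT.psi, MonoidalCategory.whiskerLeft_id, Category.id_comp]
  rw [hpsi]
  refine (Groth.Agent.S7494.result G X a).1 fun T g x e => ?_
  have h1 : ∀ (l : T ⟶ G), lift l x ≫ a.act = x → lift l x ≫ GIT.psi a (𝟙 X) = x ≫ lift (𝟙 X) (𝟙 X) := by
    intro l hl
    rw [hpsi, comp_lift, lift_snd, hl, comp_lift, Category.comp_id]
  have eg := congrArg CommaMorphism.left (h1 g e)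
  have e1 := congrArg CommaMorphism.left (h1 1 (Groth.Agent.S7494.one_act a x))
  have : pullback.lift _ _ eg = pullback.lift _ _ e1 := by
    rw [← cancel_mono (pullback.snd (GIT.psi a (𝟙 X)).left (lift (𝟙 X) (𝟙 X)).left),
      pullback.lift_snd, pullback.lift_snd]
  have h2 := congrArg (fun m => m ≫ pullback.fst (GIT.psi a (𝟙 X)).left (lift (𝟙 X) (𝟙 X)).left) this
  simp only [pullback.lift_fst] at h2
  have h3 : lift g x = lift (1 : T ⟶ G) x := Over.OverMorphism.ext h2
  rw [← Hom.one_def]
  simpa using congrArg (fun l : T ⟶ G ⊗ X => l ≫ fst G X) h3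

/-- A proper monomorphism is a closed immersion. -/
theorem isClosedImmersion_of_isProper_of_mono {Z W : Scheme.{u}} (f : Z ⟶ W) [IsProper f] [Mono f] :
    IsClosedImmersion f := by
  have : LocallyQuasiFinite f := LocallyQuasiFinite.of_injective f.injective
  exact (IsClosedImmersion.iff_isFinite_and_mono f).2 ⟨IsFinite.of_isProper_of_locallyQuasiFinite f, ‹_›⟩

theorem isClosedImmersion_psi_of_trivial (hp : IsProper (GIT.psi a (𝟙 X)).left)
    (htriv : ∀ x : X.left, IsIso ((pullback.snd (GIT.psi a (𝟙 X)).left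
      (lift (𝟙 X) (𝟙 X)).left).fiberToSpecResidueField x)) :
    IsClosedImmersion (GIT.psi a (𝟙 X)).left := by
  have : IsProper (pullback.snd (GIT.psi a (𝟙 X)).left (lift (𝟙 X) (𝟙 X)).left) :=
    MorphismProperty.pullback_snd _ _ hp
  have := isClosedImmersion_of_isProper _ htriv
  have := mono_psi_of_mono_stab a
  exact isClosedImmersion_of_isProper_of_mono _

end Groth.Agent.GITLib
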