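import Groth.Agent.DiagRig.Inj
import Groth.Agent.DiagRig.MultProp
import Groth.Agent.AffGrp.Bridge
import Mathlib.RingTheory.Bialgebra.GroupLike
import Mathlib.RingTheory.Bialgebra.TensorProduct
import Mathlib.RingTheory.Jacobson.Ring

/-!
# Tori over an algebraically closed field: the coordinate ring is spanned by characters
-/

set_option autoImplicit false

universe u

open CategoryTheory Limits MonoidalCategory CartesianMonoidalCategory MonObj AlgebraicGeometry
open scoped TensorProduct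

namespace Groth.Agent.GITLib.TorusChars

variable {k : Type u} [Field k] {A : CommRingCat.{u}} [HopfAlgebra k A]
  {T : Over (Spec (CommRingCat.of k))} [GrpObj T]
  (e₀ : (Spec A).asOver (Spec (CommRingCat.of k)) ≅ T) [IsMonHom e₀.hom]

include e₀ in
/-- After a field extension the coordinate ring is spanned by group-like elements. -/
theorem exists_field_span (hT : Red.IsTorus T) :
    ∃ (K : Type u) (_ : Field K) (_ : Algebra k K),
      ∀ a : A, (1 : K) ⊗ₜ[k] a ∈ Submodule.span K {c : K ⊗[k] A | IsGroupLikeElem K c} := by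
  classical
  obtain ⟨S', f, -, hf, -, hloc⟩ := hT
  obtain ⟨s', -⟩ := hf.surj (show Spec (CommRingCat.of k) from (default : PrimeSpectrum k))
  obtain ⟨U, hs', r, ⟨e⟩⟩ := hloc s'
  let z : U.toScheme := ⟨s', hs'⟩
  let κ := U.toScheme.residueField z
  let j : Spec κ ⟶ U.toScheme := U.toScheme.fromSpecResidueField z
  let φ : CommRingCat.of k ⟶ κ := Spec.preimage (j ≫ U.ι ≫ f)
  letI : Algebra k κ := φ.hom.toAlgebra
  have hp : j ≫ U.ι ≫ f = Spec.map (CommRingCat.ofHom (algebraMap k κ)) := by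
    rw [show CommRingCat.ofHom (algebraMap k κ) = φ from rfl]
    exact (Spec.map_preimage _).symm
  refine ⟨κ, inferInstance, inferInstance, ?_⟩
  let P := (DiagRig.SplitPts.ofIso _ e).restrict j
  have hinj : P.Inj := DiagRig.SplitPts.Inj.restrict (DiagRig.SplitPts.ofIso_inj e) j
  let M := Multiplicative (Fin r → ℤ)
  -- points with values in an algebra
  let Y : ∀ (B : Type u) [CommRing B] [Algebra κ B], Over (Spec κ) := fun B _ _ =>
    Over.mk (Spec.map (CommRingCat.ofHom (algebraMap κ B)))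
  let iB : ∀ (B : Type u) [CommRing B] [Algebra k B] [Algebra κ B] [IsScalarTower k κ B],
      (Spec (CommRingCat.of B)).asOver (Spec (CommRingCat.of k)) ≅ (Over.map (j ≫ U.ι ≫ f)).obj (Y B) :=
    fun B _ _ _ _ => Over.isoMk (Iso.refl _) (by
      show 𝟙 _ ≫ Spec.map (CommRingCat.ofHom (algebraMap κ B)) ≫ (j ≫ U.ι ≫ f) = _
      rw [hp, Category.id_comp, ← Spec.map_comp, ← CommRingCat.ofHom_comp, ← IsScalarTower.algebraMap_eq]
      rfl)
  let tΓ : ∀ (B : Type u) [CommRing B] [Algebra κ B], (M →* B) → (M →* Γ((Y B).left, ⊤)) := fun B _ _ t =>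
    (Scheme.ΓSpecIso (CommRingCat.of B)).inv.hom.toMonoidHom.comp t
  let σ : ∀ (B : Type u) [CommRing B] [Algebra k B] [Algebra κ B] [IsScalarTower k κ B],
      (M →* B) → WithConv (A →ₐ[k] B) := fun B _ _ _ _ t =>
    Spec.mapMulEquiv.symm ((iB B).hom ≫ P.σ (tΓ B t) ≫ e₀.inv)
  have hmul : ∀ (B : Type u) [CommRing B] [Algebra k B] [Algebra κ B] [IsScalarTower k κ B] (s t : M →* B),
      σ B (s * t) = σ B s * σ B t := by
    intro B _ _ _ _ s t
    show Spec.mapMulEquiv.symm _ = _
    rw [show tΓ B (s * t) = tΓ B s * tΓ B t from MonoidHom.ext fun m => (Scheme.ΓSpecIso (CommRingCat.of B)).inv.hom.map_mul _ _, P.σ_mul,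
      MonObj.mul_comp, MonObj.comp_mul, map_mul]
  have hσinj : ∀ (B : Type u) [CommRing B] [Algebra k B] [Algebra κ B] [IsScalarTower k κ B] (s t : M →* B),
      σ B s = σ B t → s = t := by
    intro B _ _ _ _ s t h
    have h1 := hinj _ _ ((cancel_mono e₀.inv).mp ((cancel_epi (iB B).hom).mp (Spec.mapMulEquiv.symm.injective h)))
    exact MonoidHom.ext fun m =>
      (Scheme.ΓSpecIso (CommRingCat.of B)).commRingCatIsoToRingEquiv.symm.injective (DFunLike.congr_fun h1 m)
  have hsurj : ∀ (B : Type u) [CommRing B] [Algebra k B] [Algebra κ B] [IsScalarTower k κ B] (g : A →ₐ[k] B),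
      ∃ t, σ B t = WithConv.toConv g := by
    intro B _ _ _ _ g
    obtain ⟨t, ht⟩ := P.σ_surjective ((iB B).inv ≫ Spec.mapMulEquiv (WithConv.toConv g) ≫ e₀.hom)
    refine ⟨(Scheme.ΓSpecIso (CommRingCat.of B)).hom.hom.toMonoidHom.comp t, ?_⟩
    have h1 : tΓ B ((Scheme.ΓSpecIso (CommRingCat.of B)).hom.hom.toMonoidHom.comp t) = t :=
      MonoidHom.ext fun m => (Scheme.ΓSpecIso (CommRingCat.of B)).commRingCatIsoToRingEquiv.symm_apply_apply (t m)
    show Spec.mapMulEquiv.symm _ = _
    rw [h1, ht]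
    simp only [Category.assoc, Iso.hom_inv_id_assoc, Iso.hom_inv_id, Category.comp_id]
    exact MulEquiv.symm_apply_apply _ _
  have hnat : ∀ (B B' : Type u) [CommRing B] [Algebra k B] [Algebra κ B] [IsScalarTower k κ B]
      [CommRing B'] [Algebra k B'] [Algebra κ B'] [IsScalarTower k κ B'] (α : B →ₐ[κ] B') (t : M →* B),
      (σ B' (α.toRingHom.toMonoidHom.comp t)).ofConv = (α.restrictScalars k).comp (σ B t).ofConv := by
    intro B B' _ _ _ _ _ _ _ _ α t
    let h : Y B' ⟶ Y B := Over.homMk (Spec.map (CommRingCat.ofHom α.toRingHom)) (by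
      show Spec.map _ ≫ Spec.map (CommRingCat.ofHom (algebraMap κ B)) = _
      rw [← Spec.map_comp, ← CommRingCat.ofHom_comp]
      congr 2
      exact α.comp_algebraMap)
    have h1 : tΓ B' (α.toRingHom.toMonoidHom.comp t) = h.left.appTop.hom.toMonoidHom.comp (tΓ B t) :=
      MonoidHom.ext fun m => congrArg (fun g => CommRingCat.Hom.hom g (t m))
        (Scheme.ΓSpecIso_inv_naturality (CommRingCat.ofHom α.toRingHom))
    suffices hs : σ B' (α.toRingHom.toMonoidHom.comp t) = WithConv.toConv ((α.restrictScalars k).comp (σ B t).ofConv) by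
      rw [hs]
    refine (MulEquiv.symm_apply_eq _).mpr ?_
    rw [h1, ← P.σ_comp h]
    apply Over.OverMorphism.ext
    show ((iB B').hom ≫ ((Over.map _).map h ≫ P.σ (tΓ B t)) ≫ e₀.inv).left = _
    have h2 := congrArg (fun g => g.left) (Spec.mapMulEquiv.apply_symm_apply ((iB B).hom ≫ P.σ (tΓ B t) ≫ e₀.inv))
    show 𝟙 _ ≫ (Spec.map (CommRingCat.ofHom α.toRingHom) ≫ (P.σ (tΓ B t)).left) ≫ e₀.inv.left =
      Spec.map (CommRingCat.ofHom ((α.restrictScalars k).toRingHom.comp (σ B t).ofConv.toRingHom))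
    rw [CommRingCat.ofHom_comp, Spec.map_comp, Category.id_comp, Category.assoc]
    refine congrArg (Spec.map (CommRingCat.ofHom α.toRingHom) ≫ ·) ?_
    refine Eq.trans ?_ h2.symm
    show _ = 𝟙 _ ≫ (P.σ (tΓ B t)).left ≫ e₀.inv.left
    rw [Category.id_comp]
  -- the generic point
  let B₁ := κ ⊗[k] A
  obtain ⟨t₀, ht₀⟩ := hsurj B₁ Algebra.TensorProduct.includeRight
  have hgl : ∀ m, IsGroupLikeElem κ (t₀ m) := by
    intro m
    have hcomulσ : σ (B₁ ⊗[κ] B₁) ((Bialgebra.comulAlgHom κ B₁).toRingHom.toMonoidHom.comp t₀) =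
        σ (B₁ ⊗[κ] B₁) (((Algebra.TensorProduct.includeLeft : B₁ →ₐ[κ] B₁ ⊗[κ] B₁).toRingHom.toMonoidHom.comp t₀) *
          ((Algebra.TensorProduct.includeRight : B₁ →ₐ[κ] B₁ ⊗[κ] B₁).toRingHom.toMonoidHom.comp t₀)) := by
      apply WithConv.ofConv_injective
      rw [hmul, hnat, AlgHom.convMul_def, hnat, hnat, ht₀]
      refine AlgHom.ext fun a => ?_
      show CoalgebraStruct.comul (R := κ) ((1 : κ) ⊗ₜ[k] a) = Algebra.TensorProduct.lmul' k
        (Algebra.TensorProduct.map _ _ (CoalgebraStruct.comul (R := k) a))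
      rw [TensorProduct.comul_tmul]
      generalize CoalgebraStruct.comul (R := k) a = z
      induction z using TensorProduct.induction_on with
      | zero => simp
      | tmul x y =>
        simp [Bialgebra.comul_one, Algebra.TensorProduct.one_def, Algebra.TensorProduct.includeRight_apply, Algebra.TensorProduct.includeLeft_apply]
        rfl
      | add x y hx hy => simp only [TensorProduct.tmul_add, map_add, hx, hy]
    have h1 := DFunLike.congr_fun (hσinj _ _ _ hcomulσ) m
    have h2 : CoalgebraStruct.comul (R := κ) (t₀ m) = t₀ m ⊗ₜ[κ] t₀ m := by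
      refine h1.trans ?_
      show (t₀ m ⊗ₜ[κ] (1 : B₁)) * ((1 : B₁) ⊗ₜ[κ] t₀ m) = _
      rw [Algebra.TensorProduct.tmul_mul_tmul, _root_.mul_one, _root_.one_mul]
    refine ⟨?_, h2⟩
    have h3 := congrArg (fun w => TensorProduct.lid κ B₁ ((CoalgebraStruct.counit (R := κ) (A := B₁)).rTensor B₁ w)) h2
    simp only [Coalgebra.rTensor_counit_comul, TensorProduct.lid_tmul, one_smul, LinearMap.rTensor_tmul] at h3
    have hu : IsUnit (t₀ m) := IsUnit.map t₀ (Group.isUnit m)
    have h5 : (CoalgebraStruct.counit (R := κ) (t₀ m)) • (1 : B₁) = 1 :=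
      hu.mul_right_cancel (by rw [smul_mul_assoc, _root_.one_mul, ← h3])
    have h6 := congrArg (Bialgebra.counitAlgHom κ B₁) h5
    rw [map_smul, map_one, smul_eq_mul, _root_.mul_one] at h6
    exact h6
  -- spanning
  intro a
  let B' : Subalgebra κ B₁ := Algebra.adjoin κ (Set.range t₀)
  let t₀' : M →* B' :=
    { toFun := fun m => ⟨t₀ m, Algebra.subset_adjoin ⟨m, rfl⟩⟩
      map_one' := Subtype.ext (map_one t₀)
      map_mul' := fun x y => Subtype.ext (map_mul t₀ x y) }
  have h1 := hnat B' B₁ B'.val t₀'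
  rw [show B'.val.toRingHom.toMonoidHom.comp t₀' = t₀ from MonoidHom.ext fun m => rfl, ht₀] at h1
  have h2 : (1 : κ) ⊗ₜ[k] a ∈ B' := by
    have := DFunLike.congr_fun h1 a
    rw [show (1 : κ) ⊗ₜ[k] a = ((σ B' t₀').ofConv a : B₁) from this]
    exact SetLike.coe_mem _
  have h3 : Subalgebra.toSubmodule B' ≤ Submodule.span κ {c : B₁ | IsGroupLikeElem κ c} := by
    rw [Algebra.adjoin_eq_span, ← MonoidHom.coe_mrange, Submonoid.closure_eq, MonoidHom.coe_mrange]
    refine Submodule.span_mono ?_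
    rintro _ ⟨m, rfl⟩
    exact hgl m
  exact h3 h2

variable [IsAlgClosed k]

/-- Descent of the spanning to an algebraically closed field. -/
theorem span_groupLike_eq_top (K : Type u) [Field K] [Algebra k K]
    (h : ∀ a : A, (1 : K) ⊗ₜ[k] a ∈ Submodule.span K {c : K ⊗[k] A | IsGroupLikeElem K c}) :
    Submodule.span k {c : A | IsGroupLikeElem k c} = ⊤ := by
  classical
  rw [eq_top_iff]
  intro a _
  obtain ⟨c, hc, hsum⟩ := Submodule.mem_span_set.mp (h a)
  choose S hS using fun y : K ⊗[k] A => TensorProduct.exists_finset (R := k) y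
  let F : Finset K := c.support.biUnion (fun y => (S y).image Prod.fst) ∪ c.support.image c
  let R₀ := Algebra.adjoin k (F : Set K)
  have : Algebra.FiniteType k R₀ := (Subalgebra.fg_iff_finiteType _).mp ⟨F, rfl⟩
  obtain ⟨𝔪, h𝔪⟩ := Ideal.exists_maximal R₀
  haveI : 𝔪.IsMaximal := h𝔪
  letI : Field (R₀ ⧸ 𝔪) := Ideal.Quotient.field 𝔪
  have : Module.Finite k (R₀ ⧸ 𝔪) := finite_of_finite_type_of_isJacobsonRing k (R₀ ⧸ 𝔪)
  have : Algebra.IsIntegral k (R₀ ⧸ 𝔪) := inferInstance
  let x : R₀ →ₐ[k] k := (AlgEquiv.ofBijective (Algebra.ofId k (R₀ ⧸ 𝔪))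
    IsAlgClosed.algebraMap_bijective_of_isIntegral).symm.toAlgHom.comp (Ideal.Quotient.mkₐ k 𝔪)
  let jR : R₀ ⊗[k] A →ₐ[k] K ⊗[k] A := Algebra.TensorProduct.map R₀.val (AlgHom.id k A)
  have hjR : Function.Injective jR := by
    have h1 : jR.toLinearMap = R₀.val.toLinearMap.rTensor A := TensorProduct.ext' fun _ _ => rfl
    intro u v huv
    exact Module.Flat.rTensor_preserves_injective_linearMap (M := A) R₀.val.toLinearMap Subtype.val_injective
      ((LinearMap.congr_fun h1 u).symm.trans (huv.trans (LinearMap.congr_fun h1 v)))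
  let ev : R₀ ⊗[k] A →ₐ[k] A := (Algebra.TensorProduct.lid k A).toAlgHom.comp
    (Algebra.TensorProduct.map x (AlgHom.id k A))
  have hmem : ∀ y ∈ c.support, ∀ q ∈ S y, q.1 ∈ R₀ := fun y hy q hq => Algebra.subset_adjoin (Finset.mem_union_left _
    (Finset.mem_biUnion.mpr ⟨y, hy, Finset.mem_image_of_mem _ hq⟩))
  have hcmem : ∀ y ∈ c.support, c y ∈ R₀ := fun y hy => Algebra.subset_adjoin (Finset.mem_union_right _
    (Finset.mem_image_of_mem _ hy))
  have hlift : ∀ y : K ⊗[k] A, y ∈ c.support → ∃ y₀ : R₀ ⊗[k] A, jR y₀ = y := fun y hy =>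
    ⟨∑ q ∈ (S y).attach, (⟨q.1.1, hmem y hy q.1 q.2⟩ : R₀) ⊗ₜ[k] q.1.2, by
      rw [map_sum]
      refine Eq.trans ?_ (hS y).symm
      rw [← Finset.sum_attach (S y)]
      rfl⟩
  choose y₀ hy₀ using hlift
  have hgl : ∀ (y) (hy : y ∈ c.support), IsGroupLikeElem k (ev (y₀ y hy)) := by
    intro y hy
    have hg : IsGroupLikeElem K y := hc hy
    rw [← hy₀ y hy] at hg
    have e1 : Algebra.TensorProduct.map (AlgHom.id k R₀) (Bialgebra.counitAlgHom k A) (y₀ y hy) = 1 := by
      have key : ∀ u : R₀ ⊗[k] A, CoalgebraStruct.counit (R := K) (jR u) =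
          ((Algebra.TensorProduct.rid k R₀ R₀ (Algebra.TensorProduct.map (AlgHom.id k R₀)
            (Bialgebra.counitAlgHom k A) u) : R₀) : K) := by
        intro u
        induction u using TensorProduct.induction_on with
        | zero => simp
        | tmul r a => simp [jR, TensorProduct.counit_tmul, Algebra.smul_def, mul_comm]
        | add u v hu hv => simp only [map_add, hu, hv, Subalgebra.coe_add]
      refine (Algebra.TensorProduct.rid k R₀ R₀).injective (Subtype.ext ?_)
      rw [← key, hg.counit_eq_one, map_one]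
      rfl
    let jR₂ : R₀ ⊗[k] (A ⊗[k] A) →ₐ[k] K ⊗[k] (A ⊗[k] A) :=
      Algebra.TensorProduct.map R₀.val (AlgHom.id k (A ⊗[k] A))
    have hjR₂ : Function.Injective jR₂ := by
      have h1 : jR₂.toLinearMap = R₀.val.toLinearMap.rTensor (A ⊗[k] A) := TensorProduct.ext' fun _ _ => rfl
      intro u v huv
      exact Module.Flat.rTensor_preserves_injective_linearMap (M := A ⊗[k] A) R₀.val.toLinearMap Subtype.val_injective
        ((LinearMap.congr_fun h1 u).symm.trans (huv.trans (LinearMap.congr_fun h1 v)))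
    let g₁ : A →ₐ[k] A ⊗[k] A := Algebra.TensorProduct.includeLeft
    let g₂ : A →ₐ[k] A ⊗[k] A := Algebra.TensorProduct.includeRight
    let θ : (K ⊗[k] A) ⊗[K] (K ⊗[k] A) →ₐ[K] K ⊗[k] (A ⊗[k] A) :=
      Algebra.TensorProduct.lift (Algebra.TensorProduct.map (AlgHom.id K K) g₁)
        (Algebra.TensorProduct.map (AlgHom.id K K) g₂) (fun _ _ => Commute.all _ _)
    have key2 : ∀ w : R₀ ⊗[k] A, θ (CoalgebraStruct.comul (R := K) (jR w)) =
        jR₂ (Algebra.TensorProduct.map (AlgHom.id k R₀) (Bialgebra.comulAlgHom k A) w) := by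
      intro w
      induction w using TensorProduct.induction_on with
      | zero => simp
      | add u v hu hv => simp only [map_add, hu, hv]
      | tmul r a =>
        simp only [jR, jR₂, Algebra.TensorProduct.map_tmul, AlgHom.id_apply, TensorProduct.comul_tmul,
          Bialgebra.comulAlgHom_apply, CommSemiring.comul_apply]
        generalize CoalgebraStruct.comul (R := k) a = z
        induction z using TensorProduct.induction_on with
        | zero => simp
        | tmul p q => simp [θ, g₁, g₂]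
        | add u v hu hv => simp only [TensorProduct.tmul_add, map_add, hu, hv]
    have e2 : Algebra.TensorProduct.map (AlgHom.id k R₀) (Bialgebra.comulAlgHom k A) (y₀ y hy) =
        Algebra.TensorProduct.map (AlgHom.id k R₀) g₁ (y₀ y hy) *
          Algebra.TensorProduct.map (AlgHom.id k R₀) g₂ (y₀ y hy) := by
      apply hjR₂
      rw [← key2, hg.comul_eq_tmul_self, map_mul, Algebra.TensorProduct.lift_tmul]
      congr 1
      all_goals
        generalize y₀ y hy = w
        induction w using TensorProduct.induction_on with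
        | zero => simp
        | add u v hu hv => simp only [map_add, hu, hv]
        | tmul r a => simp [jR, jR₂]
    have hev : ∀ {D : Type u} [CommRing D] [Algebra k D] (g : A →ₐ[k] D) (w : R₀ ⊗[k] A),
        Algebra.TensorProduct.lift ((Algebra.ofId k D).comp x) (AlgHom.id k D) (fun _ _ => Commute.all _ _)
          (Algebra.TensorProduct.map (AlgHom.id k R₀) g w) = g (ev w) := by
      intro D _ _ g w
      induction w using TensorProduct.induction_on with
      | zero => simp
      | tmul r a => simp [ev, Algebra.smul_def]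
      | add u v hu hv => simp only [map_add, hu, hv]
    refine ⟨?_, ?_⟩
    · rw [← Bialgebra.counitAlgHom_apply, ← hev, e1, map_one]
    · rw [← Bialgebra.comulAlgHom_apply, ← hev, e2, map_mul, hev, hev]
      show (ev (y₀ y hy) ⊗ₜ[k] (1 : A)) * ((1 : A) ⊗ₜ[k] ev (y₀ y hy)) = _
      rw [Algebra.TensorProduct.tmul_mul_tmul, _root_.mul_one, _root_.one_mul]
  have ha : (1 : R₀) ⊗ₜ[k] a = ∑ y ∈ c.support.attach, ((⟨c y.1, hcmem y.1 y.2⟩ : R₀) ⊗ₜ[k] (1 : A)) * y₀ y.1 y.2 := by
    apply hjR
    rw [map_sum]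
    show (1 : K) ⊗ₜ[k] a = _
    rw [← hsum, Finsupp.sum, ← Finset.sum_attach c.support]
    refine Finset.sum_congr rfl fun y _ => ?_
    rw [map_mul, hy₀, Algebra.smul_def]
    rfl
  have ha' := congrArg ev ha
  rw [map_sum] at ha'
  rw [show a = ev ((1 : R₀) ⊗ₜ[k] a) by simp [ev], ha']
  refine Submodule.sum_mem _ fun y _ => ?_
  rw [map_mul, show ev ((⟨c y.1, hcmem y.1 y.2⟩ : R₀) ⊗ₜ[k] (1 : A)) = algebraMap k A (x ⟨c y.1, hcmem y.1 y.2⟩) by
    simp [ev, Algebra.algebraMap_eq_smul_one], ← Algebra.smul_def]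
  exact Submodule.smul_mem _ _ (Submodule.subset_span (hgl y.1 y.2))

include e₀ in
/-- **The coordinate ring of a torus over an algebraically closed field is spanned by characters.** -/
theorem span_eq_top (hT : Red.IsTorus T) : Submodule.span k {c : A | IsGroupLikeElem k c} = ⊤ := by
  obtain ⟨K, _, _, h⟩ := exists_field_span e₀ hT
  exact span_groupLike_eq_top K h

end Groth.Agent.GITLib.TorusChars
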