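import Groth.Agent.GITLib.ExtendPoint
import Mathlib.AlgebraicGeometry.Morphisms.Integral
import Mathlib.AlgebraicGeometry.Morphisms.Finite

/-!
# Generic sections of integral schemes over a normal scheme
-/

set_option autoImplicit false

universe u

open CategoryTheory Limits AlgebraicGeometry

namespace Groth.Agent.GITLib

/-- A finite-type integral scheme over a normal integral scheme with a point over the function field has a
section. -/
theorem exists_section_of_isIntegralHom {X Y : Scheme.{u}} [IsIntegral X]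
    (hX : ∀ x, IsIntegrallyClosed (X.presheaf.stalk x)) (p : Y ⟶ X) [IsIntegralHom p] [LocallyOfFiniteType p]
    (z : Spec X.functionField ⟶ Y) (hz : z ≫ p = X.fromSpecStalk (genericPoint X)) :
    ∃ s : X ⟶ Y, s ≫ p = 𝟙 X ∧ X.fromSpecStalk (genericPoint X) ≫ s = z := by
  refine exists_section_of_lifts p z fun x => ?_
  have := hX x
  let A := X.presheaf.stalk x
  let K := X.functionField
  let ζ : Spec K ⟶ Spec A := Spec.map (CommRingCat.ofHom (algebraMap A K))
  have hζ : ζ ≫ X.fromSpecStalk x = X.fromSpecStalk (genericPoint X) :=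
    Scheme.SpecMap_stalkSpecializes_fromSpecStalk ((genericPoint_spec X).specializes trivial)
  let W := pullback p (X.fromSpecStalk x)
  have : IsIntegralHom (pullback.snd p (X.fromSpecStalk x)) := MorphismProperty.pullback_snd _ _ ‹_›
  have : IsAffine W := isAffine_of_isAffineHom (pullback.snd p (X.fromSpecStalk x))
  let w : Spec K ⟶ W := pullback.lift z ζ (hz.trans hζ.symm)
  let ρ : A ⟶ Γ(W, ⊤) := Spec.preimage (W.isoSpec.inv ≫ pullback.snd p (X.fromSpecStalk x))
  let θ : Γ(W, ⊤) ⟶ K := Spec.preimage (w ≫ W.isoSpec.hom)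
  have hρ : Spec.map ρ = W.isoSpec.inv ≫ pullback.snd p (X.fromSpecStalk x) := Spec.map_preimage _
  have hθ : Spec.map θ = w ≫ W.isoSpec.hom := Spec.map_preimage _
  have hcomp : ρ ≫ θ = CommRingCat.ofHom (algebraMap A K) := Spec.map_injective (by
    rw [Spec.map_comp, hθ, hρ, Category.assoc, Iso.hom_inv_id_assoc]
    exact pullback.lift_snd _ _ _)
  have hint : ρ.hom.IsIntegral := IsIntegralHom.SpecMap_iff.mp (hρ ▸ inferInstance)
  let e : A ≃+* (algebraMap A K).range := RingEquiv.ofBijective (algebraMap A K).rangeRestrict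
    ⟨fun a b h => IsFractionRing.injective A K (congrArg Subtype.val h), (algebraMap A K).rangeRestrict_surjective⟩
  have hmem : ∀ c, θ.hom c ∈ (algebraMap A K).range := fun c => by
    obtain ⟨f, hf, hfc⟩ := hint c
    refine IsIntegrallyClosed.isIntegral_iff.mp ⟨f, hf, ?_⟩
    rw [show algebraMap A K = θ.hom.comp ρ.hom by rw [← CommRingCat.hom_comp, hcomp]; rfl, ← Polynomial.hom_eval₂, hfc, map_zero]
  let σ : Γ(W, ⊤) ⟶ A := CommRingCat.ofHom (e.symm.toRingHom.comp (θ.hom.codRestrict _ hmem))
  have hσ : σ ≫ CommRingCat.ofHom (algebraMap A K) = θ := CommRingCat.hom_ext (RingHom.ext fun c =>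
    congrArg Subtype.val (e.apply_symm_apply (θ.hom.codRestrict _ hmem c)))
  have hρσ : ρ ≫ σ = 𝟙 A := CommRingCat.hom_ext (RingHom.ext fun a => IsFractionRing.injective A K (by
    show (ρ ≫ σ ≫ CommRingCat.ofHom (algebraMap A K)).hom a = algebraMap A K a
    rw [hσ, hcomp]
    rfl))
  refine ⟨Spec.map σ ≫ W.isoSpec.inv ≫ pullback.fst p (X.fromSpecStalk x), ?_, ?_⟩
  · simp only [Category.assoc, pullback.condition]
    have h : Spec.map σ ≫ W.isoSpec.inv ≫ pullback.snd p (X.fromSpecStalk x) = 𝟙 _ := by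
      rw [← hρ, ← Spec.map_comp, hρσ, Spec.map_id]
    rw [reassoc_of% h]
  · rw [← Category.assoc, ← Spec.map_comp]
    refine (congrArg (fun m => Spec.map m ≫ _) hσ).trans ?_
    rw [hθ, Category.assoc, Iso.hom_inv_id_assoc]
    exact pullback.lift_fst _ _ _

end Groth.Agent.GITLib
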