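import Groth.Agent.AlgSpCov.SchemeDescent
import Mathlib.AlgebraicGeometry.Sites.Fpqc

/-!
# Descent of properties along fpqc covering families
-/

set_option autoImplicit false

universe u

open CategoryTheory CategoryTheory.Limits AlgebraicGeometry

namespace Groth.Agent.GITLib

/-- A property stable under base change, Zariski local on the target and descending along faithfully flat
quasi-compact morphisms descends along fpqc covering families. -/
theorem of_fpqc_cover {P : MorphismProperty Scheme.{u}} [P.IsStableUnderBaseChange]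
    [IsZariskiLocalAtTarget P] [P.DescendsAlong AlgSpCov.Fpqc] {X S : Scheme.{u}} (p : X ⟶ S)
    {R : Presieve S} (hR : R ∈ Scheme.fpqcPrecoverage S)
    (h : ∀ ⦃S' : Scheme.{u}⦄ (f : S' ⟶ S), R f → P (pullback.fst f p)) : P p := by
  obtain ⟨ι, W, c, rfl⟩ := R.exists_eq_ofArrows
  let E : PreZeroHypercover S := ⟨ι, W, c⟩
  have hR' : Presieve.ofArrows W c ∈ (Scheme.qcPrecoverage ⊓ Scheme.precoverage @Flat) S := hR
  have hqc : QuasiCompactCover E := Scheme.presieve₀_mem_qcPrecoverage_iff.1 hR'.1
  have hflat : ∀ i, Flat (c i) := ((Scheme.ofArrows_mem_precoverage_iff _).1 hR'.2).2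
  rw [IsZariskiLocalAtTarget.iff_of_iSup_eq_top (P := P) (fun U : S.affineOpens => U.1)
    (iSup_affineOpens_eq_top S)]
  intro U
  obtain ⟨n, j, V, hV, hU⟩ :=
    QuasiCompactCover.exists_isAffineOpen_of_isCompact E (U := U.1) U.2.isCompact
  have hle : ∀ i, (V i : (W (j i)).Opens) ≤ c (j i) ⁻¹ᵁ U.1 := fun i x hx => by
    show (c (j i)).base x ∈ U.1
    rw [← SetLike.mem_coe, ← hU]
    exact Set.mem_iUnion.2 ⟨i, x, hx, rfl⟩
  let c' : ∀ i, ((V i : (W (j i)).Opens) : Scheme.{u}) ⟶ U.1 := fun i => (c (j i)).resLE U.1 (V i) (hle i)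
  have hc' : ∀ i, c' i ≫ U.1.ι = (V i).ι ≫ c (j i) := fun i => Scheme.Hom.resLE_comp_ι _ _
  have : IsAffine U.1 := U.2
  have : ∀ i, IsAffine (V i) := hV
  have : ∀ i, Flat (c' i) := fun i => by
    have := hflat (j i)
    have : Flat (c' i ≫ U.1.ι) := by rw [hc']; infer_instance
    exact MorphismProperty.of_postcomp (W := @Flat) (W' := @IsOpenImmersion) (c' i) U.1.ι inferInstance this
  refine AlgSpCov.of_finite_family (p ∣_ U.1) (fun i => ((V i : (W (j i)).Opens) : Scheme.{u})) c' ?_ ?_
  · intro z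
    have hz : (z.1 : S) ∈ ⋃ i, c (j i) '' (V i) := by rw [hU]; exact z.2
    obtain ⟨i, x, hx, he⟩ := Set.mem_iUnion.1 hz
    refine ⟨i, ⟨x, hx⟩, Subtype.ext ?_⟩
    rw [← he]
    exact congrArg (fun m : ((V i : (W (j i)).Opens) : Scheme.{u}) ⟶ S => m.base ⟨x, hx⟩) (hc' i)
  · intro i
    let q := (V i).ι ≫ c (j i)
    have hmem : pullback.snd q p ≫ p = (pullback.fst q p ≫ c' i) ≫ U.1.ι := by
      rw [← pullback.condition, Category.assoc, hc']
    let sq := (isPullback_morphismRestrict p U.1).flip
    let l := sq.lift (pullback.snd q p) (pullback.fst q p ≫ c' i) hmem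
    refine ⟨pullback q p, pullback.fst q p, l, ?_, ?_⟩
    · refine (IsPullback.of_right (v₁₃ := p) (h₁₂ := (p ⁻¹ᵁ U.1).ι) ?_ ?_ sq).flip
      · rw [sq.lift_fst, hc']
        exact (IsPullback.of_hasPullback q p).flip
      · exact sq.lift_snd _ _ _
    · let L := pullback.lift (f := c (j i)) (g := p) (pullback.fst q p ≫ (V i).ι) (pullback.snd q p)
          (by rw [Category.assoc]; exact pullback.condition)
      have hL : L ≫ pullback.snd (c (j i)) p = pullback.snd q p := pullback.lift_snd _ _ _
      have big : IsPullback (L ≫ pullback.snd (c (j i)) p) (pullback.fst q p) p ((V i).ι ≫ c (j i)) := by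
        rw [hL]; exact (IsPullback.of_hasPullback q p).flip
      have sq' : IsPullback L (pullback.fst q p) (pullback.fst (c (j i)) p) (V i).ι :=
        IsPullback.of_right big (pullback.lift_fst _ _ _) (IsPullback.of_hasPullback (c (j i)) p).flip
      exact MorphismProperty.of_isPullback sq' (h _ (Presieve.ofArrows.mk (j i)))

end Groth.Agent.GITLib
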