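import Mathlib.AlgebraicGeometry.SpreadingOut
import Mathlib.AlgebraicGeometry.ValuativeCriterion
import Mathlib.AlgebraicGeometry.FunctionField
import Mathlib.AlgebraicGeometry.Morphisms.Proper

/-!
# Points of proper schemes over schemes whose local rings are valuation rings
-/

set_option autoImplicit false

universe u

open CategoryTheory Limits AlgebraicGeometry

namespace Groth.Agent.GITLib

/-- A point over the function field which lifts to every local ring extends to a section, for a separated
target locally of finite type. -/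
theorem exists_section_of_lifts {X Y : Scheme.{u}} [IsIntegral X] (p : Y ⟶ X) [IsSeparated p] [LocallyOfFiniteType p]
    (z : Spec X.functionField ⟶ Y)
    (hl : ∀ x : X, ∃ l : Spec (X.presheaf.stalk x) ⟶ Y, l ≫ p = X.fromSpecStalk x ∧
      Spec.map (CommRingCat.ofHom (algebraMap (X.presheaf.stalk x) X.functionField)) ≫ l = z) :
    ∃ s : X ⟶ Y, s ≫ p = 𝟙 X ∧ X.fromSpecStalk (genericPoint X) ≫ s = z := by
  let ζ (x : X) : Spec X.functionField ⟶ Spec (X.presheaf.stalk x) :=
    Spec.map (CommRingCat.ofHom (algebraMap (X.presheaf.stalk x) X.functionField))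
  have hζ (x : X) : ζ x ≫ X.fromSpecStalk x = X.fromSpecStalk (genericPoint X) :=
    Scheme.SpecMap_stalkSpecializes_fromSpecStalk ((genericPoint_spec X).specializes trivial)
  have key (x : X) : ∃ (U : X.Opens) (hx : x ∈ U) (f : U.toScheme ⟶ Y) (g : Spec X.functionField ⟶ U.toScheme),
      f ≫ p = U.ι ∧ g ≫ f = z ∧ g ≫ U.ι = X.fromSpecStalk (genericPoint X) := by
    obtain ⟨l, hl₂, hl₁⟩ := hl x
    obtain ⟨U, hx, f, hf, hfp⟩ := spread_out_of_isGermInjective' (𝟙 X) p (x := x) l
      (hl₂.trans (Category.comp_id _).symm)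
    refine ⟨U, hx, f, ζ x ≫ U.fromSpecStalkOfMem x hx, hfp.trans (Category.comp_id _), ?_, ?_⟩
    · rw [Category.assoc, ← hf]
      exact hl₁
    · rw [Category.assoc, Scheme.Opens.fromSpecStalkOfMem_ι, hζ]
  choose U hx f g hf hgf hgι using key
  let 𝒰 : X.OpenCover := X.openCoverOfIsOpenCover U
    (TopologicalSpace.IsOpenCover.mk (TopologicalSpace.Opens.ext (Set.eq_univ_of_forall fun x =>
      TopologicalSpace.Opens.mem_iSup.mpr ⟨x, hx x⟩)))
  let s : X ⟶ Y := 𝒰.glueMorphisms f fun (x y : X) => by
    have : Nonempty ↥(pullback (U x).ι (U y).ι) := ⟨(pullback.lift (g x) (g y) ((hgι x).trans (hgι y).symm)) (IsLocalRing.closedPoint X.functionField)⟩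
    let w := pullback.fst (U x).ι (U y).ι ≫ (U x).ι
    have : IsReduced (pullback (U x).ι (U y).ι) := isReduced_of_isOpenImmersion w
    let e : Spec X.functionField ⟶ pullback (U x).ι (U y).ι :=
      pullback.lift (g x) (g y) ((hgι x).trans (hgι y).symm)
    have he : e ≫ w = X.fromSpecStalk (genericPoint X) :=
      (pullback.lift_fst_assoc _ _ _ _).trans (hgι x)
    have : IsDominant e := ⟨by
      have hc := Scheme.fromSpecStalk_closedPoint (X := X) (x := genericPoint X)
      intro q
      rw [w.isOpenEmbedding.isInducing.closure_eq_preimage_closure_image, Set.mem_preimage]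
      refine closure_mono (Set.singleton_subset_iff.mpr ?_) ((genericPoint_spec X).specializes trivial).mem_closure
      refine ⟨_, ⟨IsLocalRing.closedPoint X.functionField, rfl⟩, ?_⟩
      refine ((Scheme.Hom.comp_apply e w _).symm.trans ?_).trans hc
      rw [he]⟩
    refine @ext_of_isDominant_of_isSeparated _ _ _ _ (inferInstance : IsReduced (pullback (U x).ι (U y).ι)) _ _ p _ ?_ e _ ?_
    · show (pullback.fst (U x).ι (U y).ι ≫ f x) ≫ p = (pullback.snd (U x).ι (U y).ι ≫ f y) ≫ p
      rw [Category.assoc, Category.assoc, hf, hf, pullback.condition]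
    · show e ≫ pullback.fst (U x).ι (U y).ι ≫ f x = e ≫ pullback.snd (U x).ι (U y).ι ≫ f y
      rw [pullback.lift_fst_assoc, pullback.lift_snd_assoc, hgf, hgf]
  refine ⟨s, 𝒰.hom_ext _ _ fun x => ?_, ?_⟩
  · exact ((Category.assoc _ _ _).symm.trans ((congrArg (· ≫ p) (Scheme.Cover.ι_glueMorphisms 𝒰 f _ x)).trans
      (hf x))).trans (Category.comp_id _).symm
  · have h : (U (genericPoint X)).ι ≫ s = f (genericPoint X) := Scheme.Cover.ι_glueMorphisms 𝒰 f _ (genericPoint X)
    rw [← hgι (genericPoint X), Category.assoc, h, hgf]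

/-- If all local rings of an integral scheme `X` are valuation rings, a point over the function field of a
proper `X`-scheme extends to a section. -/
theorem exists_section_of_genericPoint {X Y : Scheme.{u}} [IsIntegral X]
    (hV : ∀ x, ValuationRing (X.presheaf.stalk x)) (p : Y ⟶ X) [IsProper p]
    (z : Spec X.functionField ⟶ Y) (hz : z ≫ p = X.fromSpecStalk (genericPoint X)) :
    ∃ s : X ⟶ Y, s ≫ p = 𝟙 X ∧ X.fromSpecStalk (genericPoint X) ≫ s = z := by
  have hp : ValuativeCriterion.Existence p := by
    have h : UniversallyClosed p := inferInstance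
    rw [UniversallyClosed.eq_valuativeCriterion] at h
    exact h.1
  refine exists_section_of_lifts p z fun x => ?_
  have := hV x
  have hd : IsDomain (X.presheaf.stalk x) := inferInstance
  obtain ⟨l, hl₁, hl₂⟩ := (hp
    { R := (X.presheaf.stalk x : Type u)
      commRing := (X.presheaf.stalk x).commRing
      domain := hd
      valuationRing := this
      K := (X.functionField : Type u)
      i₁ := z
      i₂ := X.fromSpecStalk x
      commSq := ⟨hz.trans
        (Scheme.SpecMap_stalkSpecializes_fromSpecStalk ((genericPoint_spec X).specializes trivial)).symm⟩ }).exists_lift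
  exact ⟨l, hl₂, hl₁⟩

end Groth.Agent.GITLib
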