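import Groth.Prelude.Def_W4bk4git07Quot
import Mathlib.AlgebraicGeometry.PullbackCarrier
import Mathlib.AlgebraicGeometry.AffineScheme
import Mathlib.AlgebraicGeometry.Restrict

/-!
# Criteria for categorical quotients
-/

set_option autoImplicit false

universe u

open CategoryTheory MonoidalCategory CartesianMonoidalCategory MonObj AlgebraicGeometry Topology

namespace Groth.Agent.GITLib

variable {S : Scheme.{u}} {G X Y : Over S} [GrpObj G] {a : AlgGrp.Action G X} {φ : X ⟶ Y}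

/-- Naturality of `Opens.toSpecΓ`. -/
theorem resLE_toSpecΓ {X Y : Scheme.{u}} (f : X ⟶ Y) (U : Y.Opens) (V : X.Opens) (e : V ≤ f ⁻¹ᵁ U) :
    f.resLE U V e ≫ U.toSpecΓ = V.toSpecΓ ≫ Spec.map (f.appLE U V e) := by
  delta Scheme.Opens.toSpecΓ
  rw [Scheme.toSpecΓ_naturality_assoc, ← Spec.map_comp, Category.assoc, ← Spec.map_comp]
  congr 2
  rw [Scheme.Hom.appTop, Scheme.Hom.resLE_app_top, Iso.inv_hom_id_assoc]

/-- A surjective morphism, injective on functions, is an epimorphism for morphisms into schemes. -/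
theorem hom_ext_of_app_injective {X Y Z : Scheme.{u}} (f : X ⟶ Y) (hs : Function.Surjective f.base)
    (hinj : ∀ U : Y.Opens, Function.Injective (f.app U)) {χ χ' : Y ⟶ Z} (h : f ≫ χ = f ≫ χ') : χ = χ' := by
  have hb : ∀ y, χ.base y = χ'.base y := fun y => by
    obtain ⟨x, rfl⟩ := hs y
    exact congrArg (fun g : X ⟶ Z => g.base x) h
  refine Scheme.Cover.hom_ext (Y.openCoverOfIsOpenCover (fun V : Z.affineOpens => χ ⁻¹ᵁ V.1)
    (TopologicalSpace.IsOpenCover.mk (eq_top_iff.2 fun y _ => TopologicalSpace.Opens.mem_iSup.2 ?_))) _ _ fun V => ?_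
  · obtain ⟨V, hV, hy, -⟩ := exists_isAffineOpen_mem_and_subset (x := χ.base y) (U := ⊤) trivial
    exact ⟨⟨V, hV⟩, hy⟩
  show (χ ⁻¹ᵁ V.1).ι ≫ χ = (χ ⁻¹ᵁ V.1).ι ≫ χ'
  have e' : χ ⁻¹ᵁ V.1 ≤ χ' ⁻¹ᵁ V.1 := fun y hy => by
    show χ'.base y ∈ V.1
    rw [← hb]; exact hy
  rw [← Scheme.Hom.resLE_comp_ι χ (le_refl (χ ⁻¹ᵁ V.1)), ← Scheme.Hom.resLE_comp_ι χ' e']
  have : IsAffine V.1 := V.2
  congr 1
  refine ext_of_isAffine ?_
  simp only [Scheme.Hom.appTop, Scheme.Hom.resLE_app_top]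
  congr 2
  ext s
  refine hinj _ ?_
  have h1 : ∀ (g : Y ⟶ Z) (e : χ ⁻¹ᵁ V.1 ≤ g ⁻¹ᵁ V.1),
      g.appLE V.1 (χ ⁻¹ᵁ V.1) e ≫ f.app (χ ⁻¹ᵁ V.1) =
        (f ≫ g).appLE V.1 (f ⁻¹ᵁ (χ ⁻¹ᵁ V.1)) (fun x hx => e hx) := by
    intro g e
    rw [Scheme.Hom.app_eq_appLE, Scheme.Hom.appLE_comp_appLE]
  have a1 := congrArg (fun g => (ConcreteCategory.hom g) s) (h1 χ le_rfl)
  have a2 := congrArg (fun g => (ConcreteCategory.hom g) s) (h1 χ' e')
  simp only [ConcreteCategory.comp_apply] at a1 a2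
  rw [a1, a2]
  simp only [h]

/-- Pullback along an invariant morphism gives an invariant set. -/
theorem preimage_invariant {Z : Over S} {ψ : X ⟶ Z} (hψ : GIT.IsInvariant a ψ) (T : Set Z.left) :
    a.act.left.base '' ((snd G X).left.base ⁻¹' (ψ.left.base ⁻¹' T)) ⊆ ψ.left.base ⁻¹' T := by
  rintro _ ⟨g, hg, rfl⟩
  have := congrArg (fun f : (G ⊗ X).left ⟶ Z.left => f.base g) hψ.left
  simp only [Scheme.Hom.comp_base, TopCat.hom_comp, ContinuousMap.comp_apply] at this
  simp only [Set.mem_preimage] at hg ⊢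
  rw [this]; exact hg

/-- The pullback of a function along an invariant morphism is an invariant section. -/
theorem isInvSection_appLE {Z : Over S} {ψ : X ⟶ Z} (hψ : GIT.IsInvariant a ψ) (U : Y.left.Opens)
    (V : Z.left.Opens) (e : φ.left ⁻¹ᵁ U ≤ ψ.left ⁻¹ᵁ V) (s : Γ(Z.left, V)) :
    GIT.IsInvSection a φ U (ψ.left.appLE V (φ.left ⁻¹ᵁ U) e s) := by
  unfold GIT.IsInvSection
  rw [← ConcreteCategory.comp_apply, ← ConcreteCategory.comp_apply, Scheme.Hom.appLE_comp_appLE,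
    Scheme.Hom.appLE_comp_appLE]
  simp only [hψ.left]

/-- The criterion for a categorical quotient. -/
theorem isCatQuot_of_closed_images (hi : GIT.IsInvariant a φ)
    (hii : ∀ U : Y.left.Opens,
      Function.Injective (φ.left.app U) ∧ Set.range (φ.left.app U) = {f | GIT.IsInvSection a φ U f})
    (hsurj : Function.Surjective φ.left.base)
    (hiii : ∀ W : Set X.left, IsClosed W → a.act.left.base '' ((snd G X).left.base ⁻¹' W) ⊆ W →
      IsClosed (φ.left.base '' W))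
    (hiii' : ∀ (J : Type u) (W : J → Set X.left),
      (∀ i, IsClosed (W i) ∧ a.act.left.base '' ((snd G X).left.base ⁻¹' W i) ⊆ W i) →
      φ.left.base '' (⋂ i, W i) = ⋂ i, φ.left.base '' W i) :
    GIT.IsCatQuot a φ := by
  refine ⟨hi, fun Z ψ hψ => ?_⟩
  let W : Z.left.affineOpens → Set X.left := fun V => ψ.left.base ⁻¹' (V.1 : Set Z.left)ᶜ
  have hW : ∀ V, IsClosed (W V) ∧ a.act.left.base '' ((snd G X).left.base ⁻¹' W V) ⊆ W V := fun V =>
    ⟨V.1.isOpen.isClosed_compl.preimage ψ.left.base.hom.continuous, preimage_invariant hψ _⟩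
  let U : Z.left.affineOpens → Y.left.Opens := fun V =>
    ⟨(φ.left.base '' W V)ᶜ, (hiii _ (hW V).1 (hW V).2).isOpen_compl⟩
  have hU : ∀ V, φ.left ⁻¹ᵁ U V ≤ ψ.left ⁻¹ᵁ V.1 := by
    intro V x hx
    by_contra hx'
    exact hx ⟨x, hx', rfl⟩
  have hcov : TopologicalSpace.IsOpenCover U := by
    refine TopologicalSpace.IsOpenCover.mk (eq_top_iff.2 fun y _ => TopologicalSpace.Opens.mem_iSup.2 ?_)
    by_contra hy
    have hy' : y ∈ ⋂ V, φ.left.base '' W V := Set.mem_iInter.2 fun V => by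
      by_contra hV
      exact hy ⟨V, hV⟩
    rw [← hiii' _ W hW] at hy'
    obtain ⟨x, hx, -⟩ := hy'
    obtain ⟨V, hV, hxV, -⟩ := exists_isAffineOpen_mem_and_subset (x := ψ.left.base x) (U := ⊤) trivial
    exact (Set.mem_iInter.1 hx ⟨V, hV⟩) hxV
  have hring : ∀ V, ∃ h : Γ(Z.left, V.1) ⟶ Γ(Y.left, U V),
      h ≫ φ.left.app (U V) = ψ.left.appLE V.1 (φ.left ⁻¹ᵁ U V) (hU V) := by
    intro V
    have hm : ∀ s, ψ.left.appLE V.1 (φ.left ⁻¹ᵁ U V) (hU V) s ∈ (φ.left.app (U V)).hom.range := fun s => by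
      rw [RingHom.mem_range]
      have h2 : ψ.left.appLE V.1 (φ.left ⁻¹ᵁ U V) (hU V) s ∈ Set.range (φ.left.app (U V)) := by
        rw [(hii (U V)).2]; exact isInvSection_appLE hψ _ _ _ s
      exact h2
    let e := RingEquiv.ofBijective (φ.left.app (U V)).hom.rangeRestrict
      ⟨fun x y hxy => (hii (U V)).1 (congrArg Subtype.val hxy), RingHom.rangeRestrict_surjective _⟩
    refine ⟨CommRingCat.ofHom (e.symm.toRingHom.comp ((ψ.left.appLE V.1 _ (hU V)).hom.codRestrict _ hm)), ?_⟩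
    ext s
    exact congrArg Subtype.val (e.apply_symm_apply ⟨_, hm s⟩)
  choose h hh using hring
  let χ : ∀ V : Z.left.affineOpens, ((U V : Y.left.Opens) : Scheme.{u}) ⟶ Z.left := fun V =>
    (U V).toSpecΓ ≫ Spec.map (h V) ≫ (show IsAffineOpen V.1 from V.2).fromSpec
  have hχ : ∀ V, φ.left ∣_ U V ≫ χ V = (φ.left ⁻¹ᵁ U V).ι ≫ ψ.left := by
    intro V
    rw [← Scheme.Hom.resLE_eq_morphismRestrict]
    simp only [χ]
    rw [← Category.assoc, resLE_toSpecΓ, Category.assoc, ← Spec.map_comp_assoc,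
      Scheme.Hom.appLE_eq_app, hh V, ← Category.assoc, ← resLE_toSpecΓ ψ.left V.1 _ (hU V),
      Category.assoc, IsAffineOpen.toSpecΓ_fromSpec, Scheme.Hom.resLE_comp_ι]
  have hepi : ∀ (O : Y.left.Opens) {T : Scheme.{u}} {g g' : (O : Scheme.{u}) ⟶ T},
      φ.left ∣_ O ≫ g = φ.left ∣_ O ≫ g' → g = g' := by
    intro O T g g'
    refine hom_ext_of_app_injective _ ?_ (fun Q => ?_)
    · intro y
      obtain ⟨x, hx⟩ := hsurj y.1
      exact ⟨⟨x, show φ.left.base x ∈ O from hx ▸ y.2⟩, Subtype.ext (by rw [morphismRestrict_base]; exact hx)⟩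
    · rw [morphismRestrict_app]
      refine fun s t hst => (hii (O.ι ''ᵁ Q)).1 ?_
      simp only [ConcreteCategory.comp_apply] at hst
      exact (ConcreteCategory.bijective_of_isIso _).1 hst
  have hglue : ∀ V V' : Z.left.affineOpens,
      Limits.pullback.fst (U V).ι (U V').ι ≫ χ V = Limits.pullback.snd (U V).ι (U V').ι ≫ χ V' := by
    intro V V'
    let O := U V ⊓ U V'
    let j : (O : Scheme.{u}) ⟶ Limits.pullback (U V).ι (U V').ι :=
      Limits.pullback.lift (Y.left.homOfLE inf_le_left) (Y.left.homOfLE inf_le_right) (by simp)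
    have : IsIso j := by
      have H := isPullback_opens_inf (U V) (U V')
      have hj : j = H.isoPullback.hom := Limits.pullback.hom_ext
        (by rw [IsPullback.isoPullback_hom_fst]; exact Limits.pullback.lift_fst _ _ _)
        (by rw [IsPullback.isoPullback_hom_snd]; exact Limits.pullback.lift_snd _ _ _)
      rw [hj]; infer_instance
    rw [← cancel_epi j, Limits.pullback.lift_fst_assoc, Limits.pullback.lift_snd_assoc]
    refine hepi O ?_
    have h1 : ∀ (V'' : Z.left.affineOpens) (e : O ≤ U V''),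
        φ.left ∣_ O ≫ Y.left.homOfLE e ≫ χ V'' = (φ.left ⁻¹ᵁ O).ι ≫ ψ.left := by
      intro V'' e
      rw [← Scheme.Hom.resLE_eq_morphismRestrict, Scheme.Hom.resLE_map_assoc,
        ← Scheme.Hom.map_resLE φ.left (U := U V'') le_rfl (show φ.left ⁻¹ᵁ O ≤ φ.left ⁻¹ᵁ U V'' from fun x hx => e hx),
        Category.assoc, Scheme.Hom.resLE_eq_morphismRestrict, hχ, Scheme.homOfLE_ι_assoc]
    rw [h1 V, h1 V']
  let 𝒰 := Y.left.openCoverOfIsOpenCover U hcov
  let g : Y.left ⟶ Z.left := 𝒰.glueMorphisms χ hglue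
  have hg : φ.left ≫ g = ψ.left := by
    have hcov' : TopologicalSpace.IsOpenCover (fun V => φ.left ⁻¹ᵁ U V) :=
      TopologicalSpace.IsOpenCover.mk (eq_top_iff.2 fun x _ => by
        obtain ⟨V, hV⟩ : ∃ V, φ.left.base x ∈ U V :=
          TopologicalSpace.Opens.mem_iSup.1 (hcov.iSup_eq_top.ge trivial)
        exact TopologicalSpace.Opens.mem_iSup.2 ⟨V, hV⟩)
    refine Scheme.Cover.hom_ext (X.left.openCoverOfIsOpenCover (fun V => φ.left ⁻¹ᵁ U V) hcov') _ _ fun V => ?_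
    show (φ.left ⁻¹ᵁ U V).ι ≫ φ.left ≫ g = (φ.left ⁻¹ᵁ U V).ι ≫ ψ.left
    rw [← morphismRestrict_ι_assoc]
    exact (congrArg (φ.left ∣_ U V ≫ ·) (𝒰.ι_glueMorphisms χ hglue V)).trans (hχ V)
  have hgS : g ≫ Z.hom = Y.hom :=
    hom_ext_of_app_injective φ.left hsurj (fun O => (hii O).1) (by
      rw [← Category.assoc, hg, Over.w, Over.w])
  refine ⟨Over.homMk g hgS, Over.OverMorphism.ext hg, fun χ' hχ' => Over.OverMorphism.ext ?_⟩
  exact hom_ext_of_app_injective φ.left hsurj (fun O => (hii O).1) (by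
    show φ.left ≫ χ'.left = φ.left ≫ g
    rw [hg, ← Over.comp_left, hχ'])

/-- Two points with the same image under a geometric quotient lie in one orbit. -/
theorem exists_act_eq (h : GIT.IsGeomQuot a φ) {x x' : X.left} (e : φ.left.base x' = φ.left.base x) :
    ∃ g, a.act.left.base g = x' ∧ (snd G X).left.base g = x := by
  obtain ⟨p, hp₁, hp₂⟩ := Scheme.Pullback.exists_preimage_pullback x' x e
  obtain ⟨g, hg⟩ := h.orbit p
  refine ⟨g, ?_, ?_⟩
  · rw [← hp₁, ← hg, ← Scheme.Hom.comp_apply]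
    exact (congrArg (fun m : (G ⊗ X).left ⟶ X.left => m.base g) (Limits.pullback.lift_fst _ _ h.inv.left)).symm
  · rw [← hp₂, ← hg, ← Scheme.Hom.comp_apply]
    exact (congrArg (fun m : (G ⊗ X).left ⟶ X.left => m.base g) (Limits.pullback.lift_snd _ _ h.inv.left)).symm

theorem preimage_image_eq (h : GIT.IsGeomQuot a φ) {W : Set X.left}
    (hW : a.act.left.base '' ((snd G X).left.base ⁻¹' W) ⊆ W) :
    φ.left.base ⁻¹' (φ.left.base '' W) = W := by
  refine subset_antisymm ?_ (Set.subset_preimage_image _ _)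
  rintro x' ⟨x, hx, e⟩
  obtain ⟨g, rfl, hg⟩ := exists_act_eq h e.symm
  exact hW ⟨g, by show (snd G X).left.base g ∈ W; rw [hg]; exact hx, rfl⟩

theorem isQuotientMap (h : GIT.IsGeomQuot a φ) : IsQuotientMap φ.left.base :=
  MorphismProperty.universally_le _ _ h.subm

/-- A geometric quotient is a categorical quotient. -/
theorem isCatQuot_of_isGeomQuot (h : GIT.IsGeomQuot a φ) : GIT.IsCatQuot a φ :=
  isCatQuot_of_closed_images h.inv h.sections h.surj
    (fun W hW hW' => (isQuotientMap h).isClosed_preimage.1 (by rwa [preimage_image_eq h hW']))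
    (fun J W hW => by
      refine subset_antisymm (Set.image_iInter_subset _ _) fun y hy => ?_
      obtain ⟨x, rfl⟩ := h.surj y
      refine ⟨x, Set.mem_iInter.2 fun i => ?_, rfl⟩
      rw [← preimage_image_eq h (hW i).2]
      exact Set.mem_iInter.1 hy i)

end Groth.Agent.GITLib
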