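import Groth.Agent.GITLib.Rigid
import Mathlib.AlgebraicGeometry.ResidueField
import Mathlib.AlgebraicGeometry.Morphisms.QuasiSeparated

/-!
# Rigidity for proper flat families
-/

set_option autoImplicit false

universe u

open CategoryTheory CategoryTheory.Limits AlgebraicGeometry Topology Opposite TopologicalSpace

namespace Groth.Agent.GITLib.Rigid

theorem appLE_top {A B : Scheme.{u}} (f : A ⟶ B) (h : (⊤ : A.Opens) ≤ f ⁻¹ᵁ ⊤) :
    f.appLE ⊤ ⊤ h = f.appTop := by simp [Scheme.Hom.appLE, Scheme.Hom.appTop]

/-- Flat base change for global functions, in the form: an iso stays an iso. -/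
theorem isIso_appTop_of_isPullback {F F' K K' : Scheme.{u}} [IsAffine K] [IsAffine K'] {a : F' ⟶ F}
    {b : F ⟶ K} {b' : F' ⟶ K'} {r : K' ⟶ K} (H : IsPullback a b' b r) [Flat r] [CompactSpace F]
    [QuasiSeparatedSpace F] (hb : IsIso b.appTop) : IsIso b'.appTop := by
  have hiso := isIso_pushoutSection_of_isQuasiSeparated_of_flat_right H
    (US := ⊤) (UT := ⊤) (UX := ⊤) (UY := ⊤) (by simp) (by simp) (by simp)
    (isAffineOpen_top _) (isAffineOpen_top _) isCompact_univ
    (isQuasiSeparated_univ_iff.2 inferInstance)
  have hpo := (isIso_pushoutSection_iff ..).1 hiso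
  simp only [appLE_top] at hpo
  exact hpo.isIso_inr_of_isIso hb

variable {S X Y : Scheme.{u}} (p : X ⟶ S) (q : Y ⟶ S) (f : X ⟶ Y)

/-- A morphism to an affine scheme factors through a morphism inducing an iso on global functions. -/
theorem exists_factor {F K V : Scheme.{u}} [IsAffine V] (b : F ⟶ K) [IsIso b.appTop] (a : F ⟶ V) :
    ∃ τ : K ⟶ V, a = b ≫ τ := by
  refine ⟨K.toSpecΓ ≫ Spec.map (a.appTop ≫ inv b.appTop) ≫ V.isoSpec.inv, ?_⟩
  rw [Scheme.toSpecΓ_naturality_assoc, ← Spec.map_comp_assoc, Category.assoc, IsIso.inv_hom_id,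
    Category.comp_id, ← Scheme.toSpecΓ_naturality_assoc]
  simp [← Scheme.isoSpec_hom]

/-- On a collapsed fibre the morphism factors through the residue field. -/
theorem exists_factor_of_collapsed (h0 : ConstFibres p) {s : S} (hs : Collapsed p f s) :
    ∃ τ : Spec (S.residueField s) ⟶ Y,
      pullback.fst p (S.fromSpecResidueField s) ≫ f = pullback.snd p (S.fromSpecResidueField s) ≫ τ := by
  obtain ⟨x₀, hx₀⟩ := (surjective_of_constFibres p h0).1 s
  obtain ⟨V, hV, hyV, -⟩ := exists_isAffineOpen_mem_and_subset (x := f.base x₀) (U := (⊤ : Y.Opens)) trivial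
  have : IsAffine V := hV
  have hr : Set.range (pullback.fst p (S.fromSpecResidueField s) ≫ f).base ⊆ Set.range V.ι.base := by
    rintro _ ⟨z, rfl⟩
    rw [Scheme.Opens.range_ι]
    have hz : p.base ((pullback.fst p (S.fromSpecResidueField s)).base z) = s := by
      rw [← Scheme.Hom.comp_apply, pullback.condition, Scheme.Hom.comp_apply]
      exact Scheme.fromSpecResidueField_apply _ _
    show f.base ((pullback.fst p (S.fromSpecResidueField s)).base z) ∈ V
    rw [hs _ x₀ hz hx₀]
    exact hyV
  have : IsIso (pullback.snd p (S.fromSpecResidueField s)).appTop :=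
    (ConcreteCategory.isIso_iff_bijective _).2 (h0 s)
  obtain ⟨τ, hτ⟩ := exists_factor (pullback.snd p (S.fromSpecResidueField s)) (IsOpenImmersion.lift V.ι _ hr)
  exact ⟨τ ≫ V.ι, by rw [← Category.assoc, ← hτ, IsOpenImmersion.lift_fac]⟩

variable [IsProper p]

/-- Constancy of functions on the fibres is stable under base change along the map itself. -/
theorem constFibres_baseChange (h0 : ConstFibres p) {X₁ : Scheme.{u}} (g : X₁ ⟶ S) :
    ConstFibres (pullback.snd p g) := by
  intro x₀
  have hfac : Spec.map (g.residueFieldMap x₀) ≫ S.fromSpecResidueField (g.base x₀) =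
      X₁.fromSpecResidueField x₀ ≫ g := Scheme.Hom.SpecMap_residueFieldMap_fromSpecResidueField g x₀
  let a : pullback (pullback.snd p g) (X₁.fromSpecResidueField x₀) ⟶
      pullback p (S.fromSpecResidueField (g.base x₀)) :=
    pullback.lift (pullback.fst _ _ ≫ pullback.fst p g)
      (pullback.snd _ _ ≫ Spec.map (g.residueFieldMap x₀)) (by
        rw [Category.assoc, pullback.condition, pullback.condition_assoc, Category.assoc, hfac])
  have H : IsPullback a (pullback.snd (pullback.snd p g) (X₁.fromSpecResidueField x₀))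
      (pullback.snd p (S.fromSpecResidueField (g.base x₀))) (Spec.map (g.residueFieldMap x₀)) := by
    refine IsPullback.of_right ?_ (pullback.lift_snd _ _ _) (IsPullback.of_hasPullback _ _)
    rw [show a ≫ pullback.fst p (S.fromSpecResidueField (g.base x₀)) = pullback.fst _ _ ≫ pullback.fst p g from
      pullback.lift_fst _ _ _, hfac]
    exact (IsPullback.of_hasPullback (pullback.snd p g) (X₁.fromSpecResidueField x₀)).flip.paste_vert
      (IsPullback.of_hasPullback p g).flip |>.flip
  have : Flat (Spec.map (g.residueFieldMap x₀)) := by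
    rw [HasRingHomProperty.Spec_iff (P := @Flat)]
    let := (g.residueFieldMap x₀).hom.toAlgebra
    exact Module.Flat.of_free
  have : IsProper (pullback.snd p (S.fromSpecResidueField (g.base x₀))) := inferInstance
  have : CompactSpace (pullback p (S.fromSpecResidueField (g.base x₀)) : Scheme.{u}) :=
    QuasiCompact.compactSpace_of_compactSpace (pullback.snd p (S.fromSpecResidueField (g.base x₀)))
  have : QuasiSeparatedSpace (pullback p (S.fromSpecResidueField (g.base x₀)) : Scheme.{u}) :=
    quasiSeparatedSpace_of_quasiSeparated (pullback.snd p (S.fromSpecResidueField (g.base x₀)))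
  exact (ConcreteCategory.isIso_iff_bijective _).1
    (isIso_appTop_of_isPullback H ((ConcreteCategory.isIso_iff_bijective _).2 (h0 _)))

variable [Flat p] [IsLocallyNoetherian X] [IsLocallyNoetherian S] [IsSeparated q]

/-- Rigidity for a proper family: the collapsed fibres form a clopen set, and if all fibres collapse
the morphism comes from a section. -/
theorem proper_rigidity (hf : f ≫ q = p) (h0 : ConstFibres p) :
    IsClopen {s | Collapsed p f s} ∧
      ((∀ s, Collapsed p f s) → ∃ t : S ⟶ Y, t ≫ q = 𝟙 S ∧ f = p ≫ t) := by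
  let p' := pullback.snd p p
  let q' := pullback.snd q p
  let f' : pullback p p ⟶ pullback q p := pullback.lift (pullback.fst p p ≫ f) (pullback.snd p p) (by
    rw [Category.assoc, hf, pullback.condition])
  have hf' : f' ≫ q' = p' := pullback.lift_snd _ _ _
  have hf'1 : f' ≫ pullback.fst q p = pullback.fst p p ≫ f := pullback.lift_fst _ _ _
  have : IsLocallyNoetherian (pullback p p) := LocallyOfFiniteType.isLocallyNoetherian p'
  have h0' : ConstFibres p' := constFibres_baseChange p h0 p
  obtain ⟨hclopen, hall⟩ := isClopen_collapsed p' q' f' hf' h0' p'.isClosedMap (pullback.diagonal p)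
    (pullback.diagonal_snd p)
  have hiff : ∀ x₀, Collapsed p' f' x₀ ↔ Collapsed p f (p.base x₀) := by
    intro x₀
    constructor
    · intro h x x' hx hx'
      obtain ⟨z, hz, hz₀⟩ := Scheme.Pullback.exists_preimage_pullback (f := p) (g := p) x x₀ hx
      obtain ⟨z', hz', hz₀'⟩ := Scheme.Pullback.exists_preimage_pullback (f := p) (g := p) x' x₀ hx'
      have := congrArg (pullback.fst q p).base (h z z' hz₀ hz₀')
      rwa [← Scheme.Hom.comp_apply, ← Scheme.Hom.comp_apply, hf'1, Scheme.Hom.comp_apply,
        Scheme.Hom.comp_apply, hz, hz'] at this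
    · intro h
      obtain ⟨τ, hτ⟩ := exists_factor_of_collapsed p f h0 h
      let r := Spec.map (p.residueFieldMap x₀)
      have hfac : r ≫ S.fromSpecResidueField (p.base x₀) = X.fromSpecResidueField x₀ ≫ p :=
        Scheme.Hom.SpecMap_residueFieldMap_fromSpecResidueField p x₀
      let a : pullback p' (X.fromSpecResidueField x₀) ⟶ pullback p (S.fromSpecResidueField (p.base x₀)) :=
        pullback.lift (pullback.fst _ _ ≫ pullback.fst p p) (pullback.snd _ _ ≫ r) (by
          rw [Category.assoc, pullback.condition, pullback.condition_assoc, Category.assoc, hfac])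
      have ha1 : a ≫ pullback.fst p _ = pullback.fst _ _ ≫ pullback.fst p p := pullback.lift_fst _ _ _
      have ha2 : a ≫ pullback.snd p _ = pullback.snd _ _ ≫ r := pullback.lift_snd _ _ _
      have key : pullback.fst p' (X.fromSpecResidueField x₀) ≫ f' ≫ pullback.fst q p =
          pullback.snd p' (X.fromSpecResidueField x₀) ≫ r ≫ τ := by
        rw [hf'1, ← reassoc_of% ha1, hτ, reassoc_of% ha2]
      have hw : (r ≫ τ) ≫ q = X.fromSpecResidueField x₀ ≫ p := by
        have : Epi (pullback.snd p' (X.fromSpecResidueField x₀)) := by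
          have : Surjective (pullback.snd p' (X.fromSpecResidueField x₀)) := by
            have := surjective_of_constFibres p' h0'
            infer_instance
          infer_instance
        rw [← cancel_epi (pullback.snd p' (X.fromSpecResidueField x₀)), Category.assoc,
          ← reassoc_of% key, pullback.condition, reassoc_of% hf', pullback.condition_assoc]
      let σ : Spec (X.residueField x₀) ⟶ pullback q p := pullback.lift (r ≫ τ) (X.fromSpecResidueField x₀) hw
      have hσ : pullback.fst p' (X.fromSpecResidueField x₀) ≫ f' =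
          pullback.snd p' (X.fromSpecResidueField x₀) ≫ σ := by
        refine pullback.hom_ext ?_ ?_
        · rw [Category.assoc, Category.assoc, key]
          exact congrArg (pullback.snd p' (X.fromSpecResidueField x₀) ≫ ·) (pullback.lift_fst _ _ _).symm
        · rw [Category.assoc, Category.assoc, hf', pullback.condition]
          exact congrArg (pullback.snd p' (X.fromSpecResidueField x₀) ≫ ·) (pullback.lift_snd _ _ _).symm
      intro z z' hz hz'
      obtain ⟨w, hw₁, -⟩ := Scheme.Pullback.exists_preimage_pullback (f := p') (g := X.fromSpecResidueField x₀) z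
        (IsLocalRing.closedPoint _) (by rw [hz]; exact (Scheme.fromSpecResidueField_apply _ _).symm)
      obtain ⟨w', hw₁', -⟩ := Scheme.Pullback.exists_preimage_pullback (f := p') (g := X.fromSpecResidueField x₀) z'
        (IsLocalRing.closedPoint _) (by rw [hz']; exact (Scheme.fromSpecResidueField_apply _ _).symm)
      rw [← hw₁, ← hw₁', ← Scheme.Hom.comp_apply, ← Scheme.Hom.comp_apply, hσ, Scheme.Hom.comp_apply,
        Scheme.Hom.comp_apply]
      exact congrArg σ.base (Subsingleton.elim (α := PrimeSpectrum (X.residueField x₀)) _ _)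
  have hsurj := surjective_of_constFibres p h0
  have hq : IsQuotientMap p.base := IsClosedMap.isQuotientMap p.isClosedMap p.base.hom.continuous hsurj.1
  refine ⟨?_, fun hc => ?_⟩
  · have hpre : p.base ⁻¹' {s | Collapsed p f s} = {x₀ | Collapsed p' f' x₀} :=
      Set.ext fun x₀ => (hiff x₀).symm
    exact hq.isClopen_preimage.1 (hpre ▸ hclopen)
  · have hmain : f' = p' ≫ pullback.diagonal p ≫ f' := hall fun x₀ => (hiff x₀).2 (hc _)
    have hdesc : pullback.fst p p ≫ f = pullback.snd p p ≫ f := by
      have h := congrArg (· ≫ pullback.fst q p) hmain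
      simp only [Category.assoc, hf'1, pullback.diagonal_fst_assoc] at h
      exact h
    let t : S ⟶ Y := EffectiveEpi.desc p f fun {Z} g₁ g₂ h => by
      have := congrArg (pullback.lift g₁ g₂ h ≫ ·) hdesc
      rwa [pullback.lift_fst_assoc, pullback.lift_snd_assoc] at this
    have ht : p ≫ t = f := EffectiveEpi.fac _ _ _
    refine ⟨t, ?_, ht.symm⟩
    rw [← cancel_epi p, reassoc_of% ht, hf, Category.comp_id]

/-- The rigidity lemma. -/
theorem rigidity [ConnectedSpace S] (hf : f ≫ q = p) (h0 : ConstFibres p) (s : S) (hs : Collapsed p f s) :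
    ∃ t : S ⟶ Y, t ≫ q = 𝟙 S ∧ f = p ≫ t := by
  obtain ⟨h1, h2⟩ := proper_rigidity p q f hf h0
  exact h2 fun s' => (h1.eq_univ ⟨s, hs⟩).ge (Set.mem_univ s')

omit [IsProper p] in
/-- The rigidity lemma for a closed family with a section. -/
theorem rigidity_of_section [ConnectedSpace S] (hf : f ≫ q = p) (h0 : ConstFibres p) (hc : IsClosedMap p.base)
    (e : S ⟶ X) (he : e ≫ p = 𝟙 S) (s : S) (hs : Collapsed p f s) :
    ∃ t : S ⟶ Y, t ≫ q = 𝟙 S ∧ f = p ≫ t := by
  obtain ⟨h1, h2⟩ := isClopen_collapsed p q f hf h0 hc e he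
  exact ⟨e ≫ f, by rw [Category.assoc, hf, he], h2 fun s' => (h1.eq_univ ⟨s, hs⟩).ge (Set.mem_univ s')⟩

end Groth.Agent.GITLib.Rigid
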