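import Groth.Agent.GITLib.Descent
import Mathlib.AlgebraicGeometry.Morphisms.SchemeTheoreticallyDominant
import Mathlib.AlgebraicGeometry.AffineSpace

/-!
# Faithfully flat descent of geometric quotients
-/

set_option autoImplicit false

universe u

open CategoryTheory MonoidalCategory CartesianMonoidalCategory MonObj AlgebraicGeometry Topology

namespace Groth.Agent.GITLib

/-- A section as a morphism to the affine line. -/
noncomputable def secHom {X Y : Scheme.{u}} (g : X ⟶ Y) (s : Γ(X, ⊤)) : X ⟶ 𝔸(PUnit.{u + 1}; Y) :=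
  AffineSpace.homOfVector g fun _ => s

theorem secHom_inj {X Y : Scheme.{u}} {g : X ⟶ Y} {s t : Γ(X, ⊤)} (e : secHom g s = secHom g t) : s = t := by
  have := congrArg (fun m : X ⟶ 𝔸(PUnit.{u + 1}; Y) => m.appTop (AffineSpace.coord Y PUnit.unit)) e
  exact (AffineSpace.homOfVector_appTop_coord _ _ _).symm.trans
    (this.trans (AffineSpace.homOfVector_appTop_coord _ _ _))

theorem comp_secHom {X X' Y : Scheme.{u}} (f : X' ⟶ X) (g : X ⟶ Y) (s : Γ(X, ⊤)) :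
    f ≫ secHom g s = secHom (f ≫ g) (f.appTop s) := by
  rw [secHom, AffineSpace.comp_homOfVector]; rfl

/-- Functions descend along faithfully flat quasi-compact morphisms. -/
theorem appTop_descent {X Y : Scheme.{u}} (f : X ⟶ Y) [Flat f] [Surjective f] [QuasiCompact f] :
    Function.Injective f.appTop ∧ ∀ s' : Γ(X, ⊤),
      (∀ {T : Scheme.{u}} (g₁ g₂ : T ⟶ X), g₁ ≫ f = g₂ ≫ f → g₁.appTop s' = g₂.appTop s') →
      ∃ s, f.appTop s = s' := by
  refine ⟨fun s t e => ?_, fun s' h => ?_⟩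
  · refine secHom_inj (g := 𝟙 Y) ?_
    rw [← cancel_epi f, comp_secHom, comp_secHom, e]
  · have hh : ∀ {T : Scheme.{u}} (g₁ g₂ : T ⟶ X), g₁ ≫ f = g₂ ≫ f →
        g₁ ≫ secHom f s' = g₂ ≫ secHom f s' := by
      intro T g₁ g₂ e
      rw [comp_secHom, comp_secHom, e, h g₁ g₂ e]
    let d := EffectiveEpi.desc f (secHom f s') hh
    refine ⟨d.appTop (AffineSpace.coord Y PUnit.unit), ?_⟩
    have hd := EffectiveEpi.fac f (secHom f s') hh
    have := congrArg (fun m : X ⟶ 𝔸(PUnit.{u + 1}; Y) => m.appTop (AffineSpace.coord Y PUnit.unit)) hd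
    exact this.trans (AffineSpace.homOfVector_appTop_coord _ _ _)

theorem app_eq_appTop_restrict {X Y : Scheme.{u}} (f : X ⟶ Y) (U : Y.Opens) (s : Γ(Y, U)) :
    (f ∣_ U).appTop (U.topIso.inv s) = (f ⁻¹ᵁ U).topIso.inv (f.app U s) := by
  rw [← Scheme.Hom.resLE_eq_morphismRestrict, Scheme.Hom.appTop, Scheme.Hom.resLE_app_top]
  simp only [ConcreteCategory.comp_apply, Scheme.Hom.appLE_eq_app]
  congr 2
  exact congrArg (fun m : Γ(Y, U) ⟶ Γ(Y, U) => m s) U.topIso.inv_hom_id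

/-- The same over an open of the base. -/
theorem app_descent {X Y : Scheme.{u}} (f : X ⟶ Y) [Flat f] [Surjective f] [QuasiCompact f] (U : Y.Opens) :
    Function.Injective (f.app U) ∧ ∀ s' : Γ(X, f ⁻¹ᵁ U),
      (∀ {T : Scheme.{u}} (g₁ g₂ : T ⟶ X) (h₁ : ⊤ ≤ g₁ ⁻¹ᵁ (f ⁻¹ᵁ U)) (h₂ : ⊤ ≤ g₂ ⁻¹ᵁ (f ⁻¹ᵁ U)),
        g₁ ≫ f = g₂ ≫ f → g₁.appLE _ ⊤ h₁ s' = g₂.appLE _ ⊤ h₂ s') →
      ∃ s, f.app U s = s' := by
  have : Flat (f ∣_ U) := MorphismProperty.of_isPullback (isPullback_morphismRestrict f U).flip ‹Flat f›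
  have : Surjective (f ∣_ U) :=
    MorphismProperty.of_isPullback (isPullback_morphismRestrict f U).flip ‹Surjective f›
  have : QuasiCompact (f ∣_ U) :=
    MorphismProperty.of_isPullback (isPullback_morphismRestrict f U).flip ‹QuasiCompact f›
  obtain ⟨hinj, hdesc⟩ := appTop_descent (f ∣_ U)
  refine ⟨fun s t e => ?_, fun s' h => ?_⟩
  · refine (ConcreteCategory.bijective_of_isIso U.topIso.inv).1 (hinj ?_)
    rw [app_eq_appTop_restrict, app_eq_appTop_restrict, e]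
  · obtain ⟨s₀, hs₀⟩ := hdesc ((f ⁻¹ᵁ U).topIso.inv s') (by
      intro T g₁ g₂ e
      have hle : ∀ g : T ⟶ (f ⁻¹ᵁ U : Scheme.{u}), ⊤ ≤ (g ≫ (f ⁻¹ᵁ U).ι) ⁻¹ᵁ (f ⁻¹ᵁ U) :=
        fun g x _ => (g.base x).2
      have hg : ∀ g : T ⟶ (f ⁻¹ᵁ U : Scheme.{u}),
          g.appTop ((f ⁻¹ᵁ U).topIso.inv s') = (g ≫ (f ⁻¹ᵁ U).ι).appLE _ ⊤ (hle g) s' := by
        intro g
        rw [← Scheme.Hom.appLE_comp_appLE g (f ⁻¹ᵁ U).ι (f ⁻¹ᵁ U) ⊤ ⊤ (fun x _ => x.2) le_top,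
          ConcreteCategory.comp_apply, Scheme.Hom.appTop, Scheme.Hom.app_eq_appLE]
        congr 1
        exact congrArg (fun m : Γ(X, f ⁻¹ᵁ U) ⟶ Γ(((f ⁻¹ᵁ U : X.Opens) : Scheme.{u}), ⊤) => m s')
          ((Scheme.Opens.topIso_inv _).trans (Scheme.Opens.ι_appLE (U := f ⁻¹ᵁ U) _ _ _).symm)
      rw [hg, hg]
      refine h _ _ (hle g₁) (hle g₂) ?_
      rw [Category.assoc, Category.assoc, ← morphismRestrict_ι, reassoc_of% e])
    refine ⟨U.topIso.hom s₀, (ConcreteCategory.bijective_of_isIso (f ⁻¹ᵁ U).topIso.inv).1 ?_⟩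
    rw [← app_eq_appTop_restrict, ← ConcreteCategory.comp_apply U.topIso.hom, Iso.hom_inv_id]
    exact hs₀

variable {S : Scheme.{u}} {G X Y X' Y' : Over S} [GrpObj G] {a : AlgGrp.Action G X} {φ : X ⟶ Y}
  {α : Y' ⟶ Y} {pr : X' ⟶ X} {φ' : X' ⟶ Y'} {a' : AlgGrp.Action G X'}

/-- Geometric quotients descend along faithfully flat quasi-compact maps when the quotient map is
quasi-compact. -/
theorem isGeomQuot_descent (hinv : GIT.IsInvariant a φ) [Flat α.left] [Surjective α.left]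
    [QuasiCompact α.left] [QuasiCompact φ'.left] (H : IsPullback pr φ' φ α)
    (ha : a'.act ≫ pr = (G ◁ pr) ≫ a.act) (h : GIT.IsGeomQuot a' φ') : GIT.IsGeomQuot a φ := by
  have hH : IsPullback pr.left φ'.left φ.left α.left := isPullback_left H
  have : Flat pr.left := MorphismProperty.of_isPullback hH.flip ‹_›
  have : Surjective pr.left := MorphismProperty.of_isPullback hH.flip ‹_›
  have : QuasiCompact pr.left := MorphismProperty.of_isPullback hH.flip ‹_›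
  have : IsSchemeTheoreticallyDominant φ'.left := by
    refine ⟨Scheme.IdealSheafData.ext (funext fun U => ?_)⟩
    rw [Scheme.Hom.ker_apply, (RingHom.injective_iff_ker_eq_bot _).1 (h.sections U.1).1]
    rfl
  have hsurj : Function.Surjective φ.left.base := fun y => by
    obtain ⟨y', rfl⟩ := Scheme.Hom.surjective α.left y
    obtain ⟨x', rfl⟩ := h.surj y'
    exact ⟨pr.left.base x', congrArg (fun m : X'.left ⟶ Y.left => m.base x') hH.w⟩
  refine ⟨hinv, hsurj, surjective_psiY_descent hinv H ha h.inv h.orbit,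
    isUnivSubmersive_descent H h.subm, fun U => ?_⟩
  let U' := α.left ⁻¹ᵁ U
  have eV : φ'.left ⁻¹ᵁ U' = pr.left ⁻¹ᵁ (φ.left ⁻¹ᵁ U) := by
    rw [← Scheme.Hom.comp_preimage, ← Scheme.Hom.comp_preimage, hH.w]
  have hcomm : ∀ s, φ'.left.app U' (α.left.app U s) =
      pr.left.appLE (φ.left ⁻¹ᵁ U) (φ'.left ⁻¹ᵁ U') eV.le (φ.left.app U s) := by
    intro s
    rw [Scheme.Hom.app_eq_appLE, Scheme.Hom.app_eq_appLE, Scheme.Hom.app_eq_appLE, ← ConcreteCategory.comp_apply,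
      ← ConcreteCategory.comp_apply, Scheme.Hom.appLE_comp_appLE, Scheme.Hom.appLE_comp_appLE]
    simp only [hH.w]
  refine ⟨fun s t e => ?_, Set.ext fun f => ⟨?_, fun hf => ?_⟩⟩
  · refine (app_descent α.left U).1 ((h.sections U').1 ?_)
    rw [hcomm, hcomm, e]
  · rintro ⟨s, rfl⟩
    have := isInvSection_appLE (φ := φ) hinv U U le_rfl s
    rwa [Scheme.Hom.appLE_eq_app] at this
  let f' := pr.left.appLE (φ.left ⁻¹ᵁ U) (φ'.left ⁻¹ᵁ U') eV.le f
  have hf' : GIT.IsInvSection a' φ' U' f' := by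
    let W := a.act.left ⁻¹ᵁ (φ.left ⁻¹ᵁ U) ⊓ (snd G X).left ⁻¹ᵁ (φ.left ⁻¹ᵁ U)
    let W' := a'.act.left ⁻¹ᵁ (φ'.left ⁻¹ᵁ U') ⊓ (snd G X').left ⁻¹ᵁ (φ'.left ⁻¹ᵁ U')
    have h1 : a'.act.left ≫ pr.left = (G ◁ pr).left ≫ a.act.left := congrArg CommaMorphism.left ha
    have h2 : (snd G X').left ≫ pr.left = (G ◁ pr).left ≫ (snd G X).left :=
      (congrArg CommaMorphism.left (whiskerLeft_snd G pr)).symm
    have hW : W' ≤ (G ◁ pr).left ⁻¹ᵁ W := by
      simp only [W, W', eV, Scheme.Hom.preimage_inf, ← Scheme.Hom.comp_preimage, reassoc_of% h1, reassoc_of% h2]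
      exact le_rfl
    have key := congrArg ((G ◁ pr).left.appLE W W' hW) hf
    rw [← ConcreteCategory.comp_apply, ← ConcreteCategory.comp_apply, Scheme.Hom.appLE_comp_appLE,
      Scheme.Hom.appLE_comp_appLE] at key
    show a'.act.left.appLE _ W' _ f' = (snd G X').left.appLE _ W' _ f'
    rw [← ConcreteCategory.comp_apply, ← ConcreteCategory.comp_apply, Scheme.Hom.appLE_comp_appLE,
      Scheme.Hom.appLE_comp_appLE]
    simp only [h1, h2]
    exact key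
  obtain ⟨g', hg'⟩ : f' ∈ Set.range (φ'.left.app U') := by rw [(h.sections U').2]; exact hf'
  let p₁ := Limits.pullback.fst α.left α.left
  let p₂ := Limits.pullback.snd α.left α.left
  have hc : p₁ ≫ α.left = p₂ ≫ α.left := Limits.pullback.condition
  let Wt := Limits.pullback φ.left (p₁ ≫ α.left)
  let w : Wt ⟶ Limits.pullback α.left α.left := Limits.pullback.snd _ _
  let d : Wt ⟶ X.left := Limits.pullback.fst _ _
  have hd : d ≫ φ.left = w ≫ p₁ ≫ α.left := Limits.pullback.condition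
  let r₁ := hH.lift d (w ≫ p₁) (by rw [hd, Category.assoc])
  let r₂ := hH.lift d (w ≫ p₂) (by rw [hd, hc, Category.assoc])
  have Hr₁ : IsPullback r₁ w φ'.left p₁ :=
    IsPullback.of_right (by rw [hH.lift_fst]; exact IsPullback.of_hasPullback φ.left (p₁ ≫ α.left))
      (hH.lift_snd _ _ _) hH
  have : IsSchemeTheoreticallyDominant w := IsSchemeTheoreticallyDominant.of_isPullback Hr₁
  have : QuasiCompact w := MorphismProperty.of_isPullback Hr₁ ‹QuasiCompact φ'.left›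
  have hU'' : p₁ ⁻¹ᵁ U' = p₂ ⁻¹ᵁ U' := by
    rw [← Scheme.Hom.comp_preimage, ← Scheme.Hom.comp_preimage, hc]
  have hp : p₁.appLE U' (p₁ ⁻¹ᵁ U') le_rfl g' = p₂.appLE U' (p₁ ⁻¹ᵁ U') hU''.le g' := by
    refine w.app_injective _ ?_
    have hr : ∀ (r : Wt ⟶ X'.left) (p : Limits.pullback α.left α.left ⟶ Y'.left)
        (hr : r ≫ φ'.left = w ≫ p) (hrd : r ≫ pr.left = d) (hp : p₁ ⁻¹ᵁ U' ≤ p ⁻¹ᵁ U')
        (hle : w ⁻¹ᵁ (p₁ ⁻¹ᵁ U') ≤ d ⁻¹ᵁ (φ.left ⁻¹ᵁ U)),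
        w.app (p₁ ⁻¹ᵁ U') (p.appLE U' _ hp g') = d.appLE _ _ hle f := by
      intro r p hr hrd hp hle
      have hle' : w ⁻¹ᵁ (p₁ ⁻¹ᵁ U') ≤ r ⁻¹ᵁ (φ'.left ⁻¹ᵁ U') := by
        rw [← Scheme.Hom.comp_preimage r φ'.left, hr, Scheme.Hom.comp_preimage]
        exact Scheme.Hom.preimage_mono w hp
      have := congrArg (r.appLE (φ'.left ⁻¹ᵁ U') _ hle') hg'
      simp only [f', Scheme.Hom.app_eq_appLE, ← ConcreteCategory.comp_apply, Scheme.Hom.appLE_comp_appLE] at this ⊢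
      simp only [hr, hrd] at this
      exact this
    have hle : w ⁻¹ᵁ (p₁ ⁻¹ᵁ U') ≤ d ⁻¹ᵁ (φ.left ⁻¹ᵁ U) := by
      rw [← Scheme.Hom.comp_preimage d φ.left, hd, Scheme.Hom.comp_preimage, Scheme.Hom.comp_preimage]
    exact (hr r₁ p₁ (hH.lift_snd _ _ _) (hH.lift_fst _ _ _) le_rfl hle).trans
      (hr r₂ p₂ (hH.lift_snd _ _ _) (hH.lift_fst _ _ _) hU''.le hle).symm
  obtain ⟨s, hs⟩ := (app_descent α.left U).2 g' (by
    intro T g₁ g₂ h₁ h₂ e
    let l := Limits.pullback.lift g₁ g₂ e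
    have hl₁ : l ≫ p₁ = g₁ := Limits.pullback.lift_fst _ _ _
    have hl₂ : l ≫ p₂ = g₂ := Limits.pullback.lift_snd _ _ _
    have hl : (⊤ : T.Opens) ≤ l ⁻¹ᵁ (p₁ ⁻¹ᵁ U') := by
      rw [← Scheme.Hom.comp_preimage, hl₁]; exact h₁
    have := congrArg (l.appLE _ ⊤ hl) hp
    rw [← ConcreteCategory.comp_apply, ← ConcreteCategory.comp_apply, Scheme.Hom.appLE_comp_appLE,
      Scheme.Hom.appLE_comp_appLE] at this
    simp only [hl₁, hl₂] at this
    exact this)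
  refine ⟨s, ?_⟩
  have hinj : Function.Injective (pr.left.appLE (φ.left ⁻¹ᵁ U) (φ'.left ⁻¹ᵁ U') eV.le) := by
    intro u v e
    refine (app_descent pr.left (φ.left ⁻¹ᵁ U)).1 ?_
    refine (ConcreteCategory.bijective_of_isIso (X'.left.presheaf.map (eqToHom eV).op)).1 ?_
    exact e
  refine hinj ?_
  rw [← hcomm, hs, hg']

end Groth.Agent.GITLib
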