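import Groth.Agent.InvQLib.Basic

/-!
# Affine quotients in coaction form
-/

set_option autoImplicit false

universe u v w

noncomputable section

open TensorProduct HopfRep WithConv

namespace Groth.Agent.GITLib

section

variable {k : Type u} [Field k] {A : Type v} [CommRing A] [HopfAlgebra k A]
  {R : Type w} [CommRing R] [Algebra k R] [HopfRep.Comod k A R] [GLin.IsCoactAlg k A R]

/-- `h · (g · x) = (g * h) · x`. -/
theorem actPt_actPt (g h : A →ₐ[k] k) (x : R →ₐ[k] k) :
    GLin.actPt k h (GLin.actPt k g x) = GLin.actPt k (toConv g * toConv h).ofConv x := by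
  refine AlgHom.ext fun f => ?_
  change h (GLin.orbitHom k A (GLin.actPt k g x) f) = (toConv g * toConv h).ofConv (GLin.orbitHom k A x f)
  rw [← InvQLib.point_act, ← InvQLib.point_act, InvQLib.act_eq_contract, InvQLib.act_eq_contract]
  change g (GLin.orbitHom k A x _) = _
  rw [← InvQLib.point_act, InvQLib.act_eq_contract, Comod.contract_contract]
  congr 2

theorem actPt_one (x : R →ₐ[k] k) : GLin.actPt k (Bialgebra.counitAlgHom k A) x = x :=
  AlgHom.ext fun f => InvQLib.counit_orbitHom x f

theorem inOrbitClosure_iff (x z : R →ₐ[k] k) :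
    GLin.InOrbitClosure k A x z ↔ InvQLib.orbitIdeal k A x ≤ RingHom.ker z :=
  (Ideal.IsPrime.radical_le_iff (RingHom.ker_isPrime z)).symm

/-- A point in the closure of a closed orbit is on the orbit. -/
theorem exists_actPt_eq [IsAlgClosed k] [Algebra.FiniteType k A] {x z : R →ₐ[k] k}
    (hx : GLin.IsClosedOrbit k A x) (hz : GLin.InOrbitClosure k A x z) :
    ∃ g : A →ₐ[k] k, z = GLin.actPt k g x := by
  have hp : (⟨RingHom.ker z, RingHom.ker_isPrime z⟩ : PrimeSpectrum R) ∈
      closure (Set.range (PrimeSpectrum.comap (GLin.orbitHom k A x).toRingHom)) := by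
    rw [PrimeSpectrum.closure_range_comap, PrimeSpectrum.mem_zeroLocus]
    exact hz
  rw [hx.closure_eq] at hp
  obtain ⟨p, hp⟩ := hp
  obtain ⟨g, hg⟩ := InvQLib.exists_point (k := k) (I := p.asIdeal) p.isPrime.ne_top
  refine ⟨g, AlgHom.ext fun f => ?_⟩
  have h : f - algebraMap k R (z f) ∈ RingHom.ker z := by simp [RingHom.mem_ker]
  have h' : GLin.orbitHom k A x (f - algebraMap k R (z f)) ∈ p.asIdeal := by
    rw [show RingHom.ker z = (PrimeSpectrum.comap (GLin.orbitHom k A x).toRingHom p).asIdeal from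
      (congrArg PrimeSpectrum.asIdeal hp).symm] at h
    exact h
  have := hg _ h'
  rw [map_sub, map_sub, AlgHom.commutes, AlgHom.commutes, sub_eq_zero] at this
  exact this.symm

end

section

variable {k : Type u} [Field k] [IsAlgClosed k] {A : Type u} [CommRing A] [HopfAlgebra k A] [Algebra.FiniteType k A]
  {R : Type u} [CommRing R] [Algebra k R] [HopfRep.Comod k A R] [GLin.IsCoactAlg k A R] [Algebra.FiniteType k R]

omit [IsAlgClosed k] [Algebra.FiniteType k A] [Algebra.FiniteType k R] in
theorem comp_invariants_eq_iff (x y : R →ₐ[k] k) :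
    x.comp (GLin.invariants k A R).val = y.comp (GLin.invariants k A R).val ↔
      ∀ f ∈ HopfRep.fixedPts k A R, x f = y f :=
  ⟨fun h f hf => AlgHom.congr_fun h ⟨f, hf⟩, fun h => AlgHom.ext fun f => h f f.2⟩

theorem comp_invariants_eq_iff_meet (hG : HopfRep.IsLinearlyReductive k A) (x y : R →ₐ[k] k) :
    x.comp (GLin.invariants k A R).val = y.comp (GLin.invariants k A R).val ↔
      ∃ z : R →ₐ[k] k, GLin.InOrbitClosure k A x z ∧ GLin.InOrbitClosure k A y z := by
  simp only [inOrbitClosure_iff]
  rw [comp_invariants_eq_iff]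
  exact ⟨InvQLib.exists_common_of_forall_eq hG x y, fun ⟨z, hx, hy⟩ f hf => InvQLib.eq_of_common hx hy hf⟩

theorem exists_point_over_invariants (hG : HopfRep.IsLinearlyReductive k A)
    (φ : GLin.invariants k A R →ₐ[k] k) :
    ∃ x : R →ₐ[k] k, x.comp (GLin.invariants k A R).val = φ := by
  obtain ⟨x, -, hx⟩ := InvQLib.exists_point_over hG (⊥ : Ideal R)
    (Comod.isSubcomod_iff.2 fun ψ v hv => by
      simp only [Submodule.restrictScalars_mem, Ideal.mem_bot] at hv ⊢
      rw [hv, map_zero])
    (GLin.invariants k A R) (fun _ => Iff.rfl) φ (fun f hf => by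
      rw [Ideal.mem_bot] at hf
      rw [show f = 0 from Subtype.ext hf, map_zero])
  exact ⟨x, AlgHom.ext hx⟩

end

end Groth.Agent.GITLib
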