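import Groth.Agent.GrpScheme.Descent.Torsor
import Groth.Agent.SGA1Desc.Sections
import Groth.Prelude.Def_ChGrp
import Groth.Prelude.Def_W4bk4git07Quot

/-!
# Associated bundles as quotients

An associated bundle exists as soon as its descent datum is effective; an equivariant object over a torsor
inherits the torsor structure over its descent.
-/

set_option autoImplicit false
set_option linter.style.haveILetI false
set_option backward.isDefEq.respectTransparency false

universe u

open CategoryTheory MonoidalCategory CartesianMonoidalCategory MonObj AlgebraicGeometry Limits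

namespace Groth.Agent.GITLib

variable {B : Scheme.{u}} {G X Y Z : Over B} [GrpObj G] (a : AlgGrp.Action G X) (f : X ⟶ Y)
  (hsq : IsPullback a.act.left (snd G X).left f.left f.left) (b : AlgGrp.Action G Z)

/-- The associated bundle exists if its descent datum is effective. -/
theorem exists_bundle_of_effective
    (hU : ∃ U : Over Y.left, Nonempty ((Desc.toDD f.left).obj U ≅ GrpScheme.Descent.bundleDatum a f hsq b)) :
    ∃ (W : Over B) (φ : X ⊗ Z ⟶ W) (ψ : W ⟶ Y),
      IsPullback (fst X Z).left φ.left f.left ψ.left ∧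
      lift ((G ◁ fst X Z) ≫ a.act) ((G ◁ snd X Z) ≫ b.act) ≫ φ = snd G (X ⊗ Z) ≫ φ := by
  obtain ⟨U, ⟨e⟩⟩ := hU
  let D := GrpScheme.Descent.bundleDatum a f hsq b
  let E : D.obj ≅ ((Desc.toDD f.left).obj U).obj :=
    { hom := e.inv.hom, inv := e.hom.hom
      hom_inv_id := congrArg Desc.SchDD.Hom.hom e.inv_hom_id
      inv_hom_id := congrArg Desc.SchDD.Hom.hom e.hom_inv_id }
  have hcart : IsPullback (fst X Z).left (E.hom.left ≫ pullback.snd f.left U.hom) f.left U.hom :=
    IsPullback.of_iso (IsPullback.of_hasPullback f.left U.hom)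
      ((Over.forget _).mapIso E).symm (Iso.refl _) (Iso.refl _) (Iso.refl _)
      (by
        have := Over.w E.inv
        simpa [D, GrpScheme.Descent.bundleDatum, Desc.toDD, Desc.canonicalDD] using this.symm)
      (by simp) (by simp) (by simp)
  let W : Over B := Over.mk (U.hom ≫ Y.hom)
  let φ : X ⊗ Z ⟶ W := Over.homMk (E.hom.left ≫ pullback.snd f.left U.hom) (by
    change _ ≫ U.hom ≫ Y.hom = _
    rw [← Category.assoc, ← hcart.w, Category.assoc, Over.w f, Over.w])
  let ψ : W ⟶ Y := Over.homMk U.hom rfl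
  refine ⟨W, φ, ψ, hcart, ?_⟩
  let x₀ := snd G (X ⊗ Z) ≫ fst X Z
  let z₀ := snd G (X ⊗ Z) ≫ snd X Z
  let g := fst G (X ⊗ Z)
  let x₁ := lift g x₀ ≫ a.act
  have hx : x₀.left ≫ f.left = x₁.left ≫ f.left := by
    have : x₁ ≫ f = x₀ ≫ f := by
      have hw : a.act ≫ f = snd G X ≫ f := Over.OverMorphism.ext hsq.w
      simp only [x₁, Category.assoc, hw, lift_snd_assoc]
    exact (congrArg CommaMorphism.left this).symm
  have hw : (G ◁ fst X Z) ≫ a.act = x₁ ∧ (G ◁ snd X Z) ≫ b.act = lift g z₀ ≫ b.act :=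
    ⟨congrArg (· ≫ a.act) (CartesianMonoidalCategory.hom_ext _ _ (by simp [g]) (by simp [x₀])),
      congrArg (· ≫ b.act) (CartesianMonoidalCategory.hom_ext _ _ (by simp [g]) (by simp [z₀]))⟩
  rw [hw.1, hw.2]
  have h1 := GrpScheme.Descent.transport_eq a f hsq b x₀ x₁ z₀ g rfl hx (by rw [← Over.comp_left, lift_fst])
  let v : Desc.Lifts D.obj x₀.left := ⟨(lift x₀ z₀).left, by
    change (lift x₀ z₀).left ≫ (fst X Z).left = _
    rw [← Over.comp_left, lift_fst]⟩
  have h2 := e.inv.comm x₀.left x₁.left hx v (e.inv.push v) rfl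
  have h3 : (D.φ x₀.left x₁.left hx v).1 = (lift x₁ (lift g z₀ ≫ b.act)).left := h1
  rw [h3] at h2
  ext1
  change (lift x₁ (lift g z₀ ≫ b.act)).left ≫ E.hom.left ≫ pullback.snd _ _ =
    (snd G (X ⊗ Z)).left ≫ E.hom.left ≫ pullback.snd _ _
  rw [← Category.assoc, ← Category.assoc]
  change ((lift x₁ (lift g z₀ ≫ b.act)).left ≫ e.inv.hom.left) ≫ _ = _
  rw [← h2, show snd G (X ⊗ Z) = lift x₀ z₀ from (lift_comp_fst_snd _).symm]
  exact pullback.lift_snd _ _ _

include hsq in
/-- An equivariant object cartesian over a torsor is a torsor over the descended object. -/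
theorem isPullback_act_of_cartesian {P W : Over B} (c : AlgGrp.Action G P) (pr : P ⟶ X) (q : P ⟶ W) (r : W ⟶ Y)
    (hq : IsPullback pr.left q.left f.left r.left) (hpr : c.act ≫ pr = (G ◁ pr) ≫ a.act)
    (hinv : GIT.IsInvariant c q) : IsPullback c.act (snd G P) q q := by
  have hpr' : ∀ {T : Over B} (g : T ⟶ G) (v : T ⟶ P),
      (lift g v ≫ c.act) ≫ pr = lift g (v ≫ pr) ≫ a.act := fun g v => by
    rw [Category.assoc, hpr, lift_whiskerLeft_assoc]
  have hqr : q ≫ r = pr ≫ f := Over.OverMorphism.ext hq.w.symm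
  have hext : ∀ {T : Over B} (v v' : T ⟶ P), v ≫ pr = v' ≫ pr → v ≫ q = v' ≫ q → v = v' := fun v v' h₁ h₂ =>
    Over.OverMorphism.ext (hq.hom_ext ((congrArg (fun m => CommaMorphism.left m) h₁) :)
      ((congrArg (fun m => CommaMorphism.left m) h₂) :))
  have hpair : ∀ {T : Over B} (v v' : T ⟶ P), v ≫ q = v' ≫ q → ∃! g : T ⟶ G, lift g v' ≫ c.act = v := by
    intro T v v' e
    have e₁ : (v ≫ pr) ≫ f = (v' ≫ pr) ≫ f := by
      rw [Category.assoc, Category.assoc, ← hqr, ← Category.assoc, ← Category.assoc, e]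
    obtain ⟨g, hg, hu⟩ := GrpScheme.Descent.existsUnique_translate a f hsq _ _ e₁.symm
    refine ⟨g, hext _ _ ((hpr' g v').trans hg) ?_, fun g' hg' => hu g' ?_⟩
    · rw [Category.assoc, hinv, lift_snd_assoc, e]
    · show _ = _
      rw [← hpr', hg']
  refine IsPullback.of_isLimit' ⟨hinv⟩ (PullbackCone.IsLimit.mk _
    (fun s => lift (hpair s.fst s.snd s.condition).choose s.snd)
    (fun s => (hpair s.fst s.snd s.condition).choose_spec.1) (fun s => lift_snd _ _) fun s m h₁ h₂ => ?_)
  have h₁' : m ≫ c.act = s.fst := h₁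
  have h₂' : m ≫ snd G P = s.snd := h₂
  refine CartesianMonoidalCategory.hom_ext _ _ ?_ (by rw [lift_snd]; exact h₂')
  rw [lift_fst]
  exact (hpair s.fst s.snd s.condition).choose_spec.2 _ (by dsimp only; rw [← h₂', lift_comp_fst_snd, h₁'])

end Groth.Agent.GITLib
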