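import Mathlib

/-!
# The lower hull of a decreasing sequence: existence of a chain with negative trapezoid sum
-/

set_option autoImplicit false

noncomputable section

namespace Groth.Agent.GITLib.Chain

open Finset

variable (n g : ℕ)

/-- The extremal exponents. -/
def top (i : ℕ) : ℝ := if i + g ≤ n then i else (i : ℝ) + g

/-- `Φ a = ∑_{i ≤ a} (E a - E i) - c (E a)²` for the constant `c = (n+1)/(2(n+g))`. -/
def phi (a : ℕ) : ℝ :=
  ∑ i ∈ range (a + 1), (top n g a - top n g i) - (n + 1) / (2 * (n + g)) * top n g a ^ 2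

/-- `α a`. -/
def alpha (a : ℕ) : ℝ := (a + 1) - 2 * ((n + 1) / (2 * (n + g))) * top n g a

theorem top_lt_top {i j : ℕ} (h : i < j) : top n g i < top n g j := by
  unfold top
  have : (i : ℝ) < j := by exact_mod_cast h
  split_ifs with h1 h2 h2
  · exact this
  · have : (0 : ℝ) ≤ g := g.cast_nonneg
    linarith
  · lia
  · linarith

theorem top_zero (h : g ≤ n) : top n g 0 = 0 := by simp [top, h]

theorem phi_zero (h : g ≤ n) : phi n g 0 = 0 := by simp [phi, top_zero n g h]

variable {n g}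

theorem sum_top_low {a : ℕ} (ha : a + g ≤ n) : 2 * ∑ i ∈ range (a + 1), top n g i = (a : ℝ) * (a + 1) := by
  induction a with
  | zero => simp [top, show g ≤ n by lia]
  | succ b ih =>
    rw [sum_range_succ, mul_add, ih (by lia), top, if_pos ha]
    push_cast
    ring

theorem sum_top_high {j : ℕ} (hg : g ≤ n) : 2 * ∑ i ∈ range (n - g + j + 1), top n g i =
    ((n : ℝ) - g) * ((n : ℝ) - g + 1) + 2 * j * n + j * (j + 1) := by
  induction j with
  | zero =>
    rw [Nat.add_zero, sum_top_low (by lia), Nat.cast_sub hg]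
    push_cast
    ring
  | succ b ih =>
    rw [show n - g + (b + 1) + 1 = (n - g + b + 1) + 1 by lia, sum_range_succ, mul_add, ih,
      top, if_neg (by lia)]
    rw [show ((n - g + b + 1 : ℕ) : ℝ) = (n : ℝ) - g + b + 1 by push_cast [Nat.cast_sub hg]; ring]
    push_cast
    ring

theorem phi_pos (hg : 1 ≤ g) (hn : 2 * g ≤ n) {a : ℕ} (ha : 1 ≤ a) (han : a ≤ n) : 0 < phi n g a := by
  have hgR : (1 : ℝ) ≤ g := by exact_mod_cast hg
  have hnR : (2 : ℝ) * g ≤ n := by exact_mod_cast hn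
  have hN : (0 : ℝ) < 2 * (n + g) := by linarith
  unfold phi
  rw [sum_sub_distrib, sum_const, card_range, nsmul_eq_mul, sub_pos, div_mul_eq_mul_div, div_lt_iff₀ hN]
  rcases le_or_gt (a + g) n with h | h
  · have hs := sum_top_low (n := n) (g := g) h
    have haR : (1 : ℝ) ≤ a := by exact_mod_cast ha
    rw [top, if_pos h]
    push_cast
    nlinarith [mul_nonneg (mul_nonneg (sub_nonneg.2 hgR) (sub_nonneg.2 haR)) (sub_nonneg.2 haR),
      mul_pos (show (0 : ℝ) < a by linarith) (show (0 : ℝ) < n + g by linarith)]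
  · obtain ⟨j, rfl⟩ : ∃ j, a = n - g + j := ⟨a - (n - g), by lia⟩
    have hs := sum_top_high (n := n) (g := g) (j := j) (by lia)
    have hj1 : (1 : ℝ) ≤ j := by exact_mod_cast (show 1 ≤ j by lia)
    have hjg : (j : ℝ) ≤ g := by exact_mod_cast (show j ≤ g by lia)
    have hpos : (0 : ℝ) < ((n : ℝ) + g) * (g * ((n : ℝ) - 2 * g + 1)) :=
      mul_pos (by linarith) (mul_pos (by linarith) (by linarith))
    rw [top, if_neg (by lia)]
    push_cast [Nat.cast_sub (show g ≤ n by lia)]
    nlinarith [hs, hpos, mul_nonneg (mul_nonneg (sub_nonneg.2 hjg) (sub_nonneg.2 hgR)) (sub_nonneg.2 hjg),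
      mul_nonneg (sub_nonneg.2 hjg) (show (0 : ℝ) ≤ (n : ℝ) + g by linarith)]

/-- Segment identity. -/
theorem segment {a b : ℕ} (hab : a ≤ b) (t ra : ℝ) :
    (∑ i ∈ Ioc a b, (ra + t * (top n g i - top n g a))) -
        (n + 1) / (2 * (n + g)) * ((top n g b - top n g a) * ((ra + t * (top n g b - top n g a)) + ra)) +
      alpha n g a * ra =
      alpha n g b * (ra + t * (top n g b - top n g a)) + -t * phi n g b - -t * phi n g a := by
  have hI : ∀ f : ℕ → ℝ, ∑ i ∈ Ioc a b, f i = ∑ i ∈ range (b + 1), f i - ∑ i ∈ range (a + 1), f i := by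
    intro f
    rw [← sum_Ico_eq_sub f (show a + 1 ≤ b + 1 by lia), ← Finset.Ico_add_one_add_one_eq_Ioc]
  rw [hI]
  simp only [phi, alpha, sum_add_distrib, sum_sub_distrib, ← mul_sum, sum_const, card_range, nsmul_eq_mul, mul_sub]
  push_cast
  ring

variable (n g) in
/-- The state of the greedy construction at `a`. -/
def State (r : ℕ → ℝ) (a : ℕ) : Prop :=
  ∃ (μ : ℕ) (c : ℕ → ℕ) (s : ℝ), (∀ i j, i < j → j ≤ μ → c i < c j) ∧ c 0 = 0 ∧ c μ = a ∧
    (∀ i, i ≤ n → a ≤ i → r a + s * (top n g i - top n g a) ≤ r i) ∧ s ≤ 0 ∧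
    alpha n g a * r a + -s * phi n g a ≤ ∑ i ∈ range (a + 1), r i -
      (n + 1) / (2 * (n + g)) *
        ∑ j ∈ range μ, (top n g (c (j + 1)) - top n g (c j)) * (r (c (j + 1)) + r (c j)) ∧
    (alpha n g a * r a + -s * phi n g a < ∑ i ∈ range (a + 1), r i -
      (n + 1) / (2 * (n + g)) *
        ∑ j ∈ range μ, (top n g (c (j + 1)) - top n g (c j)) * (r (c (j + 1)) + r (c j)) ∨
      r a = r 0 + s * top n g a)

theorem step (hg : 1 ≤ g) (hn : 2 * g ≤ n) (r : ℕ → ℝ) (hr : ∀ i j, i ≤ j → j ≤ n → r j ≤ r i)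
    {a : ℕ} (ha : a < n) (h : State n g r a) : ∃ b, a < b ∧ b ≤ n ∧ State n g r b := by
  obtain ⟨μ, c, s, hc, hc0, hcμ, hlow, hs, hle, hst⟩ := h
  obtain ⟨b, hb, hmin⟩ := exists_min_image (Ioc a n) (fun i => (r i - r a) / (top n g i - top n g a))
    ⟨n, mem_Ioc.2 ⟨ha, le_rfl⟩⟩
  obtain ⟨hab, hbn⟩ := mem_Ioc.1 hb
  let t := (r b - r a) / (top n g b - top n g a)
  have hDb : 0 < top n g b - top n g a := sub_pos.2 (top_lt_top n g hab)
  have htb : r b = r a + t * (top n g b - top n g a) := by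
    rw [div_mul_cancel₀ _ hDb.ne']; ring
  have hta : ∀ i, i ≤ n → a ≤ i → r a + t * (top n g i - top n g a) ≤ r i := by
    intro i hin hai
    rcases hai.eq_or_lt with rfl | hai
    · simp
    · have := hmin i (mem_Ioc.2 ⟨hai, hin⟩)
      rw [le_div_iff₀ (sub_pos.2 (top_lt_top n g hai))] at this
      linarith
  have hst' : s ≤ t := by
    have := hlow b hbn hab.le
    rw [le_div_iff₀ hDb]
    linarith
  have ht0 : t ≤ 0 := div_nonpos_of_nonpos_of_nonneg (sub_nonpos.2 (hr a b hab.le hbn)) hDb.le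
  let c' : ℕ → ℕ := fun j => if j ≤ μ then c j else b
  have hc'μ : c' (μ + 1) = b := by simp [c']
  have hc'a : c' μ = a := by simp [c', hcμ]
  have hsum : ∑ j ∈ range (μ + 1), (top n g (c' (j + 1)) - top n g (c' j)) * (r (c' (j + 1)) + r (c' j)) =
      ∑ j ∈ range μ, (top n g (c (j + 1)) - top n g (c j)) * (r (c (j + 1)) + r (c j)) +
        (top n g b - top n g a) * (r b + r a) := by
    rw [sum_range_succ, hc'μ, hc'a]
    congr 1
    refine sum_congr rfl fun j hj => ?_
    have hj' := mem_range.1 hj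
    simp [c', show j + 1 ≤ μ by lia, show j ≤ μ by lia]
  have hr' : ∑ i ∈ range (b + 1), r i = ∑ i ∈ range (a + 1), r i + ∑ i ∈ Ioc a b, r i := by
    rw [← Finset.Ico_add_one_add_one_eq_Ioc, sum_range_add_sum_Ico _ (by lia)]
  have hseg : ∑ i ∈ Ioc a b, (r a + t * (top n g i - top n g a)) ≤ ∑ i ∈ Ioc a b, r i :=
    sum_le_sum fun i hi => hta i ((mem_Ioc.1 hi).2.trans hbn) (mem_Ioc.1 hi).1.le
  have hid := segment (n := n) (g := g) hab.le t (r a)
  rw [← htb] at hid
  have hφ : 0 ≤ (t - s) * phi n g a := by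
    rcases Nat.eq_zero_or_pos a with rfl | ha0
    · rw [phi_zero n g (by lia)]; simp
    · exact mul_nonneg (sub_nonneg.2 hst') (phi_pos hg hn ha0 ha.le).le
  refine ⟨b, hab, hbn, μ + 1, c', t, ?_, by simp [c', hc0], hc'μ, fun i hin hbi => ?_, ht0, ?_, ?_⟩
  · intro i j hij hj
    rcases (Nat.le_succ_iff.1 hj) with hj' | rfl
    · simpa [c', hj', show i ≤ μ by lia] using hc i j hij hj'
    · rw [hc'μ]
      have hi : i ≤ μ := by lia
      simp only [c', hi, if_true]
      rcases hi.eq_or_lt with rfl | hi'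
      · lia
      · exact (hc i μ hi' le_rfl).trans (hcμ ▸ hab)
  · have := hta i hin (hab.le.trans hbi)
    rw [htb]
    linarith
  · rw [hsum, hr', mul_add]
    nlinarith [hseg, hid, hφ, hle]
  · rcases hst with hst | hline
    · left
      rw [hsum, hr', mul_add]
      nlinarith [hseg, hid, hφ, hst]
    · rcases hst'.eq_or_lt with hts | hts
      · right
        rw [htb, hline, hts]
        ring
      · rcases Nat.eq_zero_or_pos a with rfl | ha0
        · right
          rw [htb, top_zero n g (by lia)]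
          ring
        · left
          rw [hsum, hr', mul_add]
          nlinarith [hseg, hid, hle, mul_pos (sub_pos.2 hts) (phi_pos hg hn ha0 ha.le)]

/-- For the extremal exponents some chain has negative sum. -/
theorem exists_chain_top (hg : 1 ≤ g) (hn : 2 * g ≤ n) (r : ℕ → ℝ) (hr : ∀ i j, i ≤ j → j ≤ n → r j ≤ r i)
    (hsum : ∑ i ∈ range (n + 1), r i = 0) (hne : ∃ i, i ≤ n ∧ r i ≠ 0) :
    ∃ (μ : ℕ) (c : ℕ → ℕ), (∀ i j, i < j → j ≤ μ → c i < c j) ∧ c 0 = 0 ∧ c μ = n ∧
      ∑ j ∈ range μ, (top n g (c (j + 1)) - top n g (c j)) * (r (c (j + 1)) + r (c j)) < 0 := by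
  have key : ∀ d a, n - a ≤ d → a ≤ n → State n g r a → State n g r n := by
    intro d
    induction d with
    | zero => intro a h1 h2 h3; rwa [show a = n by lia] at h3
    | succ d ih =>
      intro a h1 h2 h3
      rcases h2.eq_or_lt with rfl | h2
      · exact h3
      · obtain ⟨b, hb, hbn, h⟩ := step hg hn r hr h2 h3
        exact ih b (by lia) hbn h
  have h0 : State n g r 0 := by
    obtain ⟨b, hb, hmin⟩ := exists_min_image (Ioc 0 n) (fun i => (r i - r 0) / (top n g i - top n g 0))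
      ⟨n, mem_Ioc.2 ⟨by lia, le_rfl⟩⟩
    obtain ⟨hb0, hbn⟩ := mem_Ioc.1 hb
    refine ⟨0, fun _ => 0, (r b - r 0) / (top n g b - top n g 0), fun i j hij hj => absurd hij (by lia),
      rfl, rfl, fun i hin hi => ?_, ?_, ?_, Or.inr ?_⟩
    · rcases hi.eq_or_lt with rfl | hi
      · simp
      · have := hmin i (mem_Ioc.2 ⟨hi, hin⟩)
        rw [le_div_iff₀ (sub_pos.2 (top_lt_top n g hi))] at this
        linarith
    · exact div_nonpos_of_nonpos_of_nonneg (sub_nonpos.2 (hr 0 b hb0.le hbn)) (sub_pos.2 (top_lt_top n g hb0)).le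
    · simp [phi_zero n g (show g ≤ n by lia), alpha, top_zero n g (show g ≤ n by lia)]
    · simp [top_zero n g (show g ≤ n by lia)]
  obtain ⟨μ, c, s, hc, hc0, hcμ, -, hs, hle, hst⟩ := key n 0 (by lia) (Nat.zero_le n) h0
  refine ⟨μ, c, hc, hc0, hcμ, ?_⟩
  have hN : (0 : ℝ) < n + g := by exact_mod_cast (show 0 < n + g by lia)
  have htop : top n g n = (n : ℝ) + g := by simp [top, show ¬ n + g ≤ n by lia]
  have hα : alpha n g n = 0 := by
    rw [alpha, htop]
    field_simp
    ring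
  have hφ := phi_pos hg hn (show 1 ≤ n by lia) le_rfl
  have hc' : (0 : ℝ) < (n + 1) / (2 * (n + g)) := by positivity
  rw [hsum, hα, zero_mul, zero_add, zero_sub] at hle hst
  rcases hst with hst | hline
  · nlinarith [mul_nonneg (neg_nonneg.2 hs) hφ.le]
  · rcases hs.eq_or_lt with rfl | hs'
    · exfalso
      obtain ⟨i, hi, hri⟩ := hne
      rw [zero_mul, add_zero] at hline
      have hall : ∀ j, j ≤ n → r j = r 0 := fun j hj =>
        le_antisymm (hr 0 j (Nat.zero_le j) hj) (hline ▸ hr j n hj le_rfl)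
      rw [sum_congr rfl fun j hj => hall j (by simpa [Nat.lt_succ_iff] using hj), sum_const, card_range,
        nsmul_eq_mul, mul_eq_zero] at hsum
      exact hri ((hall i hi).trans (hsum.resolve_left (by exact_mod_cast Nat.succ_ne_zero n)))
    · nlinarith [mul_pos (neg_pos.2 hs') hφ]

/-- Smaller exponents give smaller sums. -/
theorem sum_le_of_le {μ : ℕ} (δ R : ℕ → ℝ) (hδ : ∀ j, j ≤ μ → δ j ≤ 0) (h0 : δ 0 = 0) (hμ : δ μ = 0)
    (hR : ∀ i j, i ≤ j → j ≤ μ → R j ≤ R i) :
    ∑ j ∈ range μ, (δ (j + 1) - δ j) * (R (j + 1) + R j) ≤ 0 := by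
  have : ∀ t, t < μ → ∑ j ∈ range (t + 1), (δ (j + 1) - δ j) * (R (j + 1) + R j) ≤ δ (t + 1) * (R (t + 1) + R t) := by
    intro t
    induction t with
    | zero => intro _; simp [h0]
    | succ u ih =>
      intro hu
      rw [sum_range_succ]
      have := ih (by lia)
      nlinarith [mul_nonpos_of_nonpos_of_nonneg (hδ (u + 1) (by lia)) (sub_nonneg.2 (hR u (u + 1 + 1) (by lia) (by lia)))]
  rcases μ with _ | ν
  · simp
  · refine (this ν (by lia)).trans ?_
    simp [hμ]

end Groth.Agent.GITLib.Chain
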