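import Groth.Agent.GITLib.TorsorSch
import Groth.Agent.AlgSpCov.SchemeDescent
import Groth.Prelude.Def_ActBC

/-!
# Descent of torsors, push forward, reduction of structure group
-/

set_option autoImplicit false

universe u

open CategoryTheory MonoidalCategory CartesianMonoidalCategory MonObj AlgebraicGeometry Opposite

namespace Groth.Agent.GITLib

variable {S : Scheme.{u}}

theorem etalePrecoverage_le_fpqc : Scheme.etalePrecoverage.{u} ≤ Scheme.fpqcPrecoverage :=
  le_trans (Scheme.precoverage_mono fun _ _ f hf => by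
    have : Etale f := hf
    exact ⟨inferInstance, inferInstance⟩) Scheme.fppfPrecoverage_le_fpqcPrecoverage

theorem isLocallyTrivialFor_mono {K K' : Precoverage Scheme.{u}} (hKK : K ≤ K') {X : Over S}
    (h : NonAbH1.IsLocallyTrivialFor K X) : NonAbH1.IsLocallyTrivialFor K' X := by
  obtain ⟨R, hR, hs⟩ := h
  exact ⟨R, hKK S hR, hs⟩

theorem isTorsorFor_mono {K K' : Precoverage Scheme.{u}} (hKK : K ≤ K') {G X : Over S} [GrpObj G]
    {a : AlgGrp.Action G X} (h : NonAbH1.IsTorsorFor K a) : NonAbH1.IsTorsorFor K' a :=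
  ⟨h.1, isLocallyTrivialFor_mono hKK h.2⟩

variable {G X : Over S} [GrpObj G] {a : AlgGrp.Action G X}

/-- Locally trivialised actions are pseudo-torsors. -/
theorem isPseudoTorsor_of_local {R : Presieve S} (hR : R ∈ Scheme.fpqcPrecoverage S)
    (h : ∀ ⦃S' : Scheme.{u}⦄ (f : S' ⟶ S), R f →
      ∃ s : Over.mk f ⟶ X, IsIso (lift ((G ◁ s) ≫ a.act) (snd G (Over.mk f)))) :
    NonAbH1.IsPseudoTorsorSch a := by
  -- on the pieces of the covering every point is uniquely a translate of a fixed one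
  have key : ∀ (T : Over S), ∃ Sv ∈ Jq S T, ∀ ⦃T' : Over S⦄ (f : T' ⟶ T), Sv.arrows f →
      ∃ z : T' ⟶ X, ∀ y : T' ⟶ X, ∃! g : T' ⟶ G, lift g z ≫ a.act = y := by
    intro T
    let Sv : Sieve T :=
      { arrows := fun T' _ => ∃ (S' : Scheme.{u}) (f : S' ⟶ S) (_ : R f), Nonempty (T' ⟶ Over.mk f)
        downward_closed := by
          rintro T₁ T₂ _ ⟨S', f, hf, ⟨c⟩⟩ k
          exact ⟨S', f, hf, ⟨k ≫ c⟩⟩ }
    refine ⟨Sv, ?_, ?_⟩
    · change Sieve.overEquiv T Sv ∈ Scheme.fpqcTopology T.left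
      refine GrothendieckTopology.superset_covering _ ?_
        (Scheme.fpqcTopology.pullback_stable T.hom (Precoverage.generate_mem_toGrothendieck hR))
      intro W k hk
      obtain ⟨W', l, r, hr, hlr⟩ := hk
      rw [Sieve.overEquiv_iff]
      exact ⟨W', r, hr, ⟨Over.homMk l hlr⟩⟩
    · rintro T' _ ⟨S', f, hf, ⟨c⟩⟩
      obtain ⟨s, hs⟩ := h f hf
      refine ⟨c ≫ s, fun y => ?_⟩
      let l := lift y c ≫ inv (lift ((G ◁ s) ≫ a.act) (snd G (Over.mk f)))
      have hl : l ≫ lift ((G ◁ s) ≫ a.act) (snd G (Over.mk f)) = lift y c := by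
        simp only [l, Category.assoc, IsIso.inv_hom_id, Category.comp_id]
      have h1 : l ≫ (G ◁ s) ≫ a.act = y := by simpa using congrArg (· ≫ fst X (Over.mk f)) hl
      have h2 : l ≫ snd G (Over.mk f) = c := by simpa using congrArg (· ≫ snd X (Over.mk f)) hl
      have hlf : lift (l ≫ fst G (Over.mk f)) c = l := by rw [← h2, ← comp_lift, lift_fst_snd, Category.comp_id]
      refine ⟨l ≫ fst G (Over.mk f), ?_, fun g hg => ?_⟩
      · show lift (l ≫ fst G (Over.mk f)) (c ≫ s) ≫ a.act = y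
        rw [← lift_whiskerLeft_assoc, hlf, h1]
      · have : lift g c = l := by
          rw [← cancel_mono (lift ((G ◁ s) ≫ a.act) (snd G (Over.mk f))), hl, comp_lift, lift_snd,
            lift_whiskerLeft_assoc, hg]
        rw [← this, lift_fst]
  have : Mono (lift a.act (snd G X)) := ⟨fun {T} l l' e => by
    obtain ⟨Sv, hSv, hz⟩ := key T
    refine hom_ext_q hSv fun T' f hf => ?_
    obtain ⟨z, hz⟩ := hz f hf
    have e1 : (f ≫ l) ≫ a.act = (f ≫ l') ≫ a.act := by
      simpa using congrArg (fun m => f ≫ m ≫ fst X X) e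
    have e2 : (f ≫ l) ≫ snd G X = (f ≫ l') ≫ snd G X := by
      simpa using congrArg (fun m => f ≫ m ≫ snd X X) e
    obtain ⟨h₀, hh₀, -⟩ := hz ((f ≫ l) ≫ snd G X)
    have hsp : ∀ m : T' ⟶ G ⊗ X, m ≫ a.act = lift (m ≫ fst G X) (m ≫ snd G X) ≫ a.act := fun m => by
      rw [← comp_lift, lift_fst_snd, Category.comp_id]
    have hg : ((f ≫ l) ≫ fst G X) * h₀ = ((f ≫ l') ≫ fst G X) * h₀ :=
      (hz ((f ≫ l) ≫ a.act)).unique
        (by rw [a.lift_mul_act, hh₀, ← hsp])
        (by rw [a.lift_mul_act, hh₀, e2, ← hsp, e1])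
    exact CartesianMonoidalCategory.hom_ext _ _ (mul_right_cancel hg) e2⟩
  obtain ⟨Sv, hSv, hz⟩ := key (X ⊗ X)
  refine isIso_of_mono_of_lifts_q _ hSv fun T f hf => ?_
  obtain ⟨z, hz⟩ := hz f hf
  obtain ⟨g₁, hg₁, -⟩ := hz (f ≫ fst X X)
  obtain ⟨g₂, hg₂, -⟩ := hz (f ≫ snd X X)
  refine ⟨lift (g₁ * g₂⁻¹) (f ≫ snd X X), CartesianMonoidalCategory.hom_ext _ _ ?_ (by simp)⟩
  rw [Category.assoc, lift_fst, ← hg₂, ← a.lift_mul_act, inv_mul_cancel_right, hg₁]

/-- A torsor trivialises over the pieces where it has sections. -/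
theorem isIso_trivialisation (h : NonAbH1.IsPseudoTorsorSch a) {T : Over S} (s : T ⟶ X) :
    IsIso (lift ((G ◁ s) ≫ a.act) (snd G T)) := by
  have hex := existsUnique_diff h (snd X T ≫ s) (fst X T)
  refine ⟨lift hex.choose (snd X T), ?_, ?_⟩
  · refine CartesianMonoidalCategory.hom_ext _ _ ?_ (by simp)
    rw [Category.assoc, lift_fst, Category.id_comp]
    refine (existsUnique_diff h (snd G T ≫ s) ((G ◁ s) ≫ a.act)).unique ?_ ?_
    · have := congrArg (fun m => lift ((G ◁ s) ≫ a.act) (snd G T) ≫ m) hex.choose_spec.1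
      simp only [comp_lift_assoc, lift_fst, lift_snd_assoc] at this
      exact this
    · have : lift (fst G T) (snd G T ≫ s) = G ◁ s :=
        CartesianMonoidalCategory.hom_ext _ _ (by simp) (by simp)
      rw [this]
  · refine CartesianMonoidalCategory.hom_ext _ _ ?_ (by simp)
    rw [Category.assoc, lift_fst, Category.id_comp, lift_whiskerLeft_assoc]
    exact hex.choose_spec.1

/-- Being a torsor descends along faithfully flat quasi-compact morphisms. -/
theorem isTorsorFor_of_bc {S' : Scheme.{u}} (f : S' ⟶ S) [Flat f] [Surjective f] [QuasiCompact f]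
    (h : NonAbH1.IsTorsorFor Scheme.fpqcPrecoverage (a.bc f)) :
    NonAbH1.IsTorsorFor Scheme.fpqcPrecoverage a := by
  refine ⟨?_, ?_⟩
  · have key : lift (a.bc f).act (snd _ _) ≫ Functor.LaxMonoidal.μ (Over.pullback f) X X =
        Functor.LaxMonoidal.μ (Over.pullback f) G X ≫ (Over.pullback f).map (lift a.act (snd G X)) := by
      rw [← Functor.Monoidal.lift_μ, comp_lift_assoc, Functor.Monoidal.μ_snd, AlgGrp.Action.bc_act]
    have : IsIso (lift (a.bc f).act (snd (Red.bc f G) (Red.bc f X))) := h.1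
    have : IsIso (Functor.LaxMonoidal.μ (Over.pullback f) G X ≫ (Over.pullback f).map (lift a.act (snd G X))) := by
      rw [← key]; infer_instance
    have hm : IsIso ((Over.pullback f).map (lift a.act (snd G X))) :=
      IsIso.of_isIso_comp_left (Functor.LaxMonoidal.μ (Over.pullback f) G X) _
    have : IsIso ((Over.pullback f).map (lift a.act (snd G X))).left :=
      inferInstanceAs (IsIso ((Over.forget S').map ((Over.pullback f).map (lift a.act (snd G X)))))
    let m := lift a.act (snd G X)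
    have sq : IsPullback ((Over.pullback f).map m).left (Limits.pullback.fst (G ⊗ X).hom f)
        (Limits.pullback.fst (X ⊗ X).hom f) m.left := by
      refine IsPullback.of_right (h₁₂ := Limits.pullback.snd (X ⊗ X).hom f) (v₁₃ := f) (h₂₂ := (X ⊗ X).hom) ?_ ?_
        (IsPullback.of_hasPullback (X ⊗ X).hom f).flip
      · rw [show ((Over.pullback f).map m).left ≫ Limits.pullback.snd (X ⊗ X).hom f =
            Limits.pullback.snd (G ⊗ X).hom f from Over.w ((Over.pullback f).map m), Over.w]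
        exact (IsPullback.of_hasPullback (G ⊗ X).hom f).flip
      · exact ActBC.pullback_map_left_fst f m
    have hiso : MorphismProperty.isomorphisms Scheme m.left :=
      MorphismProperty.of_isPullback_of_descendsAlong (Q := @Surjective ⊓ @Flat ⊓ @QuasiCompact) sq
        ⟨⟨inferInstance, inferInstance⟩, inferInstance⟩ ‹IsIso _›
    have : IsIso ((Over.forget S).map m) := hiso
    exact isIso_of_reflects_iso m (Over.forget S)
  · obtain ⟨R', hR', hs⟩ := h.2
    obtain ⟨J₀, W, c, rfl⟩ := R'.exists_eq_ofArrows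
    refine ⟨Presieve.ofArrows W (fun i => c i ≫ f), ?_, ?_⟩
    · have h0 : Presieve.ofArrows (fun _ : PUnit.{1} => S') (fun _ => f) ∈ Scheme.fpqcPrecoverage S := by
        rw [Presieve.ofArrows_pUnit]; exact f.singleton_mem_fpqcPrecoverage
      have := Precoverage.comp_mem_coverings (J := Scheme.fpqcPrecoverage) (fun _ : PUnit.{1} => f) h0
        (fun _ => c) (fun _ => hR')
      have hrw : Presieve.ofArrows W (fun i => c i ≫ f) =
          Presieve.ofArrows (fun p : Σ _ : PUnit.{1}, J₀ => W p.2) (fun p => c p.2 ≫ f) := by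
        funext V g
        refine propext ⟨fun h => ?_, fun h => ?_⟩
        · cases h with
          | mk i => exact Presieve.ofArrows.mk (f := fun p : Σ _ : PUnit.{1}, J₀ => c p.2 ≫ f) ⟨PUnit.unit, i⟩
        · cases h with
          | mk p => exact Presieve.ofArrows.mk (f := fun i => c i ≫ f) p.2
      rw [hrw]
      exact this
    · rintro V g ⟨i⟩
      obtain ⟨s, hs'⟩ := hs (c i) (Presieve.ofArrows.mk i)
      refine ⟨s ≫ Limits.pullback.fst X.hom f, ?_⟩
      rw [Category.assoc, Limits.pullback.condition, ← Category.assoc]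
      exact congrArg (· ≫ f) hs'

/-- Compatible maps out of a torsor factor uniquely through its push forward. -/
theorem existsUnique_pushforward {J J' J'' P P' P'' : Over S} [GrpObj J] [GrpObj J'] [GrpObj J'']
    (u : J ⟶ J') [IsMonHom u] (v : J' ⟶ J'') [IsMonHom v]
    (a : AlgGrp.Action J P) (a' : AlgGrp.Action J' P') (a'' : AlgGrp.Action J'' P'')
    (hP : NonAbH1.IsTorsorFor Scheme.fpqcPrecoverage a) (hP' : NonAbH1.IsPseudoTorsorSch a')
    (q' : P ⟶ P') (hq' : a.act ≫ q' = lift (fst J P ≫ u) (snd J P ≫ q') ≫ a'.act)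
    (q'' : P ⟶ P'') (hq'' : a.act ≫ q'' = lift (fst J P ≫ u ≫ v) (snd J P ≫ q'') ≫ a''.act) :
    ∃! r : P' ⟶ P'', a'.act ≫ r = lift (fst J' P' ≫ v) (snd J' P' ≫ r) ≫ a''.act ∧ q' ≫ r = q'' := by
  have e' : ∀ {T : Over S} (h : T ⟶ J) (p : T ⟶ P),
      (lift h p ≫ a.act) ≫ q' = lift (h ≫ u) (p ≫ q') ≫ a'.act := fun h p => by
    rw [Category.assoc, hq', comp_lift_assoc, lift_fst_assoc, lift_snd_assoc]
  have e'' : ∀ {T : Over S} (h : T ⟶ J) (p : T ⟶ P),
      (lift h p ≫ a.act) ≫ q'' = lift (h ≫ u ≫ v) (p ≫ q'') ≫ a''.act := fun h p => by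
    rw [Category.assoc, hq'', comp_lift_assoc, lift_fst_assoc, lift_snd_assoc]
  have wd : ∀ {T : Over S} (g₁ g₂ : T ⟶ J') (p₁ p₂ : T ⟶ P),
      lift g₁ (p₁ ≫ q') ≫ a'.act = lift g₂ (p₂ ≫ q') ≫ a'.act →
      lift (g₁ ≫ v) (p₁ ≫ q'') ≫ a''.act = lift (g₂ ≫ v) (p₂ ≫ q'') ≫ a''.act := by
    intro T g₁ g₂ p₁ p₂ e
    obtain ⟨h, hh, -⟩ := existsUnique_diff hP.1 p₁ p₂
    rw [← hh, e', ← a'.lift_mul_act] at e
    have hg : g₁ = g₂ * (h ≫ u) := (existsUnique_diff hP' (p₁ ≫ q') _).unique rfl e.symm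
    rw [← hh, e'', ← a''.lift_mul_act, hg, MonObj.mul_comp, Category.assoc]
  let Sv := pointSieve P P'
  have hSv := pointSieve_mem hP.2 P'
  let fam : Presieve.FamilyOfElements (yoneda.obj P'') Sv.arrows := fun T f hf =>
    lift ((existsUnique_diff hP' (hf.some ≫ q') f).choose ≫ v) (hf.some ≫ q'') ≫ a''.act
  have hfam : fam.Compatible := by
    intro T₁ T₂ T k₁ k₂ f₁ f₂ h₁ h₂ w
    have hval : ∀ {T₀ : Over S} (k : T ⟶ T₀) (g : T₀ ⟶ J') (p : T₀ ⟶ P),
        k ≫ lift (g ≫ v) (p ≫ q'') ≫ a''.act = lift ((k ≫ g) ≫ v) ((k ≫ p) ≫ q'') ≫ a''.act :=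
      fun k g p => by rw [comp_lift_assoc, Category.assoc, Category.assoc]
    have hval' : ∀ {T₀ : Over S} (k : T ⟶ T₀) (g : T₀ ⟶ J') (p : T₀ ⟶ P) (f : T₀ ⟶ P'),
        lift g (p ≫ q') ≫ a'.act = f → lift (k ≫ g) ((k ≫ p) ≫ q') ≫ a'.act = k ≫ f :=
      fun k g p f e => by rw [← e, comp_lift_assoc, Category.assoc]
    refine ((hval k₁ _ h₁.some).trans ?_).trans (hval k₂ _ h₂.some).symm
    refine wd _ _ _ _ ?_
    rw [hval' k₁ _ h₁.some f₁ (existsUnique_diff hP' (h₁.some ≫ q') f₁).choose_spec.1,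
      hval' k₂ _ h₂.some f₂ (existsUnique_diff hP' (h₂.some ≫ q') f₂).choose_spec.1]
    exact w
  let r := (isSheaf_yoneda_q P'' Sv hSv).amalgamate fam hfam
  have hr : ∀ {T : Over S} (g : T ⟶ J') (p : T ⟶ P),
      (lift g (p ≫ q') ≫ a'.act) ≫ r = lift (g ≫ v) (p ≫ q'') ≫ a''.act := by
    intro T g p
    have hf : Sv.arrows (lift g (p ≫ q') ≫ a'.act) := ⟨p⟩
    rw [show (lift g (p ≫ q') ≫ a'.act) ≫ r = fam _ hf from
      (isSheaf_yoneda_q P'' Sv hSv).valid_glue hfam _ hf]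
    exact wd _ _ _ _ (existsUnique_diff hP' (hf.some ≫ q') _).choose_spec.1
  have hq : q' ≫ r = q'' := by
    have := hr (1 : P ⟶ J') (𝟙 P)
    rwa [a'.lift_one_act, Category.id_comp, Category.id_comp, MonObj.one_comp, a''.lift_one_act] at this
  refine ⟨r, ⟨?_, hq⟩, fun r₂ hr₂ => hom_ext_q hSv fun T f hf => ?_⟩
  · refine AlgGrp.Action.hom_ext_lift₂ fun T g y => hom_ext_q (pointSieve_mem hP.2 T) fun T' f hf => ?_
    obtain ⟨p⟩ := hf
    obtain ⟨g', hg', -⟩ := existsUnique_diff hP' (p ≫ q') (f ≫ y)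
    have hl : f ≫ lift g y ≫ a'.act ≫ r = (lift (f ≫ g) (f ≫ y) ≫ a'.act) ≫ r := by
      rw [comp_lift_assoc, Category.assoc]
    have hrt : f ≫ lift g y ≫ lift (fst J' P' ≫ v) (snd J' P' ≫ r) ≫ a''.act =
        lift ((f ≫ g) ≫ v) ((f ≫ y) ≫ r) ≫ a''.act := by
      simp only [comp_lift_assoc, lift_fst_assoc, lift_snd_assoc, Category.assoc]
    refine hl.trans (Eq.trans ?_ hrt.symm)
    rw [← hg', ← a'.lift_mul_act, hr, hr, ← a''.lift_mul_act, ← MonObj.mul_comp]
  · obtain ⟨p⟩ := hf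
    obtain ⟨g', hg', -⟩ := existsUnique_diff hP' (p ≫ q') f
    rw [← hg', hr, Category.assoc, hr₂.1, comp_lift_assoc, lift_fst_assoc, lift_snd_assoc, Category.assoc,
      hr₂.2]

end Groth.Agent.GITLib
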