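import Groth.Agent.GITLib.Prufer
import Groth.Agent.GITLib.ExtendPoint
import Groth.Agent.GITLib.TorsorSchMore
import Groth.Agent.GrpdLib.GrpOver
import Groth.Agent.GrpScheme.Ext
import Groth.Prelude.Def_ActBC
import Groth.Prelude.Def_Neron
import Mathlib.RingTheory.DedekindDomain.IntegralClosure
import Mathlib.RingTheory.Flat.TorsionFree
import Mathlib.RingTheory.Localization.BaseChange
import Mathlib.AlgebraicGeometry.Morphisms.SchemeTheoreticallyDominant

/-!
# Torsors under proper flat group schemes over a Dedekind domain are determined by their generic fibre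
-/

set_option autoImplicit false

universe u

open CategoryTheory Limits MonoidalCategory CartesianMonoidalCategory MonObj AlgebraicGeometry

namespace Groth.Agent.GITLib

/-- A point over the fraction field of a proper scheme extends over a domain with valuation local rings. -/
theorem exists_lift_of_point {R : Type u} [CommRing R] (B : CommRingCat.{u}) [IsDomain B] [Algebra R B]
    (hV : ∀ p : Ideal B, ∀ _ : p.IsPrime, ValuationRing (Localization.AtPrime p))
    (L : Type u) [Field L] [Algebra B L] [IsFractionRing B L]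
    (P : Over (Spec (CommRingCat.of R))) [IsProper P.hom] (x : Spec (CommRingCat.of L) ⟶ P.left)
    (hx : x ≫ P.hom = Spec.map (CommRingCat.ofHom (algebraMap B L)) ≫ Spec.map (CommRingCat.ofHom (algebraMap R B))) :
    ∃ ζ : Spec B ⟶ P.left, ζ ≫ P.hom = Spec.map (CommRingCat.ofHom (algebraMap R B)) ∧
      Spec.map (CommRingCat.ofHom (algebraMap B L)) ≫ ζ = x := by
  let t : Spec B ⟶ Spec (CommRingCat.of R) := Spec.map (CommRingCat.ofHom (algebraMap R B))
  have hV' : ∀ q : Spec B, ValuationRing ((Spec B).presheaf.stalk q) := fun q => by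
    let q' : PrimeSpectrum B := q
    have := hV q'.asIdeal q'.2
    letI : Algebra B ((Spec B).presheaf.stalk q) := (StructureSheaf.toStalk B q).hom.toAlgebra
    have : IsLocalization.AtPrime ((Spec B).presheaf.stalk q) q'.asIdeal := StructureSheaf.IsLocalization.to_stalk B q'
    exact Function.Surjective.valuationRing
      (IsLocalization.algEquiv q'.asIdeal.primeCompl (Localization.AtPrime q'.asIdeal)
        ((Spec B).presheaf.stalk q)).toRingEquiv.toRingHom
      (IsLocalization.algEquiv q'.asIdeal.primeCompl (Localization.AtPrime q'.asIdeal)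
        ((Spec B).presheaf.stalk q)).surjective
  let e : L ≃ₐ[B] (Spec B).functionField := IsLocalization.algEquiv (nonZeroDivisors B) L (Spec B).functionField
  let ψ : Spec (Spec B).functionField ⟶ Spec (CommRingCat.of L) :=
    Spec.map (CommRingCat.ofHom e.toRingEquiv.toRingHom)
  have : IsIso ψ := (Scheme.Spec.mapIso e.toRingEquiv.toCommRingCatIso.op).isIso_hom
  have hψ : ψ ≫ Spec.map (CommRingCat.ofHom (algebraMap B L)) = (Spec B).fromSpecStalk (genericPoint (Spec B)) := by
    rw [Spec.fromSpecStalk_eq']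
    refine (Spec.map_comp _ _).symm.trans (congrArg Spec.map ?_)
    exact CommRingCat.hom_ext (RingHom.ext fun b => e.commutes b)
  have hw : (ψ ≫ x) ≫ P.hom = (Spec B).fromSpecStalk (genericPoint (Spec B)) ≫ t := by
    rw [Category.assoc, hx, ← Category.assoc, hψ]
  obtain ⟨s, hs, hs'⟩ := exists_section_of_genericPoint hV' (pullback.snd P.hom t)
    (pullback.lift (ψ ≫ x) ((Spec B).fromSpecStalk (genericPoint (Spec B))) hw) (pullback.lift_snd _ _ _)
  refine ⟨s ≫ pullback.fst _ _, ?_, ?_⟩
  · rw [Category.assoc, pullback.condition, ← Category.assoc, hs, Category.id_comp]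
  · rw [← cancel_epi ψ, ← Category.assoc, hψ, ← Category.assoc, hs', pullback.lift_fst]

/-- A nonempty scheme locally of finite type over a field has a point in every algebraically closed extension. -/
theorem exists_geometric_point {k : Type u} [Field k] (X : Over (Spec (CommRingCat.of k))) [LocallyOfFiniteType X.hom]
    [Nonempty ↥X.left] (Ω : Type u) [Field Ω] [Algebra k Ω] [IsAlgClosed Ω] :
    Nonempty (Over.mk (Spec.map (CommRingCat.ofHom (algebraMap k Ω))) ⟶ X) := by
  obtain ⟨x⟩ := ‹Nonempty ↥X.left›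
  obtain ⟨U, hU, hxU, -⟩ := AlgebraicGeometry.exists_isAffineOpen_mem_and_subset
    (x := x) (U := ⊤) trivial
  let ρ : CommRingCat.of k ⟶ Γ(X.left, U) := Spec.preimage (hU.fromSpec ≫ X.hom)
  have hρ : Spec.map ρ = hU.fromSpec ≫ X.hom := Spec.map_preimage _
  algebraize [ρ.hom]
  have : Algebra.FiniteType k Γ(X.left, U) := by
    have : LocallyOfFiniteType (Spec.map ρ) := hρ ▸ inferInstance
    exact (HasRingHomProperty.Spec_iff (P := @LocallyOfFiniteType)).mp this
  have : Nonempty U := ⟨⟨x, hxU⟩⟩
  obtain ⟨m, hm⟩ := Ideal.exists_maximal Γ(X.left, U)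
  let _ := Ideal.Quotient.field m
  have : Module.Finite k (Γ(X.left, U) ⧸ m) := finite_of_finite_type_of_isJacobsonRing k _
  let c : Γ(X.left, U) →ₐ[k] Ω :=
    (IsAlgClosed.lift : (Γ(X.left, U) ⧸ m) →ₐ[k] Ω).comp (Ideal.Quotient.mkₐ k m)
  refine ⟨Over.homMk (Spec.map (CommRingCat.ofHom c.toRingHom) ≫ hU.fromSpec) ?_⟩
  rw [Category.assoc, ← hρ, ← Spec.map_comp]
  exact congrArg Spec.map (CommRingCat.hom_ext (RingHom.ext fun r => c.commutes r))

section Generic

variable {S S' : Scheme.{u}} (g : S' ⟶ S)

/-- Morphisms to a separated scheme are determined by the preimage of a schematically dominant open or point. -/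
theorem ext_generic [IsSchemeTheoreticallyDominant g] [QuasiCompact g] {W Z : Over S} [Flat W.hom]
    [IsSeparated Z.hom] {a b : W ⟶ Z}
    (h : (Over.mapPullbackAdj g).counit.app W ≫ a = (Over.mapPullbackAdj g).counit.app W ≫ b) : a = b := by
  refine Over.OverMorphism.ext (GrpScheme.Ext.ext_of_schematicallyDominant (pullback.fst W.hom g) Z.hom
    ((Over.w a).trans (Over.w b).symm) ?_)
  have h' := congrArg CommaMorphism.left h
  simpa [Over.mapPullbackAdj] using h'

variable {G X X' : Over S} [GrpObj G] {a : AlgGrp.Action G X} {a' : AlgGrp.Action G X'}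

/-- The effect on points of a morphism of base changes. -/
noncomputable def genMap (e : NonAbH1.EquivIso (a.bc g) (a'.bc g)) {T : Over S'}
    (x : (Over.map g).obj T ⟶ X) : (Over.map g).obj T ⟶ X' :=
  ((Over.mapPullbackAdj g).homEquiv T X').symm ((Over.mapPullbackAdj g).homEquiv T X x ≫ e.iso.hom)

theorem genMap_comp (e : NonAbH1.EquivIso (a.bc g) (a'.bc g)) {T T' : Over S'} (k : T' ⟶ T)
    (x : (Over.map g).obj T ⟶ X) : genMap g e ((Over.map g).map k ≫ x) = (Over.map g).map k ≫ genMap g e x := by
  simp only [genMap, Adjunction.homEquiv_naturality_left, Category.assoc,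
    Adjunction.homEquiv_naturality_left_symm]

theorem genMap_act (e : NonAbH1.EquivIso (a.bc g) (a'.bc g)) {T : Over S'} (h : (Over.map g).obj T ⟶ G)
    (x : (Over.map g).obj T ⟶ X) :
    genMap g e (lift h x ≫ a.act) = lift h (genMap g e x) ≫ a'.act := by
  apply ((Over.mapPullbackAdj g).homEquiv T X').injective
  rw [← AlgGrp.Action.lift_homEquiv_bc_act]
  simp only [genMap, Equiv.apply_symm_apply]
  rw [← AlgGrp.Action.lift_homEquiv_bc_act, Category.assoc, e.comm, lift_whiskerLeft_assoc]

end Generic

/-- An isomorphism of the generic fibres of two torsors extends, given a faithfully flat quasi-compact `T` with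
generic fibre `T₁` and points of the torsors on `T` matched by the isomorphism. -/
theorem exists_equivIso_of_cover {S S' : Scheme.{u}} (g : S' ⟶ S) [IsSchemeTheoreticallyDominant g] [QuasiCompact g]
    {G P P' : Over S} [GrpObj G] [Flat G.hom] [IsSeparated P'.hom] [Flat P.hom]
    {a : AlgGrp.Action G P} {a' : AlgGrp.Action G P'}
    (ha : NonAbH1.IsTorsorFor Scheme.fpqcPrecoverage a) (ha' : NonAbH1.IsPseudoTorsorSch a')
    (e : NonAbH1.EquivIso (a.bc g) (a'.bc g))
    (T : Over S) [Flat T.hom] [Surjective T.hom] [QuasiCompact T.hom]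
    {T₁ : Over S'} (τ : (Over.map g).obj T₁ ⟶ T)
    (hι : ∀ {V : Over S'} (f : (Over.map g).obj V ⟶ T), ∃ k : V ⟶ T₁, (Over.map g).map k ≫ τ = f)
    (ζ : T ⟶ P) (ζ' : T ⟶ P') (hζ : τ ≫ ζ' = genMap g e (τ ≫ ζ)) :
    Nonempty (NonAbH1.EquivIso a a') := by
  obtain ⟨h, hh, -⟩ := existsUnique_diff ha.1 (fst T P ≫ ζ) (snd T P)
  let φ₁ : T ⊗ P ⟶ P' := lift h (fst T P ≫ ζ') ≫ a'.act
  have key : ∀ {V : Over S'} (w : (Over.map g).obj V ⟶ T ⊗ P), w ≫ φ₁ = genMap g e (w ≫ snd T P) := by
    intro V w
    obtain ⟨k, hk⟩ := hι (w ≫ fst T P)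
    have h1 : w ≫ fst T P ≫ ζ' = genMap g e (w ≫ fst T P ≫ ζ) := by
      rw [← Category.assoc, ← Category.assoc, ← hk, Category.assoc, Category.assoc, hζ, genMap_comp]
    simp only [φ₁, ← hh, comp_lift_assoc]
    rw [genMap_act, h1]
  have hepi : ∀ (B : Over S), EffectiveEpi (snd T B).left := fun B => by
    have : Flat (snd T B).left := inferInstanceAs (Flat (pullback.snd T.hom B.hom))
    have : Surjective (snd T B).left := inferInstanceAs (Surjective (pullback.snd T.hom B.hom))
    have : QuasiCompact (snd T B).left := inferInstanceAs (QuasiCompact (pullback.snd T.hom B.hom))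
    infer_instance
  have := hepi P
  obtain ⟨φ, hφ, -⟩ := GrpdLib.GrpOver.existsUnique_desc (snd T P) φ₁ fun V u v huv => by
    let π₁ : T ⊗ (T ⊗ P) ⟶ T ⊗ P := lift (fst _ _) (snd _ _ ≫ snd _ _)
    let π₂ : T ⊗ (T ⊗ P) ⟶ T ⊗ P := snd _ _
    have : Flat (T ⊗ (T ⊗ P)).hom := by
      show Flat (pullback.fst T.hom (pullback.fst T.hom P.hom ≫ T.hom) ≫ T.hom)
      infer_instance
    have hπ : π₁ ≫ φ₁ = π₂ ≫ φ₁ := ext_generic g <| by
      rw [← Category.assoc _ π₁, ← Category.assoc _ π₂]
      refine (key (V := (Over.pullback g).obj _) _).trans ((key (V := (Over.pullback g).obj _) _).trans ?_).symm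
      simp [π₁, π₂]
    let w : V ⟶ T ⊗ (T ⊗ P) := lift (u ≫ fst _ _) v
    have hu : w ≫ π₁ = u := CartesianMonoidalCategory.hom_ext _ _ (by simp [w, π₁]) (by simp [w, π₁, huv])
    have hv : w ≫ π₂ = v := by simp [w, π₂]
    rw [← hu, ← hv, Category.assoc, Category.assoc, hπ]
  have hgen : ∀ {V : Over S'} (x : (Over.map g).obj V ⟶ P), x ≫ φ = genMap g e x := by
    intro V x
    let V' : Over S' := Over.mk ((snd T ((Over.map g).obj V)).left ≫ V.hom)
    let k : V' ⟶ V := Over.homMk (snd T ((Over.map g).obj V)).left rfl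
    let i : (Over.map g).obj V' ⟶ T ⊗ (Over.map g).obj V := Over.homMk (𝟙 _) <| by
      show 𝟙 _ ≫ (T ⊗ (Over.map g).obj V).hom = ((snd T ((Over.map g).obj V)).left ≫ V.hom) ≫ g
      rw [Category.id_comp, Category.assoc]
      exact (Over.w (snd T ((Over.map g).obj V))).symm
    have hi : i ≫ snd _ _ = (Over.map g).map k := Over.OverMorphism.ext (Category.id_comp _)
    have h1 := key (i ≫ T ◁ x)
    rw [← hφ] at h1
    simp only [Category.assoc, whiskerLeft_snd, whiskerLeft_snd_assoc] at h1
    rw [← Category.assoc i, ← Category.assoc i, hi, genMap_comp] at h1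
    have : EffectiveEpi ((Over.map g).map k).left := hepi ((Over.map g).obj V)
    exact GrpdLib.GrpOver.cancel_left _ h1
  have : Flat (G ⊗ P).hom := by
    show Flat (pullback.fst G.hom P.hom ≫ G.hom)
    infer_instance
  have heq : a.act ≫ φ = (G ◁ φ) ≫ a'.act := ext_generic g <| by
    set j := (Over.mapPullbackAdj g).counit.app (G ⊗ P)
    have hj : j ≫ a.act = lift (j ≫ fst G P) (j ≫ snd G P) ≫ a.act :=
      congrArg (· ≫ a.act) (CartesianMonoidalCategory.hom_ext _ _ (by simp) (by simp))
    have hj' : j ≫ (G ◁ φ) = lift (j ≫ fst G P) ((j ≫ snd G P) ≫ φ) :=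
      CartesianMonoidalCategory.hom_ext _ _ (by simp) (by simp)
    refine (Category.assoc _ _ _).symm.trans ((hgen (V := (Over.pullback g).obj (G ⊗ P)) (j ≫ a.act)).trans ?_)
    rw [hj, genMap_act, ← hgen, ← Category.assoc j, hj']
  have := isIso_of_equivariant ha ha' φ heq
  exact ⟨⟨asIso φ, heq⟩⟩

/-- Two torsors under a proper flat group over a Dedekind domain which agree generically are isomorphic. -/
theorem exists_equivIso_dedekind {R : Type u} [CommRing R] [IsDedekindDomain R]
    {G P P' : Over (Spec (CommRingCat.of R))} [GrpObj G] [IsProper G.hom] [Flat G.hom]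
    {a : AlgGrp.Action G P} {a' : AlgGrp.Action G P'}
    (ha : NonAbH1.IsTorsorFor Scheme.fpqcPrecoverage a) (ha' : NonAbH1.IsTorsorFor Scheme.fpqcPrecoverage a')
    (e : NonAbH1.EquivIso (a.bc (Neron.genPt R)) (a'.bc (Neron.genPt R))) :
    Nonempty (NonAbH1.EquivIso a a') := by
  have := FpqcDesc.descendsAlong_isProper.{u}
  have : IsProper P.hom := property_of_torsor @IsProper ha inferInstance
  have : IsProper P'.hom := property_of_torsor @IsProper ha' inferInstance
  have : Flat P.hom := property_of_torsor @Flat ha inferInstance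
  have : Surjective G.hom := ⟨fun s => ⟨(η[G]).left s, congr($(Over.w η[G]) s)⟩⟩
  have : Surjective P.hom := property_of_torsor @Surjective ha inferInstance
  let K := FractionRing R
  let L := AlgebraicClosure K
  let g := Neron.genPt R
  have : IsSchemeTheoreticallyDominant g := by
    rw [isSchemeTheoreticallyDominant_iff]
    refine Scheme.IdealSheafData.ext_of_isAffine ?_
    simp only [Scheme.Hom.ker_apply, Scheme.IdealSheafData.ideal_bot, Pi.bot_apply]
    rw [← RingHom.injective_iff_ker_eq_bot]
    have h := Scheme.ΓSpecIso_naturality (CommRingCat.ofHom (algebraMap R (FractionRing R)))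
    intro x y hxy
    have h1 := congr($h x)
    have h2 := congr($h y)
    simp only [CommRingCat.comp_apply] at h1 h2
    apply (Scheme.ΓSpecIso (CommRingCat.of R)).commRingCatIsoToRingEquiv.injective
    apply IsFractionRing.injective R (FractionRing R)
    exact h1.symm.trans ((congrArg _ hxy).trans h2)
  have : Algebra.IsAlgebraic R L := (IsFractionRing.comap_isAlgebraic_iff (A := R) (K := K)).mpr inferInstance
  let B := integralClosure R L
  have : IsFractionRing B L := integralClosure.isFractionRing_of_algebraic fun x hx => by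
    rw [IsScalarTower.algebraMap_apply R K L, map_eq_zero] at hx
    exact (IsFractionRing.injective R K) (hx.trans (map_zero _).symm)
  have : FaithfulSMul R L := (faithfulSMul_iff_algebraMap_injective R L).mpr <| by
    rw [IsScalarTower.algebraMap_eq R K L]
    exact (algebraMap K L).injective.comp (IsFractionRing.injective R K)
  have : FaithfulSMul R B := (faithfulSMul_iff_algebraMap_injective R B).mpr fun x y h =>
    FaithfulSMul.algebraMap_injective R L (congrArg Subtype.val h)
  have : IsIntegrallyClosed B := (isIntegrallyClosed_iff L).mpr fun {x} hx =>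
    ⟨⟨x, isIntegral_trans x hx⟩, rfl⟩
  have : IsLocalization (Algebra.algebraMapSubmonoid B (nonZeroDivisors R)) L :=
    IsIntegralClosure.isLocalization R K L B
  have : Algebra.IsPushout R B K L := Algebra.isPushout_of_isLocalization (nonZeroDivisors R) _ _ _
  have hpb := isPullback_SpecMap_of_isPushout _ _ _ _ (CommRingCat.isPushout_of_isPushout R B K L)
  let t := Spec.map (CommRingCat.ofHom (algebraMap R B))
  have : Surjective t := ⟨by
    have hint : (algebraMap R B).IsIntegral := fun x => Algebra.IsIntegral.isIntegral x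
    intro p
    let p' : PrimeSpectrum R := p
    obtain ⟨q, hq, hqp⟩ := Ideal.exists_ideal_over_prime_of_isIntegral_of_isDomain (S := B) p'.asIdeal
      (by rw [(RingHom.injective_iff_ker_eq_bot _).mp (FaithfulSMul.algebraMap_injective R B)]; exact bot_le)
    exact ⟨⟨q, hq⟩, PrimeSpectrum.ext hqp⟩⟩
  have : Module.IsTorsionFree R B := inferInstance
  have : Flat t := HasRingHomProperty.Spec_iff.mpr (RingHom.flat_algebraMap_iff.mpr inferInstance)
  let T : Over (Spec (CommRingCat.of R)) := Over.mk t
  have : Flat T.hom := ‹Flat t›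
  have : Surjective T.hom := ‹Surjective t›
  have : QuasiCompact T.hom := inferInstanceAs (QuasiCompact t)
  let T₁ : Over (Spec (CommRingCat.of K)) := Over.mk (Spec.map (CommRingCat.ofHom (algebraMap K L)))
  let τ : (Over.map g).obj T₁ ⟶ T := Over.homMk (Spec.map (CommRingCat.ofHom (algebraMap B L))) hpb.w
  have hι : ∀ {V : Over (Spec (CommRingCat.of K))} (f : (Over.map g).obj V ⟶ T),
      ∃ k : V ⟶ T₁, (Over.map g).map k ≫ τ = f := fun {V} f =>
    ⟨Over.homMk (hpb.lift f.left V.hom (Over.w f)) (hpb.lift_snd _ _ _), Over.OverMorphism.ext (hpb.lift_fst _ _ _)⟩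
  have : Nonempty ↥(Red.bc g P).left := by
    obtain ⟨z, -⟩ := (MorphismProperty.pullback_snd (P := @Surjective) P.hom g ‹_›).surj default
    exact ⟨z⟩
  have : LocallyOfFiniteType (Red.bc g P).hom := inferInstanceAs (LocallyOfFiniteType (pullback.snd P.hom g))
  obtain ⟨x₁⟩ := exists_geometric_point (Red.bc g P) L
  let x₀ : (Over.map g).obj T₁ ⟶ P := ((Over.mapPullbackAdj g).homEquiv T₁ P).symm x₁
  have hV : ∀ p : Ideal B, ∀ _ : p.IsPrime, ValuationRing (Localization.AtPrime p) :=
    fun p hp => valuationRing_localization (R := R) p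
  obtain ⟨ζ, hζ, hζι⟩ := exists_lift_of_point (CommRingCat.of B) hV L P x₀.left ((Over.w x₀).trans hpb.w.symm)
  obtain ⟨ζ', hζ', hζι'⟩ := exists_lift_of_point (CommRingCat.of B) hV L P' (genMap g e x₀).left
    ((Over.w (genMap g e x₀)).trans hpb.w.symm)
  exact exists_equivIso_of_cover g ha ha'.1 e T τ hι (Over.homMk ζ hζ) (Over.homMk ζ' hζ')
    ((Over.OverMorphism.ext hζι' : _ = genMap g e x₀).trans (congrArg _ (Over.OverMorphism.ext hζι).symm))

end Groth.Agent.GITLib
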