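import Groth.Agent.GITLib.UnivGeom
import Mathlib.AlgebraicGeometry.Sites.Fpqc

/-!
# Faithfully flat descent of universal geometric quotients
-/

set_option autoImplicit false

universe u

open CategoryTheory MonoidalCategory CartesianMonoidalCategory MonObj AlgebraicGeometry Topology

namespace Groth.Agent.GITLib

variable {S : Scheme.{u}} {G X Y X' Y' : Over S} [GrpObj G] {a : AlgGrp.Action G X} {φ : X ⟶ Y}
  {α : Y' ⟶ Y} {pr : X' ⟶ X} {φ' : X' ⟶ Y'} {a' : AlgGrp.Action G X'}

/-- Base change of a universal geometric quotient. -/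
theorem isUnivGeomQuot_baseChange {X₁ Y₁ : Over S} {pr₁ : X₁ ⟶ X} {φ₁ : X₁ ⟶ Y₁} {g : Y₁ ⟶ Y}
    (h : GIT.IsUnivGeomQuot a φ) (H : IsPullback pr₁ φ₁ φ g)
    (a₁ : AlgGrp.Action G X₁) (ha : a₁.act ≫ pr₁ = (G ◁ pr₁) ≫ a.act) (hi : GIT.IsInvariant a₁ φ₁) :
    GIT.IsUnivGeomQuot a₁ φ₁ := by
  refine ⟨h.2 pr₁ φ₁ g trivial H a₁ ha hi, fun X'' Y'' pr' φ'' g' _ H' a'' ha'' hi'' => ?_⟩
  refine h.2 (pr' ≫ pr₁) φ'' (g' ≫ g) trivial (H'.paste_horiz H) a'' ?_ hi''
  rw [← Category.assoc, ha'', Category.assoc, ha, ← Category.assoc, ← MonoidalCategory.whiskerLeft_comp]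

/-- Descent of the universal property. -/
theorem isCatQuot_descent (hinv : GIT.IsInvariant a φ) [Flat α.left] [Surjective α.left]
    [QuasiCompact α.left] (H : IsPullback pr φ' φ α) (ha : a'.act ≫ pr = (G ◁ pr) ≫ a.act)
    (h : GIT.IsUnivGeomQuot a' φ') : GIT.IsCatQuot a φ := by
  refine ⟨hinv, fun Z ψ hψ => ?_⟩
  have hψ' : GIT.IsInvariant a' (pr ≫ ψ) := by
    show a'.act ≫ pr ≫ ψ = snd G X' ≫ pr ≫ ψ
    rw [← Category.assoc, ha, Category.assoc, show a.act ≫ ψ = snd G X ≫ ψ from hψ, whiskerLeft_snd_assoc]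
  have hcat := isCatQuot_of_isGeomQuot h.1
  obtain ⟨χ', hχ', hu'⟩ := hcat.2 Z _ hψ'
  let p₁ := Limits.pullback.fst α α
  let p₂ := Limits.pullback.snd α α
  have key : p₁ ≫ χ' = p₂ ≫ χ' := by
    let W := Limits.pullback φ (p₁ ≫ α)
    let w : W ⟶ Limits.pullback α α := Limits.pullback.snd _ _
    let f : W ⟶ X := Limits.pullback.fst _ _
    have Hb : IsPullback f w φ (p₁ ≫ α) := IsPullback.of_hasPullback _ _
    have hc : p₁ ≫ α = p₂ ≫ α := Limits.pullback.condition
    have Hb₂ : IsPullback f w φ (p₂ ≫ α) := by rw [← hc]; exact Hb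
    let r₁ := H.lift f (w ≫ p₁) (by rw [Hb.w, Category.assoc])
    let r₂ := H.lift f (w ≫ p₂) (by rw [Hb₂.w, Category.assoc])
    have Hr₁ : IsPullback r₁ w φ' p₁ :=
      IsPullback.of_right (by rw [H.lift_fst]; exact Hb) (H.lift_snd _ _ _) H
    let a'' := pullbackAction a hinv Hb
    have ha'' : a''.act ≫ r₁ = (G ◁ r₁) ≫ a'.act := by
      refine H.hom_ext ?_ ?_
      · rw [Category.assoc, Category.assoc, H.lift_fst, pullbackAction_pr hinv Hb, ha, ← Category.assoc,
          ← MonoidalCategory.whiskerLeft_comp, H.lift_fst]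
      · rw [Category.assoc, Category.assoc, H.lift_snd, show a'.act ≫ φ' = snd G X' ≫ φ' from h.1.inv,
          whiskerLeft_snd_assoc, H.lift_snd, ← Category.assoc, pullbackAction_inv hinv Hb, Category.assoc]
    have hcw := isCatQuot_of_isGeomQuot (h.2 r₁ w p₁ trivial Hr₁ a'' ha'' (pullbackAction_inv hinv Hb))
    obtain ⟨χ'', -, hu''⟩ := hcw.2 Z (f ≫ ψ) (by
      show a''.act ≫ f ≫ ψ = snd G W ≫ f ≫ ψ
      rw [← Category.assoc, pullbackAction_pr hinv Hb, Category.assoc,
        show a.act ≫ ψ = snd G X ≫ ψ from hψ, whiskerLeft_snd_assoc])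
    have e₁ : w ≫ p₁ ≫ χ' = f ≫ ψ := by
      rw [← Category.assoc, ← H.lift_snd f (w ≫ p₁) (by rw [Hb.w, Category.assoc]), Category.assoc, hχ',
        ← Category.assoc, H.lift_fst]
    have e₂ : w ≫ p₂ ≫ χ' = f ≫ ψ := by
      rw [← Category.assoc, ← H.lift_snd f (w ≫ p₂) (by rw [Hb₂.w, Category.assoc]), Category.assoc, hχ',
        ← Category.assoc, H.lift_fst]
    exact (hu'' _ e₁).trans (hu'' _ e₂).symm
  have hh : ∀ {T : Scheme.{u}} (g₁ g₂ : T ⟶ Y'.left), g₁ ≫ α.left = g₂ ≫ α.left →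
      g₁ ≫ χ'.left = g₂ ≫ χ'.left := by
    intro T g₁ g₂ e
    have e' : g₂ ≫ Y'.hom = g₁ ≫ Y'.hom := by rw [← Over.w α, reassoc_of% e]
    let t₁ : Over.mk (g₁ ≫ Y'.hom) ⟶ Y' := Over.homMk g₁ rfl
    let t₂ : Over.mk (g₁ ≫ Y'.hom) ⟶ Y' := Over.homMk g₂ e'
    let t := Limits.pullback.lift t₁ t₂ (show t₁ ≫ α = t₂ ≫ α from Over.OverMorphism.ext e)
    have h2 : t₁ ≫ χ' = t₂ ≫ χ' := by
      rw [← Limits.pullback.lift_fst t₁ t₂ (show t₁ ≫ α = t₂ ≫ α from Over.OverMorphism.ext e),
        Category.assoc, key, ← Category.assoc, Limits.pullback.lift_snd]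
    exact congrArg CommaMorphism.left h2
  have hprl : IsPullback pr.left φ'.left φ.left α.left := isPullback_left H
  have : Flat pr.left := MorphismProperty.of_isPullback hprl.flip ‹_›
  have : Surjective pr.left := MorphismProperty.of_isPullback hprl.flip ‹_›
  have : QuasiCompact pr.left := MorphismProperty.of_isPullback hprl.flip ‹_›
  let d := EffectiveEpi.desc α.left χ'.left hh
  have hd : α.left ≫ d = χ'.left := EffectiveEpi.fac α.left χ'.left hh
  let χ : Y ⟶ Z := Over.homMk d (by rw [← cancel_epi α.left, reassoc_of% hd, Over.w χ', Over.w α])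
  have hχ : α ≫ χ = χ' := Over.OverMorphism.ext hd
  refine ⟨χ, ?_, fun χ₂ hχ₂ => ?_⟩
  · refine Over.OverMorphism.ext ?_
    rw [← cancel_epi pr.left, ← Over.comp_left, ← Over.comp_left, ← Category.assoc, H.w, Category.assoc,
      hχ, hχ']
  · have : α ≫ χ₂ = α ≫ χ := by
      rw [hχ]
      exact hu' _ (by show φ' ≫ α ≫ χ₂ = pr ≫ ψ; rw [← Category.assoc, ← H.w, Category.assoc, hχ₂])
    refine Over.OverMorphism.ext ?_
    rw [← cancel_epi α.left]
    exact congrArg CommaMorphism.left this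

/-- Descent of universal submersiveness. -/
theorem isUnivSubmersive_descent [Flat α.left] [Surjective α.left] [QuasiCompact α.left]
    (H : IsPullback pr φ' φ α) (h : GIT.IsUnivSubmersive φ'.left) : GIT.IsUnivSubmersive φ.left := by
  intro P Q i₁ i₂ f Hf
  let Q' := Limits.pullback i₂ α.left
  let c : Q' ⟶ Q := Limits.pullback.fst _ _
  let b : Q' ⟶ Y'.left := Limits.pullback.snd _ _
  have hcb : c ≫ i₂ = b ≫ α.left := Limits.pullback.condition
  let P' := Limits.pullback f c
  let d : P' ⟶ P := Limits.pullback.fst _ _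
  let f' : P' ⟶ Q' := Limits.pullback.snd _ _
  have Hd : IsPullback d f' f c := IsPullback.of_hasPullback _ _
  have hH : IsPullback pr.left φ'.left φ.left α.left := isPullback_left H
  have Hbig : IsPullback (d ≫ i₁) f' φ.left (b ≫ α.left) := by
    rw [← hcb]; exact Hd.paste_horiz Hf.flip
  have Hl : IsPullback (hH.lift (d ≫ i₁) (f' ≫ b) (by rw [Category.assoc]; exact Hbig.w)) f' φ'.left b :=
    IsPullback.of_right (by rw [hH.lift_fst]; exact Hbig) (hH.lift_snd _ _ _) hH
  have hq' : IsQuotientMap f'.base := h _ b f' Hl.flip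
  have hc : IsQuotientMap c.base := Flat.isQuotientMap_of_surjective c
  have : IsQuotientMap (f.base ∘ d.base) := by
    have e : (f.base ∘ d.base : P' → Q) = c.base ∘ f'.base := by
      funext p
      exact congrArg (fun m : P' ⟶ Q => m.base p) Hd.w
    rw [e]
    exact hc.comp hq'
  exact this.of_comp d.base.hom.continuous f.base.hom.continuous

/-- Descent of surjectivity onto the fibre square. -/
theorem surjective_psiY_descent (hinv : GIT.IsInvariant a φ) [Surjective α.left]
    (H : IsPullback pr φ' φ α) (ha : a'.act ≫ pr = (G ◁ pr) ≫ a.act)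
    (hinv' : GIT.IsInvariant a' φ') (h : Function.Surjective (GIT.PsiY a' φ' hinv').base) :
    Function.Surjective (GIT.PsiY a φ hinv).base := by
  intro p
  have hH : IsPullback pr.left φ'.left φ.left α.left := isPullback_left H
  let o := Limits.pullback.fst φ.left φ.left ≫ φ.left
  obtain ⟨y', hy'⟩ := Scheme.Hom.surjective α.left (o.base p)
  obtain ⟨z, hz, -⟩ := Scheme.Pullback.exists_preimage_pullback (f := o) (g := α.left) p y' hy'.symm
  let Z₁ := Limits.pullback.fst o α.left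
  let Z₂ := Limits.pullback.snd o α.left
  let l₁ := hH.lift (Z₁ ≫ Limits.pullback.fst φ.left φ.left) Z₂
    (by rw [Category.assoc]; exact Limits.pullback.condition)
  let l₂ := hH.lift (Z₁ ≫ Limits.pullback.snd φ.left φ.left) Z₂
    (by rw [Category.assoc, ← Limits.pullback.condition]; exact Limits.pullback.condition)
  let l := Limits.pullback.lift l₁ l₂ (show l₁ ≫ φ'.left = l₂ ≫ φ'.left by rw [hH.lift_snd, hH.lift_snd])
  obtain ⟨g', hg'⟩ := h (l.base z)
  refine ⟨(G ◁ pr).left.base g', ?_⟩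
  have e : (G ◁ pr).left ≫ GIT.PsiY a φ hinv = GIT.PsiY a' φ' hinv' ≫
      Limits.pullback.map φ'.left φ'.left φ.left φ.left pr.left pr.left α.left hH.w.symm hH.w.symm := by
    refine Limits.pullback.hom_ext ?_ ?_ <;>
      simp only [GIT.PsiY, Category.assoc, Limits.pullback.lift_fst, Limits.pullback.lift_snd,
        Limits.pullback.lift_fst_assoc, Limits.pullback.lift_snd_assoc]
    · exact (congrArg CommaMorphism.left ha).symm
    · exact congrArg CommaMorphism.left (whiskerLeft_snd G pr)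
  have e' : l ≫ Limits.pullback.map φ'.left φ'.left φ.left φ.left pr.left pr.left α.left hH.w.symm hH.w.symm
      = Z₁ := by
    refine Limits.pullback.hom_ext ?_ ?_ <;>
      simp only [l, Category.assoc, Limits.pullback.lift_fst, Limits.pullback.lift_snd,
        Limits.pullback.lift_fst_assoc, Limits.pullback.lift_snd_assoc]
    · exact hH.lift_fst _ _ _
    · exact hH.lift_fst _ _ _
  calc (GIT.PsiY a φ hinv).base ((G ◁ pr).left.base g')
      = ((G ◁ pr).left ≫ GIT.PsiY a φ hinv).base g' := rfl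
    _ = (l ≫ Limits.pullback.map φ'.left φ'.left φ.left φ.left pr.left pr.left α.left hH.w.symm hH.w.symm).base z := by
        rw [e, Scheme.Hom.comp_apply, Scheme.Hom.comp_apply, hg']
    _ = p := by rw [e']; exact hz

theorem isUnivCatQuot_descent (hinv : GIT.IsInvariant a φ) [Flat α.left] [Surjective α.left]
    [QuasiCompact α.left] (H : IsPullback pr φ' φ α) (ha : a'.act ≫ pr = (G ◁ pr) ≫ a.act)
    (h : GIT.IsUnivGeomQuot a' φ') : GIT.IsUnivCatQuot a φ := by
  refine ⟨isCatQuot_descent hinv H ha h, fun X₁ Y₁ pr₁ φ₁ g _ H₁ a₁ ha₁ hi₁ => ?_⟩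
  let β := Limits.pullback.fst g α
  let g' := Limits.pullback.snd g α
  let X₁' := Limits.pullback φ₁ β
  let c : X₁' ⟶ X₁ := Limits.pullback.fst _ _
  let φ₁' : X₁' ⟶ Limits.pullback g α := Limits.pullback.snd _ _
  have Hc : IsPullback c φ₁' φ₁ β := IsPullback.of_hasPullback _ _
  have : IsPullback β.left g'.left g.left α.left := isPullback_left (IsPullback.of_hasPullback g α)
  have : Flat β.left := MorphismProperty.of_isPullback this.flip ‹_›
  have : Surjective β.left := MorphismProperty.of_isPullback ‹IsPullback β.left _ _ _›.flip ‹_›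
  have : QuasiCompact β.left := MorphismProperty.of_isPullback ‹IsPullback β.left _ _ _›.flip ‹_›
  have hw : β ≫ g = g' ≫ α := Limits.pullback.condition
  have Hbig : IsPullback (c ≫ pr₁) φ₁' φ (g' ≫ α) := by rw [← hw]; exact Hc.paste_horiz H₁
  let r := H.lift (c ≫ pr₁) (φ₁' ≫ g') (by rw [Category.assoc]; exact Hbig.w)
  have Hr : IsPullback r φ₁' φ' g' := IsPullback.of_right (by rw [H.lift_fst]; exact Hbig) (H.lift_snd _ _ _) H
  let a₁' := pullbackAction a₁ hi₁ Hc
  have ha₁' : a₁'.act ≫ r = (G ◁ r) ≫ a'.act := by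
    refine H.hom_ext ?_ ?_
    · rw [Category.assoc, Category.assoc, H.lift_fst, ha, ← Category.assoc, pullbackAction_pr hi₁ Hc,
        Category.assoc, ha₁, ← Category.assoc, ← MonoidalCategory.whiskerLeft_comp, ← Category.assoc,
        ← MonoidalCategory.whiskerLeft_comp, H.lift_fst]
    · rw [Category.assoc, Category.assoc, H.lift_snd, show a'.act ≫ φ' = snd G X' ≫ φ' from h.1.inv,
        whiskerLeft_snd_assoc, H.lift_snd, ← Category.assoc, pullbackAction_inv hi₁ Hc, Category.assoc]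
  exact isCatQuot_descent hi₁ Hc (pullbackAction_pr hi₁ Hc)
    (isUnivGeomQuot_baseChange h Hr a₁' ha₁' (pullbackAction_inv hi₁ Hc))

/-- Universal geometric quotients descend along faithfully flat quasi-compact maps. -/
theorem isUnivGeomQuot_descent (hinv : GIT.IsInvariant a φ) [Flat α.left] [Surjective α.left]
    [QuasiCompact α.left] (H : IsPullback pr φ' φ α) (ha : a'.act ≫ pr = (G ◁ pr) ≫ a.act)
    (h : GIT.IsUnivGeomQuot a' φ') : GIT.IsUnivGeomQuot a φ :=
  isUnivGeomQuot_of_isUnivCatQuot (isUnivCatQuot_descent hinv H ha h) (isUnivSubmersive_descent H h.1.subm)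
    (surjective_psiY_descent hinv H ha h.1.inv h.1.orbit)

end Groth.Agent.GITLib
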