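import Groth.Agent.GITLib.Mu
import Mathlib.RingTheory.Coalgebra.GroupLike
import Mathlib.RingTheory.Coalgebra.Convolution

/-!
# Diagonalizable groups acting linearly: the numerical function is a maximum of characters
-/

set_option autoImplicit false

universe u v w

noncomputable section

open TensorProduct HopfRep LaurentPolynomial WithConv

namespace Groth.Agent.GITLib

variable {k : Type u} [Field k] {A : Type v} [CommRing A] [Bialgebra k A]

/-- The basis of group-like elements of a diagonalizable bialgebra. -/
def groupLikeBasis (hd : Submodule.span k {a : A | IsGroupLikeElem k a} = ⊤) :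
    Module.Basis (GroupLike k A) k A :=
  Module.Basis.mk linearIndep_groupLikeVal (hd.ge.trans (Submodule.span_mono fun a ha => ⟨⟨a, ha⟩, rfl⟩))

theorem groupLikeBasis_apply (hd : Submodule.span k {a : A | IsGroupLikeElem k a} = ⊤) (g : GroupLike k A) :
    groupLikeBasis hd g = g.val := Module.Basis.mk_apply _ _ g

/-- The coordinate functionals of group-like elements are orthogonal idempotents for convolution. -/
theorem coord_mul_coord (hd : Submodule.span k {a : A | IsGroupLikeElem k a} = ⊤) (g h : GroupLike k A)
    [Decidable (g = h)] :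
    (toConv ((groupLikeBasis hd).coord g) * toConv ((groupLikeBasis hd).coord h)).ofConv =
      if g = h then (groupLikeBasis hd).coord g else 0 := by
  classical
  refine (groupLikeBasis hd).ext fun q => ?_
  rw [LinearMap.convMul_apply, groupLikeBasis_apply, q.isGroupLikeElem_val.comul_eq_tmul_self, TensorProduct.map_tmul,
    LinearMap.mul'_apply, ofConv_toConv, ofConv_toConv, ← groupLikeBasis_apply hd q]
  simp only [Module.Basis.coord_apply, Module.Basis.repr_self, Finsupp.single_apply]
  by_cases h1 : q = g <;> by_cases h2 : g = h <;> simp_all [Finsupp.single_apply]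

variable {ι : Type w} [Fintype ι] [HopfRep.Comod k A (MvPolynomial ι k)] [GLin.IsCoactAlg k A (MvPolynomial ι k)]

/-- For a diagonalizable group acting linearly, the numerical function is the maximum of minus the exponents of
finitely many characters. -/
theorem exists_groupLike_weights (hd : Submodule.span k {a : A | IsGroupLikeElem k a} = ⊤)
    (hlin : GLin.IsLinear k A ι) :
    ∃ (J : Finset (GroupLike k A)),
      ∀ v : ι → k, v ≠ 0 → ∃ I : Finset (GroupLike k A), I ⊆ J ∧ I.Nonempty ∧
        ∀ (lam : A →ₐc[k] k[T;T⁻¹]) (e : GroupLike k A → ℤ), (∀ g ∈ J, lam g.val = T (e g)) →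
          ∀ m : ℤ, GLin.IsMu k A lam v m ↔ ((∀ g ∈ I, -e g ≤ m) ∧ ∃ g ∈ I, m = -e g) := by
  classical
  choose M hM using hlin
  let b := groupLikeBasis hd
  let J : Finset (GroupLike k A) := Finset.univ.biUnion fun i : ι =>
    Finset.univ.biUnion fun j : ι => (b.repr (M i j)).support
  refine ⟨J, fun v hv => ?_⟩
  have hsum : ∀ i j, M i j = ∑ g ∈ J, b.coord g (M i j) • g.val := by
    intro i j
    conv_lhs => rw [← b.linearCombination_repr (M i j), Finsupp.linearCombination_apply]
    have hsub : (b.repr (M i j)).support ⊆ J := fun g hg => by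
      simp only [J, Finset.mem_biUnion, Finset.mem_univ, true_and]
      exact ⟨i, j, hg⟩
    rw [Finsupp.sum_of_support_subset _ hsub _ (by simp)]
    simp [b, groupLikeBasis_apply]
  let P : GroupLike k A → ι → k := fun g i => ∑ j, b.coord g (M i j) * v j
  have hx : ∀ (φ : A →ₗ[k] k) (i : ι),
      GLin.vecPt k ι v (Comod.contract φ (MvPolynomial.X i : MvPolynomial ι k)) = ∑ j, φ (M i j) * v j := by
    intro φ i
    simp [Comod.contract_apply, hM i, smul_eq_mul]
  have hPP : ∀ g h i, ∑ j, b.coord h (M i j) * P g j = if g = h then P g i else 0 := by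
    intro g h i
    have h1 : GLin.vecPt k ι v (Comod.contract (b.coord g) (Comod.contract (b.coord h) (MvPolynomial.X i : MvPolynomial ι k))) =
        ∑ j, b.coord h (M i j) * P g j := by
      rw [show Comod.contract (b.coord h) (MvPolynomial.X i : MvPolynomial ι k) =
        ∑ j, b.coord h (M i j) • (MvPolynomial.X j : MvPolynomial ι k) by simp [Comod.contract_apply, hM i],
        map_sum, map_sum]
      simp only [map_smul, hx, smul_eq_mul]
      rfl
    rw [← h1, Comod.contract_contract, coord_mul_coord]
    split_ifs with hgh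
    · rw [hx]
    · simp [Comod.contract_apply, hM i]
  let I : Finset (GroupLike k A) := J.filter fun g => ∃ i, P g i ≠ 0
  refine ⟨I, Finset.filter_subset _ _, ?_, fun lam e he m => ?_⟩
  · by_contra hI
    refine hv (funext fun i => ?_)
    have h0 : v i = ∑ j, Coalgebra.counit (R := k) (M i j) * v j := by
      rw [← hx, Comod.contract_counit]
      simp
    have h1 : ∀ j, Coalgebra.counit (R := k) (M i j) = ∑ g ∈ J, b.coord g (M i j) := fun j => by
      conv_lhs => rw [hsum i j, map_sum]
      exact Finset.sum_congr rfl fun g _ => by rw [map_smul, g.isGroupLikeElem_val.counit_eq_one, smul_eq_mul, mul_one]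
    rw [h0, Pi.zero_apply]
    simp only [h1, Finset.sum_mul]
    rw [Finset.sum_comm]
    refine Finset.sum_eq_zero fun g hg => ?_
    by_contra hne
    exact hI ⟨g, Finset.mem_filter.2 ⟨hg, i, hne⟩⟩
  have hco : ∀ i n, orbitCoeff lam v i n = ∑ g ∈ J with e g = n, P g i := by
    intro i n
    have h1 : GLin.orbitHom k A (GLin.vecPt k ι v) (MvPolynomial.X i) = ∑ j, v j • M i j := by
      simp [GLin.orbitHom, hM i]
    have h2 : GLin.lamOrbit k A lam (GLin.vecPt k ι v) (MvPolynomial.X i) = ∑ g ∈ J, P g i • T (e g) := by
      show lam (GLin.orbitHom k A (GLin.vecPt k ι v) (MvPolynomial.X i)) = _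
      rw [h1, map_sum]
      simp only [P, Finset.sum_smul]
      rw [Finset.sum_comm]
      refine Finset.sum_congr rfl fun j _ => ?_
      rw [map_smul, hsum i j, map_sum, Finset.smul_sum]
      refine Finset.sum_congr rfl fun g hg => ?_
      rw [map_smul, he g hg, smul_smul, mul_comm, ← hsum i j]
    rw [orbitCoeff, h2, AddMonoidAlgebra.coeff_sum, Finset.sum_filter, Finset.sum_apply']
    refine Finset.sum_congr rfl fun g _ => ?_
    simp
  have hzero : ∀ n, (∀ i, orbitCoeff lam v i n = 0) ↔ ∀ g ∈ J, e g = n → ∀ i, P g i = 0 := by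
    intro n
    constructor
    · intro h g hg hn i
      have h3 : ∑ j, b.coord g (M i j) * ∑ q ∈ J with e q = n, P q j = 0 :=
        Finset.sum_eq_zero fun j _ => by rw [← hco, h j, mul_zero]
      simp only [Finset.mul_sum] at h3
      rw [Finset.sum_comm] at h3
      simp only [hPP, Finset.sum_ite_eq', Finset.mem_filter] at h3
      simpa [hg, hn] using h3
    · intro h i
      rw [hco]
      exact Finset.sum_eq_zero fun g hg => h g (Finset.mem_filter.1 hg).1 (Finset.mem_filter.1 hg).2 i
  rw [isMu_iff]
  constructor
  · rintro ⟨h1, i, hi⟩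
    refine ⟨fun g hg => ?_, ?_⟩
    · obtain ⟨hgJ, i, hgi⟩ := Finset.mem_filter.1 hg
      by_contra hlt
      exact hgi ((hzero (e g)).1 (fun j => h1 j _ (by lia)) g hgJ rfl i)
    · by_contra! hne
      refine hi ((hzero (-m)).2 (fun g hg hge j => ?_) i)
      by_contra hgj
      exact hne g (Finset.mem_filter.2 ⟨hg, j, hgj⟩) (by lia)
  · rintro ⟨h1, g, hg, rfl⟩
    refine ⟨fun i n hn => (hzero n).2 (fun q hq hqe j => ?_) i, ?_⟩
    · by_contra hqj
      exact absurd (h1 q (Finset.mem_filter.2 ⟨hq, j, hqj⟩)) (by lia)
    · obtain ⟨hgJ, i, hgi⟩ := Finset.mem_filter.1 hg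
      by_contra! hne
      exact hgi ((hzero (- -e g)).1 hne g hgJ (neg_neg (e g)).symm i)

end Groth.Agent.GITLib
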