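import Groth.Agent.GITLib.TorsorSch
import Groth.Agent.GrpScheme.Descent.Torsor

/-!
# Push forward of torsors along homomorphisms to affine groups
-/

set_option autoImplicit false
set_option linter.style.haveILetI false

universe u

open CategoryTheory CategoryTheory.Limits MonoidalCategory CartesianMonoidalCategory MonObj AlgebraicGeometry

namespace Groth.Agent.GITLib

variable {S : Scheme.{u}}

/-- A natural assignment on local points of `P` which does not depend on the point comes from a morphism. -/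
theorem exists_desc_pt {P T Z : Over S} (hP : NonAbH1.IsLocallyTrivialFor Scheme.fpqcPrecoverage P)
    (val : ∀ {T' : Over S}, (T' ⟶ T) → (T' ⟶ P) → (T' ⟶ Z))
    (hnat : ∀ {T' T'' : Over S} (k : T'' ⟶ T') (f : T' ⟶ T) (p : T' ⟶ P), k ≫ val f p = val (k ≫ f) (k ≫ p))
    (hind : ∀ {T' : Over S} (f : T' ⟶ T) (p p' : T' ⟶ P), val f p = val f p') :
    ∃ r : T ⟶ Z, ∀ {T' : Over S} (f : T' ⟶ T) (p : T' ⟶ P), f ≫ r = val f p := by
  let fam : Presieve.FamilyOfElements (yoneda.obj Z) (pointSieve P T).arrows := fun T' f hf => val f hf.some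
  have hfam : fam.Compatible := by
    intro T₁ T₂ T' k₁ k₂ f₁ f₂ h₁ h₂ w
    show k₁ ≫ val f₁ h₁.some = k₂ ≫ val f₂ h₂.some
    rw [hnat, hnat, ← w]
    exact hind _ _ _
  refine ⟨(isSheaf_yoneda_q Z _ (pointSieve_mem hP T)).amalgamate fam hfam, fun {T'} f p => ?_⟩
  exact ((isSheaf_yoneda_q Z _ (pointSieve_mem hP T)).valid_glue hfam f ⟨p⟩).trans (hind _ _ _)

theorem surjective_of_isLocallyTrivialFor {X : Over S} (h : NonAbH1.IsLocallyTrivialFor Scheme.fpqcPrecoverage X) :
    Surjective X.hom := by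
  obtain ⟨R, hR, hs⟩ := h
  refine ⟨fun s => ?_⟩
  obtain ⟨W, f, hf, y, hy⟩ := hR.2.1 s
  rcases hf with @⟨W', f, hf⟩
  obtain ⟨σ, hσ⟩ := hs f hf
  exact ⟨σ.base y, by rw [← Scheme.Hom.comp_apply, hσ]; exact hy⟩

theorem fppfPrecoverage_le_fpqc' : Scheme.fppfPrecoverage.{u} ≤ Scheme.fpqcPrecoverage :=
  Scheme.fppfPrecoverage_le_fpqcPrecoverage

/-- A flat affine torsor can be pushed forward along a homomorphism to an affine group; the new torsor has
sections wherever the old one has. -/
theorem exists_pushforward {J J' P : Over S} [GrpObj J] [GrpObj J'] [Flat J.hom] [IsAffineHom J.hom]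
    [IsAffineHom J'.hom] (u : J ⟶ J') [IsMonHom u] {a : AlgGrp.Action J P}
    {K : Precoverage Scheme.{u}} (hK : K ≤ Scheme.fpqcPrecoverage) (h : NonAbH1.IsTorsorFor K a) :
    ∃ P' : NonAbH1.TorsorSch J' K, ∃ q : P ⟶ P'.X,
      a.act ≫ q = lift (fst J P ≫ u) (snd J P ≫ q) ≫ P'.act.act := by
  have ha : NonAbH1.IsTorsorFor Scheme.fpqcPrecoverage a := by
    obtain ⟨R, hR, hs⟩ := h.2
    exact ⟨h.1, R, hK _ hR, hs⟩
  haveI : MorphismProperty.DescendsAlong @IsAffineHom AlgSpCov.Fpqc.{u} := FpqcDesc.descendsAlong_isAffineHom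
  haveI : IsAffineHom P.hom := property_of_torsor @IsAffineHom ha inferInstance
  haveI : Flat P.hom := property_of_torsor @Flat ha inferInstance
  haveI : Surjective P.hom := surjective_of_isLocallyTrivialFor ha.2
  haveI : Flat (toUnit P).left := by rw [show (toUnit P).left = P.hom from rfl]; infer_instance
  haveI : Surjective (toUnit P).left := by rw [show (toUnit P).left = P.hom from rfl]; infer_instance
  haveI : QuasiCompact (toUnit P).left := by rw [show (toUnit P).left = P.hom from rfl]; infer_instance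
  have hdiff : ∀ {T : Over S} (x y : T ⟶ P), ∃! g : T ⟶ J, lift g x ≫ a.act = y := fun x y => existsUnique_diff ha.1 x y
  -- the kernel pair square
  have hsq : IsPullback a.act.left (snd J P).left (toUnit P).left (toUnit P).left := by
    haveI : IsIso (lift a.act (snd J P)) := ha.1
    haveI : IsIso (lift a.act (snd J P)).left := inferInstanceAs (IsIso ((Over.forget S).map (lift a.act (snd J P))))
    refine IsPullback.of_iso (IsPullback.of_hasPullback P.hom P.hom) (asIso (lift a.act (snd J P)).left).symm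
      (Iso.refl _) (Iso.refl _) (Iso.refl _) ?_ ?_ (by simp) (by simp)
    · simp only [Iso.symm_hom, Iso.refl_hom, Category.comp_id]
      rw [asIso_inv, IsIso.eq_inv_comp]
      exact congrArg CommaMorphism.left (lift_fst a.act (snd J P))
    · simp only [Iso.symm_hom, Iso.refl_hom, Category.comp_id]
      rw [asIso_inv, IsIso.eq_inv_comp]
      exact congrArg CommaMorphism.left (lift_snd a.act (snd J P))
  let b : AlgGrp.Action J J' := (NonAbH1.trivialAction J').restrict u
  have hb : ∀ {T : Over S} (g : T ⟶ J) (z : T ⟶ J'), lift g z ≫ b.act = (g ≫ u) * z := fun g z => by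
    show lift g z ≫ u ▷ J' ≫ μ[J'] = _
    rw [lift_whiskerRight_assoc, Hom.mul_def]
  obtain ⟨W, Φ, ψ, hcart, hinv⟩ := GrpScheme.Descent.exists_bundle a (toUnit P) hsq b
  -- invariance and uniqueness on points
  have inv : ∀ {T : Over S} (g : T ⟶ J) (p : T ⟶ P) (z : T ⟶ J'),
      lift (lift g p ≫ a.act) ((g ≫ u) * z) ≫ Φ = lift p z ≫ Φ := by
    intro T g p z
    have e := congrArg (lift g (lift p z) ≫ ·) hinv
    simp only [lift_snd_assoc, comp_lift_assoc, lift_whiskerLeft_assoc, lift_fst, lift_snd, hb] at e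
    exact e
  have ex : ∀ {T : Over S} (y : T ⟶ W) (p : T ⟶ P), ∃! z : T ⟶ J', lift p z ≫ Φ = y := by
    intro T y p
    have e : p.left ≫ (toUnit P).left = y.left ≫ ψ.left := by
      rw [← Over.comp_left, ← Over.comp_left, toUnit_unique (p ≫ toUnit P) (y ≫ ψ)]
    let m : T ⟶ P ⊗ J' := Over.homMk (hcart.lift p.left y.left e) (by
      rw [← Over.w Φ, ← Category.assoc, hcart.lift_snd]; exact Over.w y)
    have hm₁ : m ≫ fst P J' = p := Over.OverMorphism.ext (hcart.lift_fst _ _ e)
    have hm₂ : m ≫ Φ = y := Over.OverMorphism.ext (hcart.lift_snd _ _ e)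
    refine ⟨m ≫ snd P J', ?_, fun z hz => ?_⟩
    · show lift p (m ≫ snd P J') ≫ Φ = y
      rw [← hm₁, lift_comp_fst_snd, hm₂]
    · have : lift p z = m := Over.OverMorphism.ext (hcart.hom_ext
        (by rw [← Over.comp_left, ← Over.comp_left, lift_fst, hm₁])
        (by rw [← Over.comp_left, ← Over.comp_left, hm₂]; exact congrArg CommaMorphism.left hz))
      rw [← this, lift_snd]
  have lq : ∀ {T T' : Over S} (k : T' ⟶ T) (p : T ⟶ P) (z : T ⟶ J'), k ≫ lift p z ≫ Φ = lift (k ≫ p) (k ≫ z) ≫ Φ :=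
    fun k p z => comp_lift_assoc k p z Φ
  have indep : ∀ {T : Over S} (g : T ⟶ J') (p p' : T ⟶ P) (z z' : T ⟶ J'),
      lift p z ≫ Φ = lift p' z' ≫ Φ → lift p (z * g) ≫ Φ = lift p' (z' * g) ≫ Φ := by
    intro T g p p' z z' e
    obtain ⟨c, hc, -⟩ := hdiff p p'
    have hz : z' = (c ≫ u) * z := (ex (lift p z ≫ Φ) p').unique e.symm (by rw [← hc]; exact inv c p z)
    rw [← hc, hz, _root_.mul_assoc, inv]
  -- the action
  obtain ⟨act, hact⟩ := exists_desc_pt (T := J' ⊗ W) (Z := W) ha.2
    (fun {T'} f p => lift p ((ex (f ≫ snd J' W) p).choose * (f ≫ fst J' W)⁻¹) ≫ Φ)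
    (fun {T' T''} k f p => by
      rw [lq, MonObj.comp_mul, GrpObj.comp_inv, Category.assoc]
      congr 2
      refine congrArg₂ (fun c d : T'' ⟶ J' => c * d⁻¹) ?_ (Category.assoc _ _ _).symm
      refine (ex _ _).unique ?_ (ex _ _).choose_spec.1
      rw [← lq, (ex (f ≫ snd J' W) p).choose_spec.1])
    (fun {T'} f p p' => indep _ _ _ _ _
      ((ex (f ≫ snd J' W) p).choose_spec.1.trans (ex (f ≫ snd J' W) p').choose_spec.1.symm))
  have key : ∀ {T : Over S} (g : T ⟶ J') (p : T ⟶ P) (z : T ⟶ J'),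
      lift g (lift p z ≫ Φ) ≫ act = lift p (z * g⁻¹) ≫ Φ := by
    intro T g p z
    rw [hact _ p]
    simp only [lift_snd, lift_fst]
    refine congrArg (fun w => lift p (w * g⁻¹) ≫ Φ) ?_
    exact (ex _ p).unique (ex (lift p z ≫ Φ) p).choose_spec.1 rfl
  have local_ext : ∀ {T Z : Over S} (x y : T ⟶ Z),
      (∀ {T' : Over S} (f : T' ⟶ T) (_ : T' ⟶ P), f ≫ x = f ≫ y) → x = y := fun x y hxy =>
    hom_ext_q (pointSieve_mem ha.2 _) fun T' f hf => hf.elim fun p => hxy f p
  have one_law : ∀ {T : Over S} (y : T ⟶ W), lift (1 : T ⟶ J') y ≫ act = y := fun {T} y => by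
    refine local_ext _ _ fun {T'} f p => ?_
    obtain ⟨z, hz, -⟩ := ex (f ≫ y) p
    rw [comp_lift_assoc, MonObj.comp_one, ← hz, key, inv_one, _root_.mul_one]
  have mul_law : ∀ {T : Over S} (g g' : T ⟶ J') (y : T ⟶ W),
      lift (g * g') y ≫ act = lift g (lift g' y ≫ act) ≫ act := fun {T} g g' y => by
    refine local_ext _ _ fun {T'} f p => ?_
    obtain ⟨z, hz, -⟩ := ex (f ≫ y) p
    simp only [comp_lift_assoc, comp_lift, MonObj.comp_mul, ← hz, key, mul_inv_rev, _root_.mul_assoc]
  let aW : AlgGrp.Action J' W :=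
    { act := act
      one_act := by
        have := one_law (snd (𝟙_ (Over S)) W)
        rw [leftUnitor_hom, ← this]
        refine congrArg (fun w => w ≫ act) (CartesianMonoidalCategory.hom_ext _ _ ?_ ?_)
        · rw [whiskerRight_fst, lift_fst, Hom.one_def, toUnit_unique (toUnit _) (fst (𝟙_ (Over S)) W)]
        · simp
      mul_act := by
        apply AlgGrp.Action.hom_ext_lift₃
        intro T g g' y
        rw [lift_whiskerRight_assoc, ← Hom.mul_def, mul_law, lift_lift_associator_hom_assoc,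
          lift_whiskerLeft_assoc] }
  have hpseudo : NonAbH1.IsPseudoTorsorSch aW := by
    have hu : ∀ {T : Over S} (g g' : T ⟶ J') (x : T ⟶ W), lift g x ≫ act = lift g' x ≫ act → g = g' := by
      intro T g g' x e
      refine local_ext _ _ fun {T'} f p => ?_
      obtain ⟨z, hz, -⟩ := ex (f ≫ x) p
      have e' := congrArg (f ≫ ·) e
      simp only [comp_lift_assoc, ← hz, key] at e'
      exact inv_injective (mul_left_cancel ((ex _ p).unique e' rfl))
    have h : ∀ {T : Over S} (x y : T ⟶ W), ∃! g : T ⟶ J', lift g x ≫ act = y := by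
      intro T x y
      have hloc : ∀ {T' : Over S} (f : T' ⟶ T) (p : T' ⟶ P), ∃ g : T' ⟶ J', lift g (f ≫ x) ≫ act = f ≫ y := by
        intro T' f p
        obtain ⟨z, hz, -⟩ := ex (f ≫ x) p
        obtain ⟨z', hz', -⟩ := ex (f ≫ y) p
        exact ⟨z'⁻¹ * z, by rw [← hz, ← hz', key]; congr 2; group⟩
      obtain ⟨r, hr⟩ := exists_desc_pt (T := T) (Z := J') ha.2 (fun {T'} f p => (hloc f p).choose)
        (fun {T' T''} k f p => by
          refine hu _ _ ((k ≫ f) ≫ x) (Eq.trans ?_ (hloc (k ≫ f) (k ≫ p)).choose_spec.symm)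
          rw [Category.assoc, Category.assoc, ← comp_lift_assoc, (hloc f p).choose_spec])
        (fun {T'} f p p' => hu _ _ (f ≫ x) ((hloc f p).choose_spec.trans (hloc f p').choose_spec.symm))
      refine ⟨r, local_ext _ _ fun {T'} f p => ?_, fun g' hg' => local_ext _ _ fun {T'} f p => ?_⟩
      · rw [comp_lift_assoc, hr f p]; exact (hloc f p).choose_spec
      · refine hu _ _ (f ≫ x) ?_
        rw [hr f p, (hloc f p).choose_spec, ← comp_lift_assoc, hg']
    obtain ⟨d0, hd0, -⟩ := h (snd W W) (fst W W)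
    refine ⟨lift d0 (snd W W), ?_, ?_⟩
    · refine CartesianMonoidalCategory.hom_ext _ _ ?_ (by simp)
      rw [Category.assoc, lift_fst, Category.id_comp]
      refine (h (snd J' W) aW.act).unique ?_ (by rw [lift_fst_snd, Category.id_comp])
      have := congrArg (lift aW.act (snd J' W) ≫ ·) hd0
      simp only [comp_lift_assoc, lift_fst, lift_snd] at this
      exact this
    · refine CartesianMonoidalCategory.hom_ext _ _ ?_ (by simp)
      rw [Category.assoc, lift_fst, Category.id_comp]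
      exact hd0
  let q : P ⟶ W := lift (𝟙 P) 1 ≫ Φ
  have hlt : NonAbH1.IsLocallyTrivialFor K W := by
    obtain ⟨R, hR, hs⟩ := h.2
    refine ⟨R, hR, fun S' f hf => ?_⟩
    obtain ⟨s, hs'⟩ := hs f hf
    exact ⟨s ≫ q.left, by rw [Category.assoc, Over.w q, hs']⟩
  refine ⟨⟨W, aW, hpseudo, hlt⟩, q, ?_⟩
  show a.act ≫ q = lift (fst J P ≫ u) (snd J P ≫ q) ≫ act
  simp only [q, comp_lift_assoc, MonObj.comp_one, Category.comp_id, key, _root_.one_mul]
  have := inv (fst J P) (snd J P) ((fst J P ≫ u)⁻¹)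
  rw [mul_inv_cancel, lift_fst_snd, Category.id_comp] at this
  exact this

end Groth.Agent.GITLib
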