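/-
Sections of a torsor under an étale group over a field, on a normal integral base, are determined by
and extend from the generic point.
-/
import Groth.Agent.GITLib.TorsorSchMore
import Groth.Agent.EtStruct.UnibranchSection
import Groth.Agent.Comod.LunaEtale
import Groth.Agent.GrpdLib.GrpOver
import Groth.Prelude.Def_ActBC
import Groth.Prelude.Def_Pi1
import Mathlib.AlgebraicGeometry.Morphisms.LocalFlatDescent
import Mathlib.AlgebraicGeometry.Morphisms.QuasiFinite
import Mathlib.AlgebraicGeometry.SpreadingOut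
import Mathlib.AlgebraicGeometry.Sites.Fpqc
import Mathlib.AlgebraicGeometry.FunctionField

set_option autoImplicit false

universe u

open CategoryTheory MonoidalCategory CartesianMonoidalCategory MonObj GrpObj AlgebraicGeometry
open CategoryTheory.Limits TopologicalSpace

namespace Groth.Agent.GITLib

/-- The base change to `T` of a discrete scheme locally quasi-finite over a field lifts
specialisations of `T`. -/
theorem exists_specializes_snd {k : Type u} [Field k] {G T : Scheme.{u}}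
    (g : G ⟶ Spec (CommRingCat.of k)) [LocallyQuasiFinite g]
    (f : T ⟶ Spec (CommRingCat.of k)) (q : (pullback g f : Scheme.{u})) (w : T)
    (h : pullback.snd g f q ⤳ w) :
    ∃ q' : (pullback g f : Scheme.{u}), q ⤳ q' ∧ pullback.snd g f q' = w := by
  haveI : IsLocallyArtinian G := IsLocallyArtinian.of_locallyQuasiFinite g
  let c : G := pullback.fst g f q
  let C : G.Opens := ⟨{c}, isOpen_discrete _⟩
  haveI : Subsingleton C.toScheme := ⟨fun a b => Subtype.ext (a.2.trans b.2.symm)⟩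
  haveI : QuasiCompact (C.ι ≫ g) := (quasiCompact_iff_compactSpace _).mpr inferInstance
  haveI : LocallyQuasiFinite (C.ι ≫ g) := inferInstance
  haveI : IsFinite (C.ι ≫ g) := IsFinite.of_locallyQuasiFinite _
  haveI : IsFinite (pullback.snd (C.ι ≫ g) f) := MorphismProperty.pullback_snd _ _ inferInstance
  let m : pullback (C.ι ≫ g) f ⟶ pullback g f :=
    pullback.map _ _ _ _ C.ι (𝟙 T) (𝟙 _) (by simp) (by simp)
  have hm : m ≫ pullback.snd g f = pullback.snd (C.ι ≫ g) f :=
    (pullback.lift_snd _ _ _).trans (Category.comp_id _)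
  have hq : q ∈ Set.range m := by
    rw [Scheme.Pullback.range_map]
    refine ⟨?_, by simp⟩
    show pullback.fst g f q ∈ Set.range C.ι
    rw [Scheme.Opens.range_ι]
    exact rfl
  obtain ⟨q₀, hq₀⟩ := hq
  rw [← hq₀] at h ⊢
  have hcl : IsClosed (pullback.snd (C.ι ≫ g) f '' closure {q₀}) :=
    (pullback.snd (C.ι ≫ g) f).isClosedMap _ isClosed_closure
  have hmem : pullback.snd g f (m q₀) ∈ pullback.snd (C.ι ≫ g) f '' closure {q₀} :=
    ⟨q₀, subset_closure rfl, congr($hm q₀).symm⟩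
  obtain ⟨q₁, hq₁, hw⟩ := h.mem_closed hcl hmem
  exact ⟨m q₁, (specializes_iff_mem_closure.mpr hq₁).map m.continuous,
    (congr($hm q₁)).trans hw⟩

variable {k : Type u} [Field k] {G : Over (Spec (CommRingCat.of k))} [GrpObj G] [Etale G.hom]
  {S : Scheme.{u}} {s : S ⟶ Spec (CommRingCat.of k)} {E : Over S}
  {a : AlgGrp.Action (Red.bc s G) E}

theorem etale_separated_torsor (ha : NonAbH1.IsTorsorFor Scheme.fppfPrecoverage a) :
    Etale E.hom ∧ IsSeparated E.hom := by
  have hq := isTorsorFor_mono Scheme.fppfPrecoverage_le_fpqcPrecoverage ha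
  haveI : IsSeparated G.hom := GrpdLib.GrpOver.isSeparated_hom G
  haveI : MorphismProperty.DescendsAlong @IsSeparated.{u} AlgSpCov.Fpqc :=
    FpqcDesc.descendsAlong_isSeparated
  haveI : MorphismProperty.DescendsAlong @Etale.{u} AlgSpCov.Fpqc := inferInstance
  exact ⟨property_of_torsor @Etale hq (MorphismProperty.pullback_snd _ _ inferInstance),
    property_of_torsor @IsSeparated hq (MorphismProperty.pullback_snd _ _ inferInstance)⟩

/-- The closure of a point of the torsor over the generic point surjects to the base. -/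
theorem exists_specializes_torsor [IrreducibleSpace S]
    (ha : NonAbH1.IsTorsorFor Scheme.fppfPrecoverage a) (ξ : E.left)
    (hξ : E.hom ξ = genericPoint S) (y : S) : ∃ z : E.left, ξ ⤳ z ∧ E.hom z = y := by
  obtain ⟨hpt, R, hR, hsec⟩ := ha
  obtain ⟨Y, f, hf, w, hw⟩ :=
    (Presieve.mem_comap_jointlySurjectivePrecoverage_iff _).mp hR.1 y
  change f w = y at hw
  have hfl : Flat f := (hR.2 hf).1
  obtain ⟨σ, hσ⟩ := hsec f hf
  obtain ⟨w', hw'w, hw'⟩ := Flat.generalizingMap f
    (show genericPoint S ⤳ f w from genericPoint_specializes _)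
  obtain ⟨p, hpE, hpT⟩ := Scheme.Pullback.exists_preimage_pullback (f := E.hom) (g := f) ξ w'
    (hξ.trans hw'.symm)
  let T : Over S := Over.mk f
  let σ' : T ⟶ E := Over.homMk σ hσ
  let ρ : Red.bc s G ⊗ T ⟶ E ⊗ T := lift ((Red.bc s G ◁ σ') ≫ a.act) (snd _ T)
  haveI : IsIso ρ := isIso_trivialisation hpt σ'
  let ψ : pullback (pullback.snd G.hom s) f ⟶ pullback E.hom f := ρ.left
  haveI : IsIso ψ := inferInstanceAs (IsIso ((Over.forget S).map ρ))
  have hψ : ψ ≫ pullback.snd E.hom f = pullback.snd (pullback.snd G.hom s) f :=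
    congrArg CommaMorphism.left (lift_snd ((Red.bc s G ◁ σ') ≫ a.act) (snd _ T))
  let e := pullbackLeftPullbackSndIso G.hom s f
  let θ : pullback G.hom (f ≫ s) ⟶ pullback E.hom f := e.inv ≫ ψ
  have hθ : θ ≫ pullback.snd E.hom f = pullback.snd G.hom (f ≫ s) := by
    simp only [θ, Category.assoc, hψ]
    rw [Iso.inv_comp_eq]
    exact (pullbackLeftPullbackSndIso_hom_snd G.hom s f).symm
  haveI : IsIso θ := inferInstance
  obtain ⟨q, rfl⟩ : ∃ q, θ q = p := ⟨(inv θ) p, by
    rw [← Scheme.Hom.comp_apply, IsIso.inv_hom_id]; rfl⟩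
  have hq : pullback.snd G.hom (f ≫ s) q = w' := (congr($hθ q)).symm.trans hpT
  haveI : LocallyQuasiFinite G.hom := EtStruct.locallyQuasiFinite_of_formallyUnramified G.hom
  obtain ⟨q', hqq', hq'w⟩ := exists_specializes_snd G.hom (f ≫ s) q w (hq ▸ hw'w)
  refine ⟨pullback.fst E.hom f (θ q'), ?_, ?_⟩
  · rw [← hpE]
    exact (hqq'.map θ.continuous).map (pullback.fst E.hom f).continuous
  · have h1 : pullback.snd E.hom f (θ q') = w := (congr($hθ q')).trans hq'w
    rw [← hw, ← h1]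
    exact congr($(pullback.condition (f := E.hom) (g := f)) (θ q'))

theorem sections_eq [IsIntegral S] [IsSeparated E.hom] {σ₁ σ₂ : S ⟶ E.left}
    (h₁ : σ₁ ≫ E.hom = 𝟙 S) (h₂ : σ₂ ≫ E.hom = 𝟙 S)
    (h : S.fromSpecResidueField (genericPoint S) ≫ σ₁ =
      S.fromSpecResidueField (genericPoint S) ≫ σ₂) : σ₁ = σ₂ := by
  haveI : IsDominant (S.fromSpecResidueField (genericPoint S)) := ⟨by
    rw [DenseRange, Scheme.range_fromSpecResidueField]
    exact dense_iff_closure_eq.mpr (genericPoint_spec S)⟩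
  exact ext_of_isDominant_of_isSeparated E.hom (h₁.trans h₂.symm) _ h

theorem exists_section_extending [IsIntegral S] (hS : Pi1.IsNormalScheme S)
    (ha : NonAbH1.IsTorsorFor Scheme.fppfPrecoverage a)
    (x : Spec (S.residueField (genericPoint S)) ⟶ E.left)
    (hx : x ≫ E.hom = S.fromSpecResidueField (genericPoint S)) :
    ∃ σ : S ⟶ E.left, σ ≫ E.hom = 𝟙 S ∧ S.fromSpecResidueField (genericPoint S) ≫ σ = x := by
  obtain ⟨hE, hsep⟩ := etale_separated_torsor ha
  let ηS := genericPoint S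
  haveI : IsIso (S.residue ηS) := by
    rw [ConcreteCategory.isIso_iff_bijective]
    exact ⟨RingHom.injective (R := S.functionField) (S.residue ηS).hom, S.residue_surjective ηS⟩
  let φ : Spec (S.presheaf.stalk ηS) ⟶ E.left := inv (Spec.map (S.residue ηS)) ≫ x
  have hφ : φ ≫ E.hom = S.fromSpecStalk ηS ≫ 𝟙 S := by
    simp only [φ, Category.assoc, hx, Category.comp_id]
    rw [IsIso.inv_comp_eq]
    rfl
  obtain ⟨U, hηSU, u, hu, huE⟩ := spread_out_of_isGermInjective' (𝟙 S) E.hom φ hφ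
  rw [Category.comp_id] at huE
  have hU : Dense (U : Set S) := U.2.dense ⟨ηS, hηSU⟩
  have hcomp : LocallyFinite (fun Z : ↥(irreducibleComponents ↥S) => (Z : Set ↥S)) := by
    have : Finite ↥(irreducibleComponents ↥S) := by
      rw [irreducibleComponents_eq_singleton]
      infer_instance
    exact locallyFinite_of_finite _
  have key : ∀ y : S, ∃ (V : S.Opens) (v : V.toScheme ⟶ E.left), y ∈ V ∧ v ≫ E.hom = V.ι ∧
      S.homOfLE (inf_le_left : U ⊓ V ≤ U) ≫ u = S.homOfLE (inf_le_right : U ⊓ V ≤ V) ≫ v := by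
    intro y
    obtain ⟨z, hz, rfl⟩ := exists_specializes_torsor ha (u ⟨ηS, hηSU⟩)
      (congr($huE ⟨ηS, hηSU⟩)) y
    obtain ⟨hdom, hint⟩ := hS (E.hom z)
    exact EtStruct.exists_section_nhd hcomp E.hom U hU u huE z
      (Comod.isGeomUnibranch_of_normal _)
      (closure_mono (Set.singleton_subset_iff.mpr (Set.mem_range_self _))
        (specializes_iff_mem_closure.mp hz))
  choose V v hyV hv hagree using key
  let cov : S.OpenCover := S.openCoverOfIsOpenCover V (.mk (by
    rw [eq_top_iff]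
    exact fun y _ => Opens.mem_iSup.mpr ⟨y, hyV y⟩))
  have huv : ∀ y, (V y).ι.opensRange = V y := fun y => (V y).opensRange_ι
  have hglue : ∀ y₁ y₂, pullback.fst (cov.f y₁) (cov.f y₂) ≫ v y₁ =
      pullback.snd (cov.f y₁) (cov.f y₂) ≫ v y₂ := by
    intro y₁ y₂
    let P : Scheme.{u} := pullback (V y₁).ι (V y₂).ι
    let r : P ⟶ S := pullback.fst (V y₁).ι (V y₂).ι ≫ (V y₁).ι
    show pullback.fst (V y₁).ι (V y₂).ι ≫ v y₁ = pullback.snd (V y₁).ι (V y₂).ι ≫ v y₂
    haveI : IsReduced P := isReduced_of_isOpenImmersion r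
    let j : (r ⁻¹ᵁ U).toScheme ⟶ P := (r ⁻¹ᵁ U).ι
    haveI : IsDominant j := ⟨by
      rw [DenseRange, Scheme.Opens.range_ι]
      exact hU.preimage r.isOpenEmbedding.isOpenMap⟩
    refine ext_of_isDominant_of_isSeparated E.hom ?_ j ?_
    · rw [Category.assoc, Category.assoc, hv, hv, pullback.condition]
    have hgen : ∀ (y : S) (d : (r ⁻¹ᵁ U).toScheme ⟶ (V y).toScheme),
        d ≫ (V y).ι = j ≫ r → d ≫ v y = (r ∣_ U) ≫ u := by
      intro y d hd
      have hr : Set.range (j ≫ r) ⊆ Set.range (U ⊓ V y).ι := by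
        rintro _ ⟨t, rfl⟩
        rw [Scheme.Opens.range_ι]
        refine ⟨t.2, ?_⟩
        rw [← hd]
        exact (d t).2
      let l := IsOpenImmersion.lift (U ⊓ V y).ι (j ≫ r) hr
      have hl : l ≫ (U ⊓ V y).ι = j ≫ r := IsOpenImmersion.lift_fac _ _ _
      have h1 : d = l ≫ S.homOfLE inf_le_right := by
        rw [← cancel_mono (V y).ι, Category.assoc, Scheme.homOfLE_ι, hl, hd]
      have h2 : r ∣_ U = l ≫ S.homOfLE inf_le_left := by
        rw [← cancel_mono U.ι, Category.assoc, Scheme.homOfLE_ι, hl, morphismRestrict_ι]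
      rw [h1, h2, Category.assoc, Category.assoc, hagree y]
    rw [← Category.assoc, ← Category.assoc, hgen y₁ _ (by simp [r]),
      hgen y₂ _ (by simp [r, pullback.condition])]
  let σ : S ⟶ E.left := cov.glueMorphisms v hglue
  have hσι : ∀ y, (V y).ι ≫ σ = v y := fun y => cov.ι_glueMorphisms v hglue y
  refine ⟨σ, cov.hom_ext _ _ fun y => ?_, ?_⟩
  · show (V y).ι ≫ σ ≫ E.hom = (V y).ι ≫ 𝟙 S
    rw [reassoc_of% (hσι y), hv, Category.comp_id]
  · have hUσ : U.ι ≫ σ = u := by
      refine (U.toScheme.openCoverOfIsOpenCover (fun y => U.ι ⁻¹ᵁ V y) (.mk (by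
        rw [eq_top_iff]
        exact fun t _ => Opens.mem_iSup.mpr ⟨t.1, hyV t.1⟩))).hom_ext _ _ fun y => ?_
      show (U.ι ⁻¹ᵁ V y).ι ≫ U.ι ≫ σ = (U.ι ⁻¹ᵁ V y).ι ≫ u
      have hr : Set.range ((U.ι ⁻¹ᵁ V y).ι ≫ U.ι) ⊆ Set.range (U ⊓ V y).ι := by
        rintro _ ⟨t, rfl⟩
        rw [Scheme.Opens.range_ι]
        exact ⟨t.1.2, t.2⟩
      let l := IsOpenImmersion.lift (U ⊓ V y).ι ((U.ι ⁻¹ᵁ V y).ι ≫ U.ι) hr
      have hl : l ≫ (U ⊓ V y).ι = (U.ι ⁻¹ᵁ V y).ι ≫ U.ι := IsOpenImmersion.lift_fac _ _ _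
      have h1 : (U.ι ⁻¹ᵁ V y).ι = l ≫ S.homOfLE inf_le_left := by
        rw [← cancel_mono U.ι, Category.assoc, Scheme.homOfLE_ι, hl]
      rw [← reassoc_of% hl, ← Scheme.homOfLE_ι S (inf_le_right : U ⊓ V y ≤ V y), Category.assoc,
        hσι, ← hagree y, h1, Category.assoc]
    have hfs : U.fromSpecStalkOfMem ηS hηSU ≫ U.ι = S.fromSpecStalk ηS := U.fromSpecStalkOfMem_ι ηS hηSU
    show (Spec.map (S.residue ηS) ≫ S.fromSpecStalk ηS) ≫ σ = x
    rw [← hfs, Category.assoc, Category.assoc, hUσ, ← hu]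
    simp [φ]

end Groth.Agent.GITLib
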