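import Groth.Agent.GITLib.TorsorSch

/-!
# Fibre products of torsors
-/

set_option autoImplicit false
set_option linter.style.haveILetI false

universe u

open CategoryTheory MonoidalCategory CartesianMonoidalCategory MonObj AlgebraicGeometry

namespace Groth.Agent.GITLib

variable {S : Scheme.{u}} {H H₁ H₂ K T T₁ T₂ : Over S} [GrpObj H] [GrpObj H₁] [GrpObj H₂] [GrpObj K]
  (φ₁ : H₁ ⟶ H) (φ₂ : H₂ ⟶ H) [IsMonHom φ₁] [IsMonHom φ₂]
  (π₁ : K ⟶ H₁) (π₂ : K ⟶ H₂) [IsMonHom π₁] [IsMonHom π₂]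

/-- The fibre product of two torsors over a third is a pseudo-torsor under the fibre product of the groups. -/
theorem exists_action_fibreProd (hK : IsPullback π₁ π₂ φ₁ φ₂) {a : AlgGrp.Action H T}
    {a₁ : AlgGrp.Action H₁ T₁} {a₂ : AlgGrp.Action H₂ T₂} (f₁ : T₁ ⟶ T) (f₂ : T₂ ⟶ T)
    (hf₁ : AlgGrp.Action.IsEquivariant a₁ (a.restrict φ₁) f₁)
    (hf₂ : AlgGrp.Action.IsEquivariant a₂ (a.restrict φ₂) f₂) :
    ∃ c : AlgGrp.Action K (Limits.pullback f₁ f₂),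
      AlgGrp.Action.IsEquivariant c (a₁.restrict π₁) (Limits.pullback.fst f₁ f₂) ∧
      AlgGrp.Action.IsEquivariant c (a₂.restrict π₂) (Limits.pullback.snd f₁ f₂) ∧
      (NonAbH1.IsPseudoTorsorSch a → NonAbH1.IsPseudoTorsorSch a₁ → NonAbH1.IsPseudoTorsorSch a₂ →
        NonAbH1.IsPseudoTorsorSch c) := by
  let P := Limits.pullback f₁ f₂
  let p₁ : P ⟶ T₁ := Limits.pullback.fst f₁ f₂
  let p₂ : P ⟶ T₂ := Limits.pullback.snd f₁ f₂
  have hp : p₁ ≫ f₁ = p₂ ≫ f₂ := Limits.pullback.condition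
  have e₁ : ∀ {U : Over S} (g : U ⟶ H₁) (x : U ⟶ T₁),
      (lift g x ≫ a₁.act) ≫ f₁ = lift (g ≫ φ₁) (x ≫ f₁) ≫ a.act := fun g x => by
    rw [Category.assoc, hf₁, lift_whiskerLeft_assoc, AlgGrp.Action.lift_restrict_act]
  have e₂ : ∀ {U : Over S} (g : U ⟶ H₂) (x : U ⟶ T₂),
      (lift g x ≫ a₂.act) ≫ f₂ = lift (g ≫ φ₂) (x ≫ f₂) ≫ a.act := fun g x => by
    rw [Category.assoc, hf₂, lift_whiskerLeft_assoc, AlgGrp.Action.lift_restrict_act]
  let act : K ⊗ P ⟶ P := Limits.pullback.lift (lift (fst K P ≫ π₁) (snd K P ≫ p₁) ≫ a₁.act)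
    (lift (fst K P ≫ π₂) (snd K P ≫ p₂) ≫ a₂.act) (by
      rw [e₁, e₂, Category.assoc, Category.assoc, hK.w, Category.assoc, Category.assoc, hp])
  have h₁ : ∀ {U : Over S} (g : U ⟶ K) (x : U ⟶ P),
      (lift g x ≫ act) ≫ p₁ = lift (g ≫ π₁) (x ≫ p₁) ≫ a₁.act := fun g x => by
    rw [Category.assoc, Limits.pullback.lift_fst, comp_lift_assoc, lift_fst_assoc, lift_snd_assoc]
  have h₂ : ∀ {U : Over S} (g : U ⟶ K) (x : U ⟶ P),
      (lift g x ≫ act) ≫ p₂ = lift (g ≫ π₂) (x ≫ p₂) ≫ a₂.act := fun g x => by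
    rw [Category.assoc, Limits.pullback.lift_snd, comp_lift_assoc, lift_fst_assoc, lift_snd_assoc]
  let c : AlgGrp.Action K P :=
    { act := act
      one_act := by
        have : lift (1 : 𝟙_ (Over S) ⊗ P ⟶ K) (snd _ P) ≫ act = snd _ P :=
          Limits.pullback.hom_ext (by rw [h₁, MonObj.one_comp, a₁.lift_one_act])
            (by rw [h₂, MonObj.one_comp, a₂.lift_one_act])
        rw [leftUnitor_hom, ← this]
        refine congrArg (fun w => w ≫ act) (CartesianMonoidalCategory.hom_ext _ _ ?_ ?_)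
        · rw [whiskerRight_fst, lift_fst, Hom.one_def, toUnit_unique (toUnit _) (fst (𝟙_ (Over S)) P)]
        · simp
      mul_act := by
        apply AlgGrp.Action.hom_ext_lift₃
        intro U g g' x
        rw [lift_whiskerRight_assoc, ← Hom.mul_def, lift_lift_associator_hom_assoc, lift_whiskerLeft_assoc]
        refine Limits.pullback.hom_ext ?_ ?_
        · rw [h₁, h₁, h₁, MonObj.mul_comp, a₁.lift_mul_act]
        · rw [h₂, h₂, h₂, MonObj.mul_comp, a₂.lift_mul_act] }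
  refine ⟨c, ?_, ?_, fun h h' h'' => ?_⟩
  · refine AlgGrp.Action.hom_ext_lift₂ fun U g x => ?_
    rw [lift_whiskerLeft_assoc, AlgGrp.Action.lift_restrict_act, ← Category.assoc]
    exact h₁ g x
  · refine AlgGrp.Action.hom_ext_lift₂ fun U g x => ?_
    rw [lift_whiskerLeft_assoc, AlgGrp.Action.lift_restrict_act, ← Category.assoc]
    exact h₂ g x
  have hd : ∀ {U : Over S} (x y : U ⟶ P), ∃! g : U ⟶ K, lift g x ≫ act = y := by
    intro U x y
    obtain ⟨g₁, hg₁, hu₁⟩ := existsUnique_diff h' (x ≫ p₁) (y ≫ p₁)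
    obtain ⟨g₂, hg₂, hu₂⟩ := existsUnique_diff h'' (x ≫ p₂) (y ≫ p₂)
    have e : g₁ ≫ φ₁ = g₂ ≫ φ₂ := by
      refine (existsUnique_diff h (x ≫ p₁ ≫ f₁) (y ≫ p₁ ≫ f₁)).unique ?_ ?_
      · rw [← Category.assoc, ← e₁, hg₁, Category.assoc]
      · rw [hp, ← Category.assoc, ← e₂, hg₂, Category.assoc]
    refine ⟨hK.lift g₁ g₂ e, Limits.pullback.hom_ext ?_ ?_, fun g hg => hK.hom_ext ?_ ?_⟩
    · rw [h₁, hK.lift_fst]; exact hg₁
    · rw [h₂, hK.lift_snd]; exact hg₂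
    · rw [hK.lift_fst]; exact hu₁ _ ((h₁ g x).symm.trans (congrArg (· ≫ p₁) hg))
    · rw [hK.lift_snd]; exact hu₂ _ ((h₂ g x).symm.trans (congrArg (· ≫ p₂) hg))
  let dg := (hd (snd P P) (fst P P)).choose
  have hdg : lift dg (snd P P) ≫ act = fst P P := (hd (snd P P) (fst P P)).choose_spec.1
  refine ⟨lift dg (snd P P), ?_, ?_⟩
  · show lift act (snd K P) ≫ lift dg (snd P P) = 𝟙 _
    rw [comp_lift, lift_snd, ← lift_fst_snd]
    refine congrArg (fun g => lift g (snd K P)) ?_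
    refine (hd (snd K P) act).unique ?_ (by rw [lift_fst_snd, Category.id_comp])
    have := congrArg (lift act (snd K P) ≫ ·) hdg
    simp only [comp_lift_assoc, lift_snd, lift_fst] at this
    exact this
  · show lift dg (snd P P) ≫ lift act (snd K P) = 𝟙 _
    rw [comp_lift, hdg, lift_snd, lift_fst_snd]

end Groth.Agent.GITLib
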