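import Groth.Agent.GITLib.HMWeight
import Groth.Agent.SekLib.SpecPts

/-!
# Points of a line bundle in total-space form over local algebras
-/

set_option autoImplicit false

universe u

open CategoryTheory Limits MonoidalCategory CartesianMonoidalCategory MonObj AlgebraicGeometry Opposite

noncomputable section

namespace Groth.Agent.GITLib.FibrePts

variable {k : Type u} [Field k]

/-- `Spec R` over `Spec k`. -/
abbrev Pt (R : Type u) [CommRing R] [Algebra k R] : Over (Spec (CommRingCat.of k)) :=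
  (Spec (CommRingCat.of R)).asOver (Spec (CommRingCat.of k))

/-- The morphism of spectra of an algebra map. -/
def mapPt {R R' : Type u} [CommRing R] [Algebra k R] [CommRing R'] [Algebra k R'] (α : R →ₐ[k] R') :
    Pt (k := k) R' ⟶ Pt R :=
  Over.homMk (Spec.map (CommRingCat.ofHom α.toRingHom)) (by
    show Spec.map _ ≫ Spec.map (CommRingCat.ofHom (algebraMap k R)) = _
    rw [← Spec.map_comp, ← CommRingCat.ofHom_comp]
    congr 2
    exact α.comp_algebraMap)

theorem mapPt_id (R : Type u) [CommRing R] [Algebra k R] : mapPt (AlgHom.id k R) = 𝟙 (Pt R) := by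
  apply Over.OverMorphism.ext
  show Spec.map (CommRingCat.ofHom (RingHom.id R)) = 𝟙 _
  simp

theorem mapPt_comp {R R' R'' : Type u} [CommRing R] [Algebra k R] [CommRing R'] [Algebra k R'] [CommRing R'']
    [Algebra k R''] (α : R →ₐ[k] R') (β : R' →ₐ[k] R'') : mapPt (β.comp α) = mapPt β ≫ mapPt α := by
  apply Over.OverMorphism.ext
  show Spec.map _ = Spec.map _ ≫ Spec.map _
  rw [← Spec.map_comp, ← CommRingCat.ofHom_comp]
  rfl

theorem exists_mapPt {R R' : Type u} [CommRing R] [Algebra k R] [CommRing R'] [Algebra k R']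
    (g : Pt (k := k) R' ⟶ Pt R) : ∃ α : R →ₐ[k] R', mapPt α = g := by
  refine ⟨{ (Spec.preimage g.left).hom with commutes' := fun c => ?_ }, ?_⟩
  · have h : CommRingCat.ofHom (algebraMap k R) ≫ Spec.preimage g.left = CommRingCat.ofHom (algebraMap k R') := by
      apply Spec.map_injective
      rw [Spec.map_comp, Spec.map_preimage]
      exact Over.w g
    exact congrArg (fun m => CommRingCat.Hom.hom m c) h
  · apply Over.OverMorphism.ext
    exact Spec.map_preimage _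

/-- Global functions of `Spec R`. -/
def gl (R : Type u) [CommRing R] [Algebra k R] : Γ((Pt (k := k) R).left, ⊤) →+* R :=
  (Scheme.ΓSpecIso (CommRingCat.of R)).hom.hom

theorem gl_bijective (R : Type u) [CommRing R] [Algebra k R] : Function.Bijective (gl (k := k) R) :=
  (Scheme.ΓSpecIso (CommRingCat.of R)).commRingCatIsoToRingEquiv.bijective

theorem gl_natural {R R' : Type u} [CommRing R] [Algebra k R] [CommRing R'] [Algebra k R'] (α : R →ₐ[k] R')
    (z : Γ((Pt (k := k) R).left, ⊤)) : gl R' ((mapPt α).left.appTop z) = α (gl R z) :=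
  congrArg (fun m => CommRingCat.Hom.hom m z) (Scheme.ΓSpecIso_naturality (CommRingCat.ofHom α.toRingHom))

variable {G X V : Over (Spec (CommRingCat.of k))}

/-- The value of a global function at a point. -/
def evTop (f : Γ(V.left, ⊤)) {R : Type u} [CommRing R] [Algebra k R] (v : Pt R ⟶ V) : R :=
  gl R (v.left.appTop f)

theorem evTop_map (f : Γ(V.left, ⊤)) {R R' : Type u} [CommRing R] [Algebra k R] [CommRing R'] [Algebra k R']
    (α : R →ₐ[k] R') (v : Pt R ⟶ V) : evTop f (mapPt α ≫ v) = α (evTop f v) :=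
  gl_natural α _

/-- The value of a function on the preimage of an open at a point. -/
def ev (π : V ⟶ X) {U : X.left.Opens} (y : Γ(V.left, π.left ⁻¹ᵁ U)) {R : Type u} [CommRing R] [Algebra k R]
    (v : Pt R ⟶ V) (h : ⊤ ≤ v.left ⁻¹ᵁ (π.left ⁻¹ᵁ U)) : R :=
  gl R (HMNum.evalFn π y v h)

theorem ev_congr (π : V ⟶ X) {U : X.left.Opens} (y : Γ(V.left, π.left ⁻¹ᵁ U)) {R : Type u} [CommRing R]
    [Algebra k R] {v v' : Pt R ⟶ V} (e : v = v') (h : ⊤ ≤ v.left ⁻¹ᵁ (π.left ⁻¹ᵁ U))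
    (h' : ⊤ ≤ v'.left ⁻¹ᵁ (π.left ⁻¹ᵁ U)) : ev π y v h = ev π y v' h' := by
  subst e; rfl

theorem appTop_eq_appLE {Y Z : Scheme.{u}} (g : Y ⟶ Z) : g.appTop = g.appLE ⊤ ⊤ le_top := by
  simp [Scheme.Hom.appLE, Scheme.Hom.appTop]

theorem preimage_comp_le {T T' : Over (Spec (CommRingCat.of k))} (g : T' ⟶ T) (v : T ⟶ V) {O : V.left.Opens}
    (h : ⊤ ≤ v.left ⁻¹ᵁ O) : ⊤ ≤ (g ≫ v).left ⁻¹ᵁ O :=
  fun z _ => h (Set.mem_univ (g.left z))

theorem evalFn_comp (π : V ⟶ X) {U : X.left.Opens} (y : Γ(V.left, π.left ⁻¹ᵁ U)) {T T' : Over (Spec (CommRingCat.of k))}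
    (g : T' ⟶ T) (v : T ⟶ V) (h : ⊤ ≤ v.left ⁻¹ᵁ (π.left ⁻¹ᵁ U)) :
    HMNum.evalFn π y (g ≫ v) (preimage_comp_le g v h) = g.left.appTop (HMNum.evalFn π y v h) := by
  show (g.left ≫ v.left).appLE _ ⊤ _ y = g.left.appTop (v.left.appLE _ ⊤ h y)
  have := congrArg (fun m => CommRingCat.Hom.hom m y)
    (Scheme.Hom.appLE_comp_appLE g.left v.left (π.left ⁻¹ᵁ U) ⊤ ⊤ h le_rfl)
  refine this.symm.trans ?_
  show g.left.appLE ⊤ ⊤ _ _ = _
  exact congrArg (fun m => CommRingCat.Hom.hom m _) (appTop_eq_appLE g.left).symm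

theorem ev_map (π : V ⟶ X) {U : X.left.Opens} (y : Γ(V.left, π.left ⁻¹ᵁ U)) {R R' : Type u} [CommRing R]
    [Algebra k R] [CommRing R'] [Algebra k R'] (α : R →ₐ[k] R') (v : Pt R ⟶ V)
    (h : ⊤ ≤ v.left ⁻¹ᵁ (π.left ⁻¹ᵁ U)) :
    ev π y (mapPt α ≫ v) (preimage_comp_le (mapPt α) v h) = α (ev π y v h) := by
  show gl R' (HMNum.evalFn π y (mapPt α ≫ v) _) = _
  rw [evalFn_comp π y (mapPt α) v h]
  exact gl_natural α _

theorem le_of_eq_comp {π : V ⟶ X} {U : X.left.Opens} {T : Over (Spec (CommRingCat.of k))} {v : T ⟶ V} {p : T ⟶ X}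
    (hv : v ≫ π = p) (hp : ⊤ ≤ p.left ⁻¹ᵁ U) : ⊤ ≤ v.left ⁻¹ᵁ (π.left ⁻¹ᵁ U) := by
  subst hv; exact hp

/-- A point over a local ring lands in an open as soon as its closed point does. -/
theorem le_preimage_of_closedPoint {R : Type u} [CommRing R] [IsLocalRing R] [Algebra k R] (p : Pt (k := k) R ⟶ X)
    {U : X.left.Opens} (h : p.left (IsLocalRing.closedPoint R) ∈ U) : ⊤ ≤ p.left ⁻¹ᵁ U := by
  have e : p.left ⁻¹ᵁ U = ⊤ := (IsLocalRing.closedPoint_mem_iff (R := R) (p.left ⁻¹ᵁ U)).mp h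
  exact e.ge

variable {π : V ⟶ X} [IsAffineHom π.left]

/-- **Points of a line over a point with values in a local algebra are given by the fibre coordinate.** -/
theorem existsUnique_point {U : X.left.Opens} {y : Γ(V.left, π.left ⁻¹ᵁ U)} (hy : GLinSh.IsFibreCoord π U y)
    {R : Type u} [CommRing R] [IsLocalRing R] [Algebra k R] (p : Pt R ⟶ X) (hp : ⊤ ≤ p.left ⁻¹ᵁ U) (c : R) :
    (∃ (v : Pt R ⟶ V) (hv : v ≫ π = p), ev π y v (le_of_eq_comp hv hp) = c) ∧
      ∀ (v v' : Pt R ⟶ V) (hv : v ≫ π = p) (hv' : v' ≫ π = p),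
        ev π y v (le_of_eq_comp hv hp) = ev π y v' (le_of_eq_comp hv' hp) → v = v' := by
  obtain ⟨W, hW, hxW, hWU⟩ := exists_isAffineOpen_mem_and_subset
    (x := p.left (IsLocalRing.closedPoint R)) (U := U) (hp (Set.mem_univ _))
  have hpW := le_preimage_of_closedPoint p hxW
  have hO : IsAffineOpen (π.left ⁻¹ᵁ W) := hW.preimage π.left
  have hbij := hy W hW hWU
  let yW := GLinSh.res π hWU y
  have hT : IsAffineOpen (⊤ : (Pt (k := k) R).left.Opens) :=
    isAffineOpen_top (Spec (CommRingCat.of R))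
  have hres : ∀ (v : Pt R ⟶ V) (hv : v ≫ π = p) (h : ⊤ ≤ v.left ⁻¹ᵁ (π.left ⁻¹ᵁ W)),
      ev π yW v h = ev π y v (le_of_eq_comp hv hp) := by
    intro v hv h
    show gl R (v.left.appLE (π.left ⁻¹ᵁ W) ⊤ h (V.left.presheaf.map _ y)) = gl R (v.left.appLE _ ⊤ _ y)
    rw [← CommRingCat.comp_apply, Scheme.Hom.map_appLE]
  -- the ring map of a point
  have hpush : ∀ (v : Pt R ⟶ V) (hv : v ≫ π = p) (h : ⊤ ≤ v.left ⁻¹ᵁ (π.left ⁻¹ᵁ W)),
      π.left.app W ≫ v.left.appLE (π.left ⁻¹ᵁ W) ⊤ h = p.left.appLE W ⊤ hpW := by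
    intro v hv h
    subst hv
    rw [Scheme.Hom.app_eq_appLE, Scheme.Hom.appLE_comp_appLE]
    rfl
  refine ⟨?_, ?_⟩
  · let e := RingEquiv.ofBijective _ hbij
    let φ : CommRingCat.of Γ(V.left, π.left ⁻¹ᵁ W) ⟶ CommRingCat.of R :=
      CommRingCat.ofHom ((Polynomial.eval₂RingHom ((gl R).comp (p.left.appLE W ⊤ hpW).hom) c).comp e.symm.toRingHom)
    have hφπ : π.left.app W ≫ φ = p.left.appLE W ⊤ hpW ≫ (Scheme.ΓSpecIso (CommRingCat.of R)).hom := by
      refine CommRingCat.hom_ext (RingHom.ext fun z => ?_)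
      show Polynomial.eval₂RingHom _ c (e.symm (π.left.app W z)) = gl R (p.left.appLE W ⊤ hpW z)
      rw [show π.left.app W z = e (Polynomial.C z) from (Polynomial.eval₂_C _ _).symm, RingEquiv.symm_apply_apply]
      exact Polynomial.eval₂_C _ _
    have hπv : (Spec.map φ ≫ hO.fromSpec) ≫ π.left = p.left := by
      rw [Category.assoc, ← IsAffineOpen.SpecMap_appLE_fromSpec π.left hW hO le_rfl, ← Scheme.Hom.app_eq_appLE,
        ← Category.assoc, ← Spec.map_comp, hφπ, Spec.map_comp, Category.assoc,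
        IsAffineOpen.SpecMap_appLE_fromSpec p.left hW hT hpW, ← Category.assoc]
      refine (congrArg (· ≫ p.left) ?_).trans (Category.id_comp _)
      show Spec.map _ ≫ (isAffineOpen_top (Spec (CommRingCat.of R))).fromSpec = 𝟙 (Spec (CommRingCat.of R))
      rw [IsAffineOpen.fromSpec_top, Scheme.isoSpec_Spec_inv]
      rw [← Spec.map_comp, Iso.inv_hom_id, Spec.map_id]
    let v : Pt R ⟶ V := Over.homMk (Spec.map φ ≫ hO.fromSpec) (by
      rw [← Over.w π, ← Category.assoc]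
      exact (congrArg (· ≫ X.hom) hπv).trans (Over.w p))
    have hv : v ≫ π = p := Over.OverMorphism.ext hπv
    have hvW : ⊤ ≤ v.left ⁻¹ᵁ (π.left ⁻¹ᵁ W) := le_of_eq_comp hv hpW
    refine ⟨v, hv, ?_⟩
    rw [← hres v hv hvW]
    show gl R ((Spec.map φ ≫ hO.fromSpec).appLE (π.left ⁻¹ᵁ W) ⊤ _ yW) = c
    have h1 : (Spec.map φ ≫ hO.fromSpec).appLE (π.left ⁻¹ᵁ W) ⊤ hvW = φ ≫ (Scheme.ΓSpecIso (CommRingCat.of R)).inv := by
      have e := IsAffineOpen.SpecMap_appLE_fromSpec (X := Spec (CommRingCat.of R))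
        (Spec.map φ ≫ hO.fromSpec) hO (isAffineOpen_top (Spec (CommRingCat.of R))) hvW
      rw [IsAffineOpen.fromSpec_top, Scheme.isoSpec_Spec_inv] at e
      apply Spec.map_injective
      rw [Spec.map_comp]
      refine (cancel_mono hO.fromSpec).mp (e.trans ?_)
      exact (Category.assoc _ _ _).symm
    rw [h1]
    show (Scheme.ΓSpecIso (CommRingCat.of R)).hom ((Scheme.ΓSpecIso (CommRingCat.of R)).inv (φ yW)) = c
    rw [← CommRingCat.comp_apply, Iso.inv_hom_id]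
    show Polynomial.eval₂RingHom _ c (e.symm yW) = c
    rw [show yW = e Polynomial.X from (Polynomial.eval₂_X _ _).symm, RingEquiv.symm_apply_apply]
    exact Polynomial.eval₂_X _ _
  · intro v v' hv hv' heq
    have h := le_of_eq_comp hv hpW
    have h' := le_of_eq_comp hv' hpW
    have key : v.left.appLE (π.left ⁻¹ᵁ W) ⊤ h = v'.left.appLE (π.left ⁻¹ᵁ W) ⊤ h' := by
      refine CommRingCat.hom_ext (RingHom.ext fun z => ?_)
      obtain ⟨P, rfl⟩ := hbij.2 z
      induction P using Polynomial.induction_on' with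
      | add a b ha hb => simp only [map_add, ha, hb]
      | monomial n a =>
        simp only [Polynomial.coe_eval₂RingHom, Polynomial.eval₂_monomial, map_mul, map_pow]
        congr 1
        · exact congrArg (fun m => CommRingCat.Hom.hom m a) ((hpush v hv h).trans (hpush v' hv' h').symm)
        · congr 1
          refine (gl_bijective (k := k) R).1 ?_
          exact ((hres v hv h).trans heq).trans (hres v' hv' h').symm
    apply Over.OverMorphism.ext
    have e1 := IsAffineOpen.SpecMap_appLE_fromSpec v.left hO hT h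
    have e2 := IsAffineOpen.SpecMap_appLE_fromSpec v'.left hO hT h'
    rw [key, e2] at e1
    have : IsAffine (Pt (k := k) R).left := inferInstanceAs (IsAffine (Spec (CommRingCat.of R)))
    rw [IsAffineOpen.fromSpec_top] at e1
    exact ((cancel_epi _).mp e1).symm

omit [IsAffineHom π.left] in
/-- Functions of weight n at points. -/
theorem evTop_of_hasWeight {chart : ∀ U : X.left.Opens, Set (Γ(V.left, π.left ⁻¹ᵁ U))} {n : ℕ} {f : Γ(V.left, ⊤)}
    (hf : GLinSh.HasWeight chart n f) {U : X.left.Opens} {y : Γ(V.left, π.left ⁻¹ᵁ U)} (hy : y ∈ chart U)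
    {R : Type u} [CommRing R] [Algebra k R] (p : Pt R ⟶ X) (hp : ⊤ ≤ p.left ⁻¹ᵁ U) :
    ∃ C : R, ∀ (v : Pt R ⟶ V) (hv : v ≫ π = p), evTop f v = C * ev π y v (le_of_eq_comp hv hp) ^ n := by
  obtain ⟨c, hc⟩ := hf U y hy
  refine ⟨gl R (p.left.appLE U ⊤ hp c), fun v hv => ?_⟩
  have h1 := congrArg (v.left.appLE (π.left ⁻¹ᵁ U) ⊤ (le_of_eq_comp hv hp)) hc
  rw [map_mul, map_pow, ← CommRingCat.comp_apply, Scheme.Hom.map_appLE] at h1
  have h2 : π.left.app U ≫ v.left.appLE (π.left ⁻¹ᵁ U) ⊤ (le_of_eq_comp hv hp) = p.left.appLE U ⊤ hp := by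
    subst hv
    rw [Scheme.Hom.app_eq_appLE, Scheme.Hom.appLE_comp_appLE]
    rfl
  rw [← CommRingCat.comp_apply, h2] at h1
  have h3 : v.left.appTop f = v.left.appLE ⊤ ⊤ le_top f :=
    congrArg (fun m => CommRingCat.Hom.hom m f) (appTop_eq_appLE v.left)
  show gl R (v.left.appTop f) = _
  rw [h3]
  refine (congrArg (gl R) h1).trans ?_
  rw [map_mul, map_pow]
  rfl

section LinBun

variable [GrpObj G] {a : AlgGrp.Action G X} (B : GLinSh.LinBun G a)

/-- Translation is linear in the coordinates. -/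
theorem translate_ev {U U' : X.left.Opens} {y : Γ(B.V.left, B.π.left ⁻¹ᵁ U)} {y' : Γ(B.V.left, B.π.left ⁻¹ᵁ U')}
    (hy : y ∈ B.atlas.chart U) (hy' : y' ∈ B.atlas.chart U') {R : Type u} [CommRing R] [Algebra k R]
    (h : Pt R ⟶ G) (p : Pt R ⟶ X) (hp : ⊤ ≤ p.left ⁻¹ᵁ U) (hp' : ⊤ ≤ (lift h p ≫ a.act).left ⁻¹ᵁ U') :
    ∃ r : R, ∀ (v : Pt R ⟶ B.V) (hv : v ≫ B.π = p),
      ev B.π y' (lift h v ≫ B.lift.act) (le_of_eq_comp (by rw [HM.lift_π_pt, hv]) hp') =
        r * ev B.π y v (le_of_eq_comp hv hp) := by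
  obtain ⟨r, hr⟩ := HM.linear_eval B hy hy' h p hp hp'
  exact ⟨gl R r, fun v hv => (congrArg (gl R) (hr v hv _ _)).trans (map_mul _ _ _)⟩

/-- The translate of a function by a rational point. -/
def trFn (f : Γ(B.V.left, ⊤)) (t : 𝟙_ (Over (Spec (CommRingCat.of k))) ⟶ G) : Γ(B.V.left, ⊤) :=
  (lift (toUnit B.V ≫ t) (𝟙 B.V) ≫ B.lift.act).left.appTop f

theorem evTop_trFn (f : Γ(B.V.left, ⊤)) (t : 𝟙_ (Over (Spec (CommRingCat.of k))) ⟶ G) {R : Type u} [CommRing R]
    [Algebra k R] (v : Pt R ⟶ B.V) : evTop (trFn B f t) v = evTop f (lift (toUnit _ ≫ t) v ≫ B.lift.act) := by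
  have e : v ≫ lift (toUnit B.V ≫ t) (𝟙 B.V) ≫ B.lift.act = lift (toUnit _ ≫ t) v ≫ B.lift.act := by
    rw [comp_lift_assoc, Category.comp_id, ← Category.assoc, toUnit_unique (v ≫ toUnit _) (toUnit _)]
  rw [← e]
  rfl

/-- Homogeneity of translates. -/
theorem evTop_trFn_of_hasWeight [IsAffineHom B.π.left] {n : ℕ} {f : Γ(B.V.left, ⊤)}
    (hf : GLinSh.HasWeight B.atlas.chart n f) (t : 𝟙_ (Over (Spec (CommRingCat.of k))) ⟶ G) {U : X.left.Opens}
    {y : Γ(B.V.left, B.π.left ⁻¹ᵁ U)} (hy : y ∈ B.atlas.chart U)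
    {R : Type u} [CommRing R] [IsLocalRing R] [Algebra k R] (p : Pt R ⟶ X) (hp : ⊤ ≤ p.left ⁻¹ᵁ U) :
    ∃ C : R, ∀ (v : Pt R ⟶ B.V) (hv : v ≫ B.π = p),
      evTop (trFn B f t) v = C * ev B.π y v (le_of_eq_comp hv hp) ^ n := by
  obtain ⟨U', hxU', y', hy'⟩ := B.atlas.cover ((lift (toUnit _ ≫ t) p ≫ a.act).left (IsLocalRing.closedPoint R))
  have hp' := le_preimage_of_closedPoint (lift (toUnit _ ≫ t) p ≫ a.act) hxU'
  obtain ⟨r, hr⟩ := translate_ev B hy hy' (toUnit _ ≫ t) p hp hp'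
  obtain ⟨C, hC⟩ := evTop_of_hasWeight hf hy' (lift (toUnit _ ≫ t) p ≫ a.act) hp'
  refine ⟨C * r ^ n, fun v hv => ?_⟩
  rw [evTop_trFn, hC _ (by rw [HM.lift_π_pt, hv]), hr v hv, mul_pow, _root_.mul_assoc]

end LinBun

end Groth.Agent.GITLib.FibrePts
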