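import Groth.Agent.GITLib.Univ

/-!
# Universal geometric quotients: base change of surjectivity of `(σ, p₂)`
-/

set_option autoImplicit false

universe u

open CategoryTheory MonoidalCategory CartesianMonoidalCategory MonObj AlgebraicGeometry Topology

namespace Groth.Agent.GITLib

variable {S : Scheme.{u}} {G X Y : Over S} [GrpObj G] {a : AlgGrp.Action G X} {φ : X ⟶ Y}
variable {X' Y' : Over S} {pr : X' ⟶ X} {φ' : X' ⟶ Y'} {g : Y' ⟶ Y}

theorem surjective_PsiY_baseChange (hi : GIT.IsInvariant a φ)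
    (hs : Function.Surjective (GIT.PsiY a φ hi).base) (H : IsPullback pr φ' φ g)
    (a' : AlgGrp.Action G X') (ha : a'.act ≫ pr = (G ◁ pr) ≫ a.act) (hi' : GIT.IsInvariant a' φ') :
    Function.Surjective (GIT.PsiY a' φ' hi').base := by
  intro q
  let Q := Limits.pullback φ'.left φ'.left
  let p₁ : Q ⟶ X'.left := Limits.pullback.fst _ _
  let p₂ : Q ⟶ X'.left := Limits.pullback.snd _ _
  let Qo : Over S := Over.mk (p₂ ≫ X'.hom)
  let f₁ : Qo ⟶ X' := Over.homMk p₁ (by
    show p₁ ≫ X'.hom = p₂ ≫ X'.hom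
    rw [← Over.w φ', ← Category.assoc, ← Category.assoc, Limits.pullback.condition])
  let f₂ : Qo ⟶ X' := Over.homMk p₂ rfl
  have hf : f₁ ≫ φ' = f₂ ≫ φ' := Over.OverMorphism.ext Limits.pullback.condition
  have hfY : (f₁ ≫ pr) ≫ φ = (f₂ ≫ pr) ≫ φ := by
    rw [Category.assoc, Category.assoc, H.w, reassoc_of% hf]
  let c : Q ⟶ Limits.pullback φ.left φ.left :=
    Limits.pullback.lift (f₁ ≫ pr).left (f₂ ≫ pr).left (congrArg CommaMorphism.left hfY)
  obtain ⟨gp, hgp⟩ := hs (c.base q)
  obtain ⟨r, -, hr⟩ := Scheme.Pullback.exists_preimage_pullback (f := GIT.PsiY a φ hi) (g := c) gp q hgp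
  let R := Limits.pullback (GIT.PsiY a φ hi) c
  let cl : R ⟶ Q := Limits.pullback.snd _ _
  let Ro : Over S := Over.mk (cl ≫ Qo.hom)
  let c' : Ro ⟶ Qo := Over.homMk cl rfl
  have hcond := Limits.pullback.condition (f := GIT.PsiY a φ hi) (g := c)
  have hsnd : Limits.pullback.fst (GIT.PsiY a φ hi) c ≫ (snd G X).left = (c' ≫ f₂ ≫ pr).left := by
    have := congrArg (· ≫ Limits.pullback.snd φ.left φ.left) hcond
    simp only [Category.assoc] at this
    rw [show GIT.PsiY a φ hi ≫ Limits.pullback.snd φ.left φ.left = (snd G X).left from Limits.pullback.lift_snd _ _ _,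
      show c ≫ Limits.pullback.snd φ.left φ.left = (f₂ ≫ pr).left from Limits.pullback.lift_snd _ _ _] at this
    exact this
  have hact : Limits.pullback.fst (GIT.PsiY a φ hi) c ≫ a.act.left = (c' ≫ f₁ ≫ pr).left := by
    have := congrArg (· ≫ Limits.pullback.fst φ.left φ.left) hcond
    simp only [Category.assoc] at this
    rw [show GIT.PsiY a φ hi ≫ Limits.pullback.fst φ.left φ.left = a.act.left from Limits.pullback.lift_fst _ _ _,
      show c ≫ Limits.pullback.fst φ.left φ.left = (f₁ ≫ pr).left from Limits.pullback.lift_fst _ _ _] at this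
    exact this
  let γ : Ro ⟶ G ⊗ X := Over.homMk (Limits.pullback.fst _ _) (by
    rw [← Over.w (snd G X), ← Category.assoc, hsnd, Over.w])
  have hγ₁ : γ ≫ a.act = c' ≫ f₁ ≫ pr := Over.OverMorphism.ext hact
  have hγ₂ : γ ≫ snd G X = c' ≫ f₂ ≫ pr := Over.OverMorphism.ext hsnd
  let hh : Ro ⟶ G ⊗ X' := lift (γ ≫ fst G X) (c' ≫ f₂)
  have hh₁ : hh ≫ G ◁ pr = γ :=
    CartesianMonoidalCategory.hom_ext _ _ (by simp [hh]) (by simp [hh, hγ₂])
  have key : hh ≫ a'.act = c' ≫ f₁ := by
    refine H.hom_ext ?_ ?_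
    · rw [Category.assoc, ha, reassoc_of% hh₁, hγ₁, Category.assoc]
    · rw [Category.assoc, show a'.act ≫ φ' = snd G X' ≫ φ' from hi', ← Category.assoc, lift_snd,
        Category.assoc, Category.assoc, hf]
  refine ⟨hh.left.base r, ?_⟩
  have : hh.left ≫ GIT.PsiY a' φ' hi' = cl := by
    refine Limits.pullback.hom_ext ?_ ?_
    · rw [Category.assoc]
      erw [Limits.pullback.lift_fst]
      exact congrArg CommaMorphism.left key
    · rw [Category.assoc]
      erw [Limits.pullback.lift_snd]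
      exact congrArg CommaMorphism.left (lift_snd (γ ≫ fst G X) (c' ≫ f₂))
  rw [← hr]
  exact congrArg (fun k : R ⟶ Q => k.base r) this

/-- A universal categorical quotient which is universally submersive with surjective `(σ, p₂)`. -/
theorem isUnivGeomQuot_of_isUnivCatQuot (h : GIT.IsUnivCatQuot a φ) (hsub : GIT.IsUnivSubmersive φ.left)
    (hs : Function.Surjective (GIT.PsiY a φ h.1.1).base) : GIT.IsUnivGeomQuot a φ := by
  refine ⟨⟨h.1.1, surjective_of_isUnivCatQuot h, hs, hsub, sections_of_isUnivCatQuot h⟩,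
    fun X'' Y'' pr' φ'' g' _ H a' ha hi' => ?_⟩
  have h' := isUnivCatQuot_baseChange h H a' ha hi'
  exact ⟨hi', surjective_of_isUnivCatQuot h', surjective_PsiY_baseChange h.1.1 hs H a' ha hi',
    MorphismProperty.of_isPullback (P := MorphismProperty.universally (topologically @IsQuotientMap))
      (isPullback_left H) hsub, sections_of_isUnivCatQuot h'⟩

end Groth.Agent.GITLib
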