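import Groth.Agent.AlgSp.Basic
import Groth.Agent.GITLib.UnivGeom

/-!
# fppf quotients by a group action are universal geometric quotients

`IsLocQuot a q`: `q` is invariant, every point of the base lifts fppf locally and two points with the
same image are fppf locally in one orbit.  This follows from `QuotSh.IsQuotient`, is stable under
base change and implies being a categorical and geometric quotient.
-/

set_option autoImplicit false

universe u

open CategoryTheory MonoidalCategory CartesianMonoidalCategory MonObj AlgebraicGeometry Topology Opposite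

namespace Groth.Agent.GITLib

variable {S : Scheme.{u}} {G X Y : Over S} [GrpObj G]

/-- Two `T`-points in one orbit. -/
def OrbRel (a : AlgGrp.Action G X) (T : Over S) (x y : T ⟶ X) : Prop :=
  ∃ g : T ⟶ G, lift g x ≫ a.act = y

theorem lift_act_mul (a : AlgGrp.Action G X) {T : Over S} (g h : T ⟶ G) (x : T ⟶ X) :
    lift (g * h) x ≫ a.act = lift g (lift h x ≫ a.act) ≫ a.act := by
  have := congrArg (fun q ↦ lift (lift g h) x ≫ q) a.mul_act
  simpa [Hom.mul_def] using this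

theorem lift_act_one (a : AlgGrp.Action G X) {T : Over S} (x : T ⟶ X) :
    lift (1 : T ⟶ G) x ≫ a.act = x := by
  have := congrArg (fun q ↦ lift (toUnit T) x ≫ q) a.one_act
  simpa [Hom.one_def] using this

theorem orbRel_equivalence (a : AlgGrp.Action G X) (T : Over S) : Equivalence (OrbRel a T) where
  refl x := ⟨1, lift_act_one a x⟩
  symm := by
    rintro x y ⟨g, rfl⟩
    exact ⟨g⁻¹, by rw [← lift_act_mul, inv_mul_cancel, lift_act_one]⟩
  trans := by
    rintro x y z ⟨g, rfl⟩ ⟨h, rfl⟩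
    exact ⟨h * g, lift_act_mul a h g x⟩

theorem OrbRel.comp {a : AlgGrp.Action G X} {T T' : Over S} (f : T' ⟶ T) {x y : T ⟶ X}
    (h : OrbRel a T x y) : OrbRel a T' (f ≫ x) (f ≫ y) := by
  obtain ⟨g, rfl⟩ := h
  exact ⟨f ≫ g, by rw [← comp_lift, Category.assoc]⟩

theorem OrbRel.invariant {a : AlgGrp.Action G X} {T : Over S} {x y : T ⟶ X} (h : OrbRel a T x y)
    {Z : Over S} {ψ : X ⟶ Z} (hψ : GIT.IsInvariant a ψ) : x ≫ ψ = y ≫ ψ := by
  obtain ⟨g, rfl⟩ := h
  rw [Category.assoc, show a.act ≫ ψ = snd G X ≫ ψ from hψ, lift_snd_assoc]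

/-- The presheaf of orbits. -/
def orbPre (a : AlgGrp.Action G X) : (Over S)ᵒᵖ ⥤ Type (u + 1) where
  obj T := ULift.{u + 1} (Quot (OrbRel a T.unop))
  map {T T'} f := ↾fun x => ⟨Quot.map (f.unop ≫ ·) (fun _ _ h => h.comp f.unop) x.down⟩
  map_id T := by
    ext ⟨x⟩
    induction x using Quot.ind
    exact congrArg (Quot.mk _) (Category.id_comp _)
  map_comp f g := by
    ext ⟨x⟩
    induction x using Quot.ind
    exact congrArg (Quot.mk _) (Category.assoc _ _ _)

/-- The projection to the presheaf of orbits. -/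
def orbπ (a : AlgGrp.Action G X) : yoneda.obj X ⋙ uliftFunctor.{u + 1, u} ⟶ orbPre a where
  app T := ↾fun x => ⟨Quot.mk _ x.down⟩
  naturality _ _ _ := rfl

/-- The presheaf map induced by a morphism. -/
abbrev pm {V W : Over S} (g : V ⟶ W) :
    yoneda.obj V ⋙ uliftFunctor.{u + 1, u} ⟶ yoneda.obj W ⋙ uliftFunctor.{u + 1, u} :=
  Functor.whiskerRight (yoneda.map g) uliftFunctor.{u + 1, u}

theorem orbπ_condition (a : AlgGrp.Action G X) : pm a.act ≫ orbπ a = pm (snd G X) ≫ orbπ a := by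
  ext T ⟨r⟩
  have h : OrbRel a T.unop (r ≫ snd G X) (r ≫ a.act) :=
    ⟨r ≫ fst G X, by rw [← comp_lift_assoc, lift_fst_snd, Category.id_comp]⟩
  exact congrArg ULift.up (Quot.sound h).symm

/-- `q` is invariant, points lift fppf locally, points with one image are locally in one orbit. -/
structure IsLocQuot (a : AlgGrp.Action G X) (q : X ⟶ Y) : Prop where
  inv : GIT.IsInvariant a q
  lifts : ∀ {T : Over S} (y : T ⟶ Y), ∃ Sv ∈ AlgSp.J S T, ∀ ⦃T' : Over S⦄ (f : T' ⟶ T),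
    Sv.arrows f → ∃ x : T' ⟶ X, x ≫ q = f ≫ y
  rel : ∀ {T : Over S} (x y : T ⟶ X), x ≫ q = y ≫ q → ∃ Sv ∈ AlgSp.J S T,
    ∀ ⦃T' : Over S⦄ (f : T' ⟶ T), Sv.arrows f → OrbRel a T' (f ≫ x) (f ≫ y)

variable {a : AlgGrp.Action G X} {q : X ⟶ Y}

theorem isLocQuot_of_isQuotient
    (hq : QuotSh.IsQuotient Scheme.fppfPrecoverage a.act (snd G X) q) : IsLocQuot a q := by
  obtain ⟨w, hiso⟩ := hq
  have hπ : QuotSh.quotπ Scheme.fppfPrecoverage a.act (snd G X) ≫
      QuotSh.quotDesc Scheme.fppfPrecoverage q w = QuotSh.repMap Scheme.fppfPrecoverage q :=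
    Limits.coequalizer.π_desc _ _
  refine ⟨w, fun {T} y => ?_, fun {T} x y e => ?_⟩
  · have hepi : Epi (QuotSh.repMap Scheme.fppfPrecoverage q) := by
      rw [← hπ]
      have : Epi (QuotSh.quotπ Scheme.fppfPrecoverage a.act (snd G X)) :=
        inferInstanceAs (Epi (Limits.coequalizer.π _ _))
      exact epi_comp _ _
    have hs : Presheaf.IsLocallySurjective (AlgSp.J S) (QuotSh.repMap Scheme.fppfPrecoverage q).hom :=
      (Sheaf.isLocallySurjective_iff_epi _).2 hepi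
    have hn : pm q ≫ toSheafify (AlgSp.J S) _ =
        toSheafify (AlgSp.J S) _ ≫ (QuotSh.repMap Scheme.fppfPrecoverage q).hom :=
      toSheafify_naturality (AlgSp.J S) (pm q)
    have : Presheaf.IsLocallySurjective (AlgSp.J S)
        (toSheafify (AlgSp.J S) (yoneda.obj X ⋙ uliftFunctor.{u + 1, u}) ≫
          (QuotSh.repMap Scheme.fppfPrecoverage q).hom) :=
      Presheaf.isLocallySurjective_comp (AlgSp.J S) _ _
    have : Presheaf.IsLocallySurjective (AlgSp.J S) (pm q) :=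
      Presheaf.isLocallySurjective_of_isLocallySurjective_of_isLocallyInjective_fac (AlgSp.J S) _ hn
    refine ⟨Presheaf.imageSieve (pm q) (U := T) ⟨y⟩, Presheaf.imageSieve_mem (AlgSp.J S) _ _, ?_⟩
    rintro T' f ⟨x, hx⟩
    exact ⟨x.down, congrArg ULift.down hx⟩
  · let F := presheafToSheaf (AlgSp.J S) (Type (u + 1))
    have e1 : F.map (pm x) ≫ QuotSh.quotπ Scheme.fppfPrecoverage a.act (snd G X) =
        F.map (pm y) ≫ QuotSh.quotπ Scheme.fppfPrecoverage a.act (snd G X) := by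
      rw [← cancel_mono (QuotSh.quotDesc Scheme.fppfPrecoverage q w), Category.assoc, Category.assoc, hπ]
      change F.map (pm x) ≫ F.map (pm q) = F.map (pm y) ≫ F.map (pm q)
      rw [← F.map_comp, ← F.map_comp, pm, pm, pm, ← Functor.whiskerRight_comp, ← Functor.whiskerRight_comp,
        ← yoneda.map_comp, ← yoneda.map_comp, e]
    let m : QuotSh.quot Scheme.fppfPrecoverage a.act (snd G X) ⟶ F.obj (orbPre a) :=
      Limits.coequalizer.desc (F.map (orbπ a)) (by
        change F.map (pm a.act) ≫ F.map (orbπ a) = F.map (pm (snd G X)) ≫ F.map (orbπ a)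
        rw [← F.map_comp, ← F.map_comp, orbπ_condition])
    have hm : QuotSh.quotπ Scheme.fppfPrecoverage a.act (snd G X) ≫ m = F.map (orbπ a) :=
      Limits.coequalizer.π_desc _ _
    have e2 : (pm x ≫ orbπ a) ≫ toSheafify (AlgSp.J S) _ = (pm y ≫ orbπ a) ≫ toSheafify (AlgSp.J S) _ := by
      rw [toSheafify_naturality, toSheafify_naturality]
      have h := congrArg (fun k => k ≫ m) e1
      simp only [Category.assoc, hm, ← F.map_comp] at h
      exact congrArg (fun k => toSheafify (AlgSp.J S) _ ≫ k.hom) h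
    have e3 := ConcreteCategory.congr_hom (congr_app e2 (op T)) ⟨𝟙 T⟩
    refine ⟨Presheaf.equalizerSieve (F := orbPre a) (X := op T) ⟨Quot.mk _ x⟩ ⟨Quot.mk _ y⟩,
      Presheaf.equalizerSieve_mem (AlgSp.J S) (toSheafify (AlgSp.J S) (orbPre a)) _ _
        e3, ?_⟩
    intro T' f hf
    have h4 : Quot.mk (OrbRel a T') (f ≫ x) = Quot.mk _ (f ≫ y) := congrArg ULift.down hf
    exact (orbRel_equivalence a T').eqvGen_iff.1 (Quot.eqvGen_exact h4)

/-- The base change of a local quotient is one. -/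
theorem IsLocQuot.baseChange (h : IsLocQuot a q) {X' Y' : Over S} {pr : X' ⟶ X} {q' : X' ⟶ Y'}
    {g : Y' ⟶ Y} (H : IsPullback pr q' q g) (a' : AlgGrp.Action G X')
    (ha : a'.act ≫ pr = (G ◁ pr) ≫ a.act) (hi : GIT.IsInvariant a' q') : IsLocQuot a' q' := by
  refine ⟨hi, fun {T} y => ?_, fun {T} x y e => ?_⟩
  · obtain ⟨Sv, hSv, hl⟩ := h.lifts (y ≫ g)
    refine ⟨Sv, hSv, fun T' f hf => ?_⟩
    obtain ⟨x, hx⟩ := hl f hf
    exact ⟨H.lift x (f ≫ y) (by rw [hx, Category.assoc]), H.lift_snd _ _ _⟩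
  · obtain ⟨Sv, hSv, hl⟩ := h.rel (x ≫ pr) (y ≫ pr) (by
      simp only [Category.assoc, H.w]; rw [← Category.assoc, e, Category.assoc])
    refine ⟨Sv, hSv, fun T' f hf => ?_⟩
    obtain ⟨k, hk⟩ := hl f hf
    refine ⟨k, H.hom_ext ?_ ?_⟩
    · rw [Category.assoc, ha, lift_whiskerLeft_assoc, Category.assoc, hk, Category.assoc]
    · rw [Category.assoc, show a'.act ≫ q' = snd G X' ≫ q' from hi, lift_snd_assoc, Category.assoc,
        e, Category.assoc]

theorem IsLocQuot.isCatQuot (h : IsLocQuot a q) : GIT.IsCatQuot a q := by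
  refine ⟨h.inv, fun Z ψ hψ => ?_⟩
  have hZ : Presieve.IsSheaf (AlgSp.J S) (yoneda.obj Z) :=
    GrothendieckTopology.Subcanonical.isSheaf_of_isRepresentable _
  have key : ∀ {T : Over S} (x y : T ⟶ X), x ≫ q = y ≫ q → x ≫ ψ = y ≫ ψ := by
    intro T x y e
    obtain ⟨Sv, hSv, hr⟩ := h.rel x y e
    refine (hZ.isSeparated Sv hSv).ext fun T' f hf => ?_
    show f ≫ x ≫ ψ = f ≫ y ≫ ψ
    simpa only [Category.assoc] using (hr f hf).invariant hψ
  let Sv : Sieve Y :=
    { arrows := fun T f => ∃ x : T ⟶ X, x ≫ q = f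
      downward_closed := by
        rintro T T' f ⟨x, rfl⟩ k
        exact ⟨k ≫ x, Category.assoc _ _ _⟩ }
  have hSv : Sv ∈ AlgSp.J S Y := by
    obtain ⟨R, hR, hl⟩ := h.lifts (𝟙 Y)
    exact GrothendieckTopology.superset_covering _ (fun T f hf => by simpa [Sv] using hl f hf) hR
  let fam : Presieve.FamilyOfElements (yoneda.obj Z) Sv.arrows := fun T f hf => hf.choose ≫ ψ
  have hfam : fam.Compatible := by
    intro T₁ T₂ T k₁ k₂ f₁ f₂ h₁ h₂ w
    show k₁ ≫ h₁.choose ≫ ψ = k₂ ≫ h₂.choose ≫ ψ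
    rw [← Category.assoc, ← Category.assoc]
    exact key _ _ (by rw [Category.assoc, Category.assoc, h₁.choose_spec, h₂.choose_spec, w])
  let χ : Y ⟶ Z := (hZ Sv hSv).amalgamate fam hfam
  have hχ : ∀ {T : Over S} (f : T ⟶ Y) (hf : Sv.arrows f), f ≫ χ = hf.choose ≫ ψ :=
    fun f hf => (hZ Sv hSv).valid_glue hfam f hf
  have hq : Sv.arrows q := ⟨𝟙 X, Category.id_comp _⟩
  have hqχ : q ≫ χ = ψ := by
    rw [hχ q hq, key hq.choose (𝟙 X) (by rw [hq.choose_spec, Category.id_comp]), Category.id_comp]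
  refine ⟨χ, hqχ, fun χ' hχ' => (hZ.isSeparated Sv hSv).ext fun T f hf => ?_⟩
  show f ≫ χ' = f ≫ χ
  obtain ⟨x, rfl⟩ := hf
  rw [Category.assoc, hχ', Category.assoc, hqχ]

theorem IsLocQuot.isUnivCatQuot (h : IsLocQuot a q) : GIT.IsUnivCatQuot a q :=
  ⟨h.isCatQuot, fun _ _ _ _ _ _ H a' ha hi => (h.baseChange H a' ha hi).isCatQuot⟩

theorem mem_fppfPrecoverage_out {U : Scheme.{u}} {R : Presieve U} (hR : R ∈ Scheme.fppfPrecoverage U) :
    (∀ p : U, ∃ (W : Scheme.{u}) (g : W ⟶ U) (w : W), R g ∧ g.base w = p) ∧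
      ∀ ⦃W : Scheme.{u}⦄ (g : W ⟶ U), R g → Flat g ∧ LocallyOfFinitePresentation g := by
  obtain ⟨J', W, f, rfl⟩ := R.exists_eq_ofArrows
  rw [Scheme.fppfPrecoverage, Scheme.ofArrows_mem_precoverage_iff] at hR
  refine ⟨fun p => ?_, ?_⟩
  · obtain ⟨i, w, hw⟩ := hR.1 p
    exact ⟨W i, f i, w, Presieve.ofArrows.mk i, hw⟩
  · rintro V g ⟨i⟩
    exact hR.2 i

theorem IsLocQuot.exists_cover (h : IsLocQuot a q) :
    ∃ R ∈ Scheme.fppfPrecoverage Y.left, ∀ ⦃W : Scheme.{u}⦄ (k : W ⟶ Y.left), R k →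
      ∃ x : W ⟶ X.left, x ≫ q.left = k := by
  obtain ⟨Sv, hSv, hl⟩ := h.lifts (𝟙 Y)
  obtain ⟨R, hR, hR'⟩ := AlgSp.exists_cover_of_mem hSv
  refine ⟨R, hR, fun W k hk => ?_⟩
  obtain ⟨x, hx⟩ := hl _ (hR' k hk)
  exact ⟨x.left, by rw [← Over.comp_left, hx, Category.comp_id]; rfl⟩

theorem IsLocQuot.surjective_psiY (h : IsLocQuot a q) :
    Function.Surjective (GIT.PsiY a q h.inv).base := by
  intro p
  let T : Over S := Over.mk (Limits.pullback.fst q.left q.left ≫ X.hom)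
  let x : T ⟶ X := Over.homMk (Limits.pullback.fst q.left q.left) rfl
  let y : T ⟶ X := Over.homMk (Limits.pullback.snd q.left q.left) (by
    show Limits.pullback.snd q.left q.left ≫ X.hom = Limits.pullback.fst q.left q.left ≫ X.hom
    rw [← Over.w q, Limits.pullback.condition_assoc])
  obtain ⟨Sv, hSv, hl⟩ := h.rel y x (Over.OverMorphism.ext Limits.pullback.condition.symm)
  obtain ⟨R, hR, hR'⟩ := AlgSp.exists_cover_of_mem hSv
  obtain ⟨W, k, w, hk, rfl⟩ := (mem_fppfPrecoverage_out hR).1 p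
  obtain ⟨g, hg⟩ := hl _ (hR' k hk)
  refine ⟨(lift g ((Over.homMk k rfl : Over.mk (k ≫ T.hom) ⟶ T) ≫ y)).left.base w, ?_⟩
  have : (lift g ((Over.homMk k rfl : Over.mk (k ≫ T.hom) ⟶ T) ≫ y)).left ≫ GIT.PsiY a q h.inv = k := by
    refine Limits.pullback.hom_ext ?_ ?_
    · rw [Category.assoc, GIT.PsiY, Limits.pullback.lift_fst, ← Over.comp_left, hg]
      rfl
    · rw [Category.assoc, GIT.PsiY, Limits.pullback.lift_snd, ← Over.comp_left, lift_snd]
      rfl
  exact congrArg (fun m : W ⟶ Limits.pullback q.left q.left => m.base w) this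

theorem IsLocQuot.isUnivSubmersive (h : IsLocQuot a q) : GIT.IsUnivSubmersive q.left := by
  obtain ⟨R, hR, hl⟩ := h.exists_cover
  obtain ⟨hcov, hprop⟩ := mem_fppfPrecoverage_out hR
  intro P Q i₁ i₂ f' H
  have key : ∀ y : Q, ∃ (W : Scheme.{u}) (g : W ⟶ Q) (l : W ⟶ P) (w : W),
      IsOpenMap g.base ∧ l ≫ f' = g ∧ g.base w = y := by
    intro y
    obtain ⟨W, k, w, hk, hw⟩ := hcov (i₂.base y)
    obtain ⟨x, hx⟩ := hl k hk
    obtain ⟨_, _⟩ := hprop k hk
    obtain ⟨z, -, hz⟩ := Scheme.Pullback.exists_preimage_pullback (f := k) (g := i₂) w y hw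
    exact ⟨_, Limits.pullback.snd k i₂,
      H.lift (Limits.pullback.snd k i₂) (Limits.pullback.fst k i₂ ≫ x)
        (by rw [Category.assoc, hx, Limits.pullback.condition]),
      z, (Limits.pullback.snd k i₂).isOpenMap, H.lift_fst _ _ _, hz⟩
  show IsQuotientMap f'.base
  refine (isQuotientMap_iff _).2 ⟨isCoinducing_iff.2 fun U => ⟨fun hU => ?_, fun hU => hU.preimage f'.base.hom.continuous⟩, fun y => ?_⟩
  swap
  · obtain ⟨W, g, l, w, -, hl', hw⟩ := key y
    exact ⟨l.base w, by rw [← hw, ← hl']; rfl⟩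
  · rw [isOpen_iff_forall_mem_open]
    intro y hy
    obtain ⟨W, g, l, w, hg, hl', hw⟩ := key y
    refine ⟨g.base '' (g.base ⁻¹' U), Set.image_preimage_subset _ _, hg _ ?_, w, ?_, hw⟩
    · rw [← hl']
      exact hU.preimage l.base.hom.continuous
    · show g.base w ∈ U
      rw [hw]; exact hy

theorem IsLocQuot.isGeomQuot (h : IsLocQuot a q) : GIT.IsGeomQuot a q :=
  ⟨h.inv, surjective_of_isUnivCatQuot h.isUnivCatQuot, h.surjective_psiY, h.isUnivSubmersive,
    sections_of_isUnivCatQuot h.isUnivCatQuot⟩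

theorem IsLocQuot.isUnivGeomQuot (h : IsLocQuot a q) : GIT.IsUnivGeomQuot a q :=
  ⟨h.isGeomQuot, fun _ _ _ _ _ _ H a' ha hi => (h.baseChange H a' ha hi).isGeomQuot⟩

end Groth.Agent.GITLib
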