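import Groth.Agent.GITLib.AffineQuot

/-!
# Diagonal actions of the multiplicative group
-/

set_option autoImplicit false

universe u w

noncomputable section

open TensorProduct HopfRep LaurentPolynomial

namespace Groth.Agent.GITLib

variable {k : Type u} [Field k] {ι : Type w}
  [HopfRep.Comod k k[T;T⁻¹] (MvPolynomial ι k)] [GLin.IsCoactAlg k k[T;T⁻¹] (MvPolynomial ι k)]
  {r : ι → ℤ}

/-- The hypothesis that the coordinate `X i` has weight `r i`. -/
def IsDiagWeights (r : ι → ℤ) : Prop :=
  ∀ i : ι, HopfRep.Comod.coact (k := k) (A := k[T;T⁻¹]) (MvPolynomial.X i : MvPolynomial ι k) =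
    (MvPolynomial.X i : MvPolynomial ι k) ⊗ₜ[k] (T (r i) : k[T;T⁻¹])

theorem coact_monomial (hr : IsDiagWeights (k := k) r) (s : ι →₀ ℕ) :
    HopfRep.Comod.coact (k := k) (A := k[T;T⁻¹]) (MvPolynomial.monomial s (1 : k)) =
      MvPolynomial.monomial s (1 : k) ⊗ₜ[k] (T (s.sum fun i n => n * r i) : k[T;T⁻¹]) := by
  induction s using Finsupp.induction with
  | zero =>
    simp [GLin.IsCoactAlg.coact_one, Algebra.TensorProduct.one_def]
  | single_add i n s hi hn ih =>
    have h : MvPolynomial.monomial (Finsupp.single i n + s) (1 : k) =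
        MvPolynomial.X i ^ n * MvPolynomial.monomial s 1 := by
      rw [MvPolynomial.X_pow_eq_monomial, MvPolynomial.monomial_mul, one_mul]
    rw [h, GLin.IsCoactAlg.coact_mul, ← GLin.coactAlgHom_apply, map_pow, GLin.coactAlgHom_apply, hr i, ih,
      Algebra.TensorProduct.tmul_pow, Algebra.TensorProduct.tmul_mul_tmul, T_pow, ← T_add]
    congr 2
    rw [Finsupp.sum_add_index' (by simp) (by intros; push_cast; ring), Finsupp.sum_single_index (by simp)]

theorem weight_eq_zero_of_mem_invariants (hr : IsDiagWeights (k := k) r) {F : MvPolynomial ι k}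
    (hF : F ∈ GLin.invariants k k[T;T⁻¹] (MvPolynomial ι k)) {s : ι →₀ ℕ} (hs : F.coeff s ≠ 0) :
    (s.sum fun i n => n * r i : ℤ) = 0 := by
  classical
  let w : (ι →₀ ℕ) → ℤ := fun t => t.sum fun i n => n * r i
  let φ : k[T;T⁻¹] →ₗ[k] k :=
    { toFun := fun f => f.coeff (w s), map_add' := fun _ _ => rfl, map_smul' := fun _ _ => rfl }
  have h1 := congrArg (MvPolynomial.coeff s) ((Comod.eq_tmul_iff_contract (k := k) F (1 : k[T;T⁻¹])).1 hF φ)
  have h2 : Comod.contract φ F = ∑ t ∈ F.support, F.coeff t • φ (T (w t)) • MvPolynomial.monomial t (1 : k) := by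
    conv_lhs => rw [F.as_sum, map_sum]
    refine Finset.sum_congr rfl fun t _ => ?_
    rw [show MvPolynomial.monomial t (F.coeff t) = F.coeff t • MvPolynomial.monomial t (1 : k) by
      rw [MvPolynomial.smul_monomial, smul_eq_mul, mul_one], map_smul, Comod.contract_apply, coact_monomial hr,
      Comod.slice_tmul]
  rw [h2] at h1
  simp only [MvPolynomial.coeff_sum, MvPolynomial.coeff_smul, MvPolynomial.coeff_monomial, smul_eq_mul,
    mul_ite, mul_one, mul_zero, Finset.sum_ite_eq', MvPolynomial.mem_support_iff, ne_eq, hs, not_false_eq_true,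
    if_true] at h1
  by_contra hw
  refine hs ?_
  simpa [φ, w, ← T_zero, Ne.symm hw] using h1

theorem orbitHom_X (hr : IsDiagWeights (k := k) r) (x : MvPolynomial ι k →ₐ[k] k) (i : ι) :
    GLin.orbitHom k k[T;T⁻¹] x (MvPolynomial.X i) = x (MvPolynomial.X i) • T (r i) := by
  simp [GLin.orbitHom, hr i]

theorem monomial_pair_mem_invariants (hr : IsDiagWeights (k := k) r) (i j : ι) (a b : ℕ)
    (h : (a : ℤ) * r i + b * r j = 0) :
    MvPolynomial.X i ^ a * MvPolynomial.X j ^ b ∈ GLin.invariants k k[T;T⁻¹] (MvPolynomial ι k) := by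
  rw [GLin.mem_invariants_iff, ← GLin.coactAlgHom_apply, map_mul, map_pow, map_pow, GLin.coactAlgHom_apply,
    GLin.coactAlgHom_apply, hr i, hr j, Algebra.TensorProduct.tmul_pow, Algebra.TensorProduct.tmul_pow,
    Algebra.TensorProduct.tmul_mul_tmul, T_pow, T_pow, ← T_add, h, T_zero]

theorem isSemistableVec_iff [Fintype ι] (hr : IsDiagWeights (k := k) r) (v : ι → k) :
    GLin.IsSemistableVec k k[T;T⁻¹] v ↔ ∃ i j : ι, v i ≠ 0 ∧ v j ≠ 0 ∧ r i ≤ 0 ∧ 0 ≤ r j := by
  constructor
  · intro h
    by_contra! hne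
    refine h fun F hF d hd hhom => ?_
    rw [MvPolynomial.eval_eq]
    refine Finset.sum_eq_zero fun s hs => ?_
    by_contra hterm
    have hv : ∀ i ∈ s.support, v i ≠ 0 := fun i hi hvi => hterm (by
      rw [Finset.prod_eq_zero hi (by rw [hvi, zero_pow (Finsupp.mem_support_iff.1 hi)]), mul_zero])
    have hw := weight_eq_zero_of_mem_invariants hr hF (MvPolynomial.mem_support_iff.1 hs)
    rw [Finsupp.sum] at hw
    have hne' : s.support.Nonempty := by
      rw [Finsupp.support_nonempty_iff]
      rintro rfl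
      exact absurd (hhom.coeff_eq_zero (d := 0) (by simp; lia)) (MvPolynomial.mem_support_iff.1 hs)
    obtain ⟨i, hi, hi'⟩ : ∃ i ∈ s.support, r i ≤ 0 := by
      by_contra! hall
      exact absurd hw (ne_of_gt (Finset.sum_pos (fun i hi => mul_pos
        (by simpa [Nat.pos_iff_ne_zero] using hi) (hall i hi)) hne'))
    obtain ⟨j, hj, hj'⟩ : ∃ j ∈ s.support, 0 ≤ r j := by
      by_contra! hall
      exact absurd hw (ne_of_lt (Finset.sum_neg (fun i hi => mul_neg_of_pos_of_neg
        (by simpa [Nat.pos_iff_ne_zero] using hi) (hall i hi)) hne'))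
    exact absurd hj' (not_le.2 (hne i j (hv i hi) (hv j hj) hi'))
  · rintro ⟨i, j, hi, hj, hi', hj'⟩ hnull
    by_cases hz : r i = 0
    · have := hnull _ (monomial_pair_mem_invariants hr i j 1 0 (by simp [hz])) 1 one_pos
        (by simpa using MvPolynomial.isHomogeneous_X k i)
      simp [hi] at this
    · have := hnull _ (monomial_pair_mem_invariants hr i j (r j).natAbs (r i).natAbs
        (by rw [Int.natAbs_of_nonneg hj', Int.ofNat_natAbs_of_nonpos hi']; ring))
        ((r j).natAbs + (r i).natAbs) (by lia)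
        (((MvPolynomial.isHomogeneous_X_pow i _)).mul (MvPolynomial.isHomogeneous_X_pow j _))
      simp [hi, hj] at this

/-- A point with weights of both signs has finite orbit map, hence is stable. -/
theorem isStablePt_of_signs [Finite ι] (hr : IsDiagWeights (k := k) r) (x : MvPolynomial ι k →ₐ[k] k) (i j : ι)
    (hi : x (MvPolynomial.X i) ≠ 0) (hj : x (MvPolynomial.X j) ≠ 0) (hi' : r i < 0) (hj' : 0 < r j) :
    GLin.IsStablePt k k[T;T⁻¹] x := by
  have : Algebra.FiniteType k k[T;T⁻¹] := inferInstance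
  have pow_T : ∀ (n : ℕ) (m : ℤ), (T m : k[T;T⁻¹]) ^ n = T (n * m) := fun n m => T_pow m n
  constructor
  · let φ := (GLin.orbitHom k k[T;T⁻¹] x).toRingHom
    refine PrimeSpectrum.isClosedMap_comap_of_isIntegral φ ?_ |>.isClosed_range
    let := φ.toAlgebra
    have hmem : ∀ l, x (MvPolynomial.X l) ≠ 0 → IsIntegral (MvPolynomial ι k) (T (r l) : k[T;T⁻¹]) := by
      intro l hl
      have : (T (r l) : k[T;T⁻¹]) = algebraMap (MvPolynomial ι k) k[T;T⁻¹] ((x (MvPolynomial.X l))⁻¹ • MvPolynomial.X l) := by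
        show _ = GLin.orbitHom k k[T;T⁻¹] x _
        rw [map_smul, orbitHom_X hr, smul_smul, inv_mul_cancel₀ hl, one_smul]
      rw [this]
      exact isIntegral_algebraMap
    have hp : IsIntegral (MvPolynomial ι k) (T 1 : k[T;T⁻¹]) := IsIntegral.of_pow (n := (r j).natAbs) (by lia) (by
      rw [pow_T, mul_one, Int.natAbs_of_nonneg hj'.le]; exact hmem j hj)
    have hn : IsIntegral (MvPolynomial ι k) (T (-1) : k[T;T⁻¹]) := IsIntegral.of_pow (n := (r i).natAbs) (by lia) (by
      rw [pow_T, Int.ofNat_natAbs_of_nonpos hi'.le, neg_mul_neg, mul_one]; exact hmem i hi)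
    intro f
    show IsIntegral (MvPolynomial ι k) f
    induction f using LaurentPolynomial.induction_on' with
    | add p q hp' hq' => exact hp'.add hq'
    | C_mul_T n a =>
      refine IsIntegral.mul ?_ ?_
      · have : (C a : k[T;T⁻¹]) = algebraMap (MvPolynomial ι k) k[T;T⁻¹] (MvPolynomial.C a) := by
          show _ = GLin.orbitHom k k[T;T⁻¹] x _
          rw [← MvPolynomial.algebraMap_eq, AlgHom.commutes, C_eq_algebraMap]
        rw [this]
        exact isIntegral_algebraMap
      · rcases le_total 0 n with h | h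
        · rw [← Int.natAbs_of_nonneg h, ← mul_one (n.natAbs : ℤ), ← pow_T]
          exact hp.pow _
        · rw [← neg_neg n, ← Int.ofNat_natAbs_of_nonpos h, ← mul_neg_one, ← pow_T]
          exact hn.pow _
  · let J := GLin.stabIdeal k k[T;T⁻¹] x
    let q := Ideal.Quotient.mkₐ k J
    have hone : ∀ l, x (MvPolynomial.X l) ≠ 0 → q (T (r l)) = 1 := by
      intro l hl
      rw [← map_one q]
      refine Ideal.Quotient.eq.2 ?_
      have h1 : GLin.orbitHom k k[T;T⁻¹] x ((x (MvPolynomial.X l))⁻¹ • MvPolynomial.X l - 1) = T (r l) - 1 := by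
        rw [map_sub, map_smul, orbitHom_X hr, smul_smul, inv_mul_cancel₀ hl, one_smul, map_one]
      rw [← h1]
      refine Ideal.mem_map_of_mem _ ?_
      simp [RingHom.mem_ker, hl]
    have : Algebra.IsIntegral k (k[T;T⁻¹] ⧸ J) := by
      refine ⟨fun f => ?_⟩
      obtain ⟨f, rfl⟩ := Ideal.Quotient.mk_surjective f
      show IsIntegral k (q f)
      have hp : IsIntegral k (q (T 1)) := IsIntegral.of_pow (n := (r j).natAbs) (by lia) (by
        rw [← map_pow, pow_T, mul_one, Int.natAbs_of_nonneg hj'.le, hone j hj]; exact isIntegral_one)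
      have hn : IsIntegral k (q (T (-1))) := IsIntegral.of_pow (n := (r i).natAbs) (by lia) (by
        rw [← map_pow, pow_T, Int.ofNat_natAbs_of_nonpos hi'.le, neg_mul_neg, mul_one, hone i hi]
        exact isIntegral_one)
      induction f using LaurentPolynomial.induction_on' with
      | add p p' hp' hq' => rw [map_add]; exact hp'.add hq'
      | C_mul_T n a =>
        rw [map_mul, C_eq_algebraMap, AlgHom.commutes]
        refine isIntegral_algebraMap.mul ?_
        rcases le_total 0 n with h | h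
        · rw [← Int.natAbs_of_nonneg h, ← mul_one (n.natAbs : ℤ), ← pow_T, map_pow]
          exact hp.pow _
        · rw [← neg_neg n, ← Int.ofNat_natAbs_of_nonpos h, ← mul_neg_one, ← pow_T, map_pow]
          exact hn.pow _
    exact Algebra.IsIntegral.finite (R := k) (A := k[T;T⁻¹] ⧸ J)

/-- A stable point has weights of both signs. -/
theorem signs_of_isStablePt [IsAlgClosed k] (hr : IsDiagWeights (k := k) r) (x : MvPolynomial ι k →ₐ[k] k)
    (σ : ℤ) (hσ : σ = 1 ∨ σ = -1) (hall : ∀ i, x (MvPolynomial.X i) ≠ 0 → 0 ≤ σ * r i) :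
    ¬ GLin.IsStablePt k k[T;T⁻¹] x := by
  classical
  rintro ⟨hcl, hfin⟩
  let j : Polynomial k →ₐ[k] k[T;T⁻¹] := Polynomial.aeval (T σ)
  have hj : Function.Injective j := by
    rcases hσ with rfl | rfl
    · have : j = Polynomial.toLaurentAlg := Polynomial.algHom_ext (by simp [j])
      rw [this]
      exact Polynomial.toLaurent_injective
    · have : j = invert.toAlgHom.comp Polynomial.toLaurentAlg := Polynomial.algHom_ext (by simp [j])
      rw [this]
      exact invert.injective.comp Polynomial.toLaurent_injective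
  let h : MvPolynomial ι k →ₐ[k] Polynomial k :=
    MvPolynomial.aeval fun i => x (MvPolynomial.X i) • Polynomial.X ^ (σ * r i).natAbs
  have hjh : j.comp h = GLin.orbitHom k k[T;T⁻¹] x := by
    refine MvPolynomial.algHom_ext fun i => ?_
    rw [orbitHom_X hr]
    by_cases hxi : x (MvPolynomial.X i) = 0
    · simp [h, hxi]
    · simp only [AlgHom.comp_apply, h, MvPolynomial.aeval_X, map_smul, map_pow, j, Polynomial.aeval_X, T_pow,
        Int.natAbs_of_nonneg (hall i hxi)]
      rcases hσ with rfl | rfl <;> simp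
  let z := (Polynomial.aeval (0 : k)).comp h
  have hz : GLin.InOrbitClosure k k[T;T⁻¹] x z := fun f hf => by
    rw [RingHom.mem_ker, ← hjh, AlgHom.comp_apply] at hf
    rw [RingHom.mem_ker, AlgHom.comp_apply, (map_eq_zero_iff j hj).1 hf, map_zero]
  obtain ⟨g, hg⟩ := exists_actPt_eq hcl hz
  have hzero : ∀ i, x (MvPolynomial.X i) ≠ 0 → r i = 0 := by
    intro i hi
    by_contra hne
    have h1 : z (MvPolynomial.X i) = 0 := by
      have : (σ * r i).natAbs ≠ 0 := by rcases hσ with rfl | rfl <;> simpa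
      simp [z, h, this]
    rw [hg] at h1
    simp only [GLin.actPt, AlgHom.comp_apply, orbitHom_X hr, map_smul, smul_eq_mul, mul_eq_zero, hi,
      false_or] at h1
    exact ((isUnit_T (r i)).map g).ne_zero h1
  have hbot : GLin.stabIdeal k k[T;T⁻¹] x = ⊥ := by
    rw [GLin.stabIdeal, Ideal.map_eq_bot_iff_le_ker]
    intro f hf
    have : GLin.orbitHom k k[T;T⁻¹] x = (Algebra.ofId k k[T;T⁻¹]).comp x := MvPolynomial.algHom_ext fun i => by
      rw [orbitHom_X hr]
      by_cases hxi : x (MvPolynomial.X i) = 0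
      · simp [hxi]
      · simp [hzero i hxi, Algebra.smul_def, Algebra.ofId_apply]
    rw [RingHom.mem_ker] at hf ⊢
    rw [this, AlgHom.comp_apply, hf, map_zero]
  have : Module.Finite k (k[T;T⁻¹] ⧸ GLin.stabIdeal k k[T;T⁻¹] x) := hfin
  obtain ⟨p, hp, hp'⟩ := IsIntegral.of_finite k (Ideal.Quotient.mkₐ k (GLin.stabIdeal k k[T;T⁻¹] x) (T 1))
  rw [← Polynomial.aeval_def, Polynomial.aeval_algHom_apply] at hp'
  change Ideal.Quotient.mk _ _ = 0 at hp'
  rw [Ideal.Quotient.eq_zero_iff_mem, hbot, Ideal.mem_bot,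
    show (Polynomial.aeval (T 1 : k[T;T⁻¹])) = Polynomial.toLaurentAlg from Polynomial.algHom_ext (by simp)] at hp'
  exact hp.ne_zero (Polynomial.toLaurent_eq_zero.1 hp')

theorem isStableVec_iff [IsAlgClosed k] [Fintype ι] (hr : IsDiagWeights (k := k) r) (v : ι → k) :
    GLin.IsStableVec k k[T;T⁻¹] v ↔ ∃ i j : ι, v i ≠ 0 ∧ v j ≠ 0 ∧ r i < 0 ∧ 0 < r j := by
  constructor
  · intro hst
    by_contra! hne
    by_cases hneg : ∃ i, v i ≠ 0 ∧ r i < 0
    · obtain ⟨i, hi, hi'⟩ := hneg
      refine signs_of_isStablePt hr (GLin.vecPt k ι v) (-1) (Or.inr rfl) (fun j hj => ?_) hst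
      have := hne i j hi (by simpa using hj) hi'
      lia
    · push Not at hneg
      refine signs_of_isStablePt hr (GLin.vecPt k ι v) 1 (Or.inl rfl) (fun j hj => ?_) hst
      simpa using hneg j (by simpa using hj)
  · rintro ⟨i, j, hi, hj, hi', hj'⟩
    exact isStablePt_of_signs hr (GLin.vecPt k ι v) i j (by simpa using hi) (by simpa using hj) hi' hj'

end Groth.Agent.GITLib
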