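import Groth.Agent.GrpScheme.ClosedImage
import Groth.Agent.GITLib.Orbit
import Groth.Agent.FlatMor.GenericPts
import Groth.Prelude.Def_W4c6nonredquotmfGoodQuot
import Groth.Prelude.Def_ChGrp
import Mathlib.AlgebraicGeometry.AlgClosed.Basic

/-!
# Good quotients: orbit closures and closed orbits in fibres
-/

set_option autoImplicit false

universe u

open CategoryTheory Limits MonoidalCategory CartesianMonoidalCategory MonObj AlgebraicGeometry Topology

namespace Groth.Agent.GITLib

variable {k : Type u} [Field k] {G X Y : Over (Spec (CommRingCat.of k))} [GrpObj G] {a : AlgGrp.Action G X}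
  {φ : X ⟶ Y}

local notation "k⋆" => 𝟙_ (Over (Spec (CommRingCat.of k)))

/-- The point of a rational point. -/
noncomputable abbrev img {Z : Over (Spec (CommRingCat.of k))} (z : k⋆ ⟶ Z) : Z.left :=
  z.left.base (IsLocalRing.closedPoint k)

theorem img_mem_range {Z : Over (Spec (CommRingCat.of k))} (z : k⋆ ⟶ Z) : img z ∈ Set.range z.left.base := ⟨_, rfl⟩

theorem left_apply_eq_img {Z : Over (Spec (CommRingCat.of k))} (z : k⋆ ⟶ Z) (t : (k⋆).left) :
    z.left.base t = img z := congr_arg _ (Subsingleton.elim (α := PrimeSpectrum k) t _)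

theorem range_eq_img {Z : Over (Spec (CommRingCat.of k))} (z : k⋆ ⟶ Z) : Set.range z.left.base = {img z} := by
  ext w
  refine ⟨?_, fun h => h ▸ img_mem_range z⟩
  rintro ⟨t, rfl⟩
  exact left_apply_eq_img z t

theorem isClosed_img {Z : Over (Spec (CommRingCat.of k))} (z : k⋆ ⟶ Z) : IsClosed ({img z} : Set Z.left) := by
  have : IsClosedImmersion z.left :=
    isClosedImmersion_of_comp_eq_id (Y := Spec (CommRingCat.of k)) Z.hom z.left (Over.w z)
  rw [← range_eq_img z]
  exact z.left.isClosedEmbedding.isClosed_range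

theorem img_comp {Z W : Over (Spec (CommRingCat.of k))} (z : k⋆ ⟶ Z) (f : Z ⟶ W) :
    img (z ≫ f) = f.left.base (img z) := rfl

theorem hom_left_comp_apply {A B C : Over (Spec (CommRingCat.of k))} (f : A ⟶ B) (g : B ⟶ C) (x : A.left) :
    (f ≫ g).left.base x = g.left.base (f.left.base x) := rfl

theorem exists_point [IsAlgClosed k] {Z : Over (Spec (CommRingCat.of k))} [LocallyOfFiniteType Z.hom] {z : Z.left}
    (hz : IsClosed ({z} : Set Z.left)) : ∃ p : k⋆ ⟶ Z, img p = z := by
  let p := (pointEquivClosedPoint Z.hom).symm ⟨z, hz⟩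
  refine ⟨Over.homMk p.1 p.2, ?_⟩
  exact congrArg Subtype.val ((pointEquivClosedPoint Z.hom).apply_symm_apply ⟨z, hz⟩)

/-- Rational points with the same image are equal. -/
theorem eq_of_img_eq {Z : Over (Spec (CommRingCat.of k))} {p q : k⋆ ⟶ Z} (h : img p = img q) : p = q := by
  refine Over.OverMorphism.ext ?_
  obtain ⟨⟨y, ρp⟩, hp⟩ := (Scheme.SpecToEquivOfField k Z.left).symm.surjective p.left
  obtain ⟨⟨y', ρq⟩, hq⟩ := (Scheme.SpecToEquivOfField k Z.left).symm.surjective q.left
  change Spec.map ρp ≫ Z.left.fromSpecResidueField y = p.left at hp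
  change Spec.map ρq ≫ Z.left.fromSpecResidueField y' = q.left at hq
  have hy : y = y' := by
    have e1 : img p = y := by
      show p.left.base _ = _
      rw [← hp, Scheme.Hom.comp_apply, Scheme.fromSpecResidueField_apply]
    have e2 : img q = y' := by
      show q.left.base _ = _
      rw [← hq, Scheme.Hom.comp_apply, Scheme.fromSpecResidueField_apply]
    rw [← e1, h, e2]
  subst hy
  let s : CommRingCat.of k ⟶ Z.left.residueField y := Spec.preimage (Z.left.fromSpecResidueField y ≫ Z.hom)
  have hs : ∀ ρ : Z.left.residueField y ⟶ CommRingCat.of k,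
      (Spec.map ρ ≫ Z.left.fromSpecResidueField y) ≫ Z.hom = 𝟙 _ → s ≫ ρ = 𝟙 _ := fun ρ e => Spec.map_injective (by
    rw [Spec.map_comp, Spec.map_preimage, Spec.map_id, ← Category.assoc, e])
  have h1 := hs ρp (by rw [hp]; exact Over.w p)
  have h2 := hs ρq (by rw [hq]; exact Over.w q)
  have hρ : ρp = ρq := CommRingCat.hom_ext (RingHom.ext fun c => by
    have e1 : ∀ t, ρp.hom (s.hom t) = t := fun t => congr($h1 t)
    have e2 : ∀ t, ρq.hom (s.hom t) = t := fun t => congr($h2 t)
    have hc : s.hom (ρp.hom c) = c := ρp.hom.injective (e1 _)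
    calc ρp.hom c = ρq.hom (s.hom (ρp.hom c)) := (e2 _).symm
      _ = ρq.hom c := by rw [hc])
  rw [← hp, ← hq, hρ]

/-- The closure of an invariant set is invariant. -/
theorem isInvariantSet_closure {W : Set X.left} (hW : NRQuot.IsInvariantSet a W) :
    NRQuot.IsInvariantSet a (closure W) := by
  intro p hp
  have : UniversallyOpen G.hom := inferInstance
  have hopen : IsOpenMap (snd G X).left.base := (pullback.snd G.hom X.hom).isOpenMap
  have h1 : p ∈ closure ((snd G X).left.base ⁻¹' W) := hopen.preimage_closure_subset_closure_preimage hp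
  exact map_mem_closure a.act.left.continuous h1 hW

theorem range_whiskerLeft {A B : Over (Spec (CommRingCat.of k))} (T : Over (Spec (CommRingCat.of k))) (f : A ⟶ B) :
    Set.range (T ◁ f).left.base = (snd T B).left.base ⁻¹' Set.range f.left.base := by
  have hp := (isPullback_whiskerLeft T f).flip
  have hs : Function.Surjective hp.isoPullback.hom.base := hp.isoPullback.hom.homeomorph.surjective
  rw [← hp.isoPullback_hom_fst, Scheme.Hom.comp_base, TopCat.coe_comp, hs.range_comp]
  exact Scheme.Pullback.range_fst _ _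

/-- Orbits are invariant. -/
theorem isInvariantSet_range_orbitMap (x : k⋆ ⟶ X) :
    NRQuot.IsInvariantSet a (Set.range (a.orbitMap x).left.base) := by
  intro p hp
  have hp' : p ∈ Set.range (G ◁ a.orbitMap x).left.base := by rwa [range_whiskerLeft]
  obtain ⟨z, rfl⟩ := hp'
  refine ⟨(fst G G * snd G G).left.base z, ?_⟩
  rw [← hom_left_comp_apply, ← hom_left_comp_apply]
  have hm : (fst G G * snd G G) ≫ a.orbitMap x = (G ◁ a.orbitMap x) ≫ a.act := by
    rw [show (G ◁ a.orbitMap x) = lift (fst G G) (snd G G ≫ a.orbitMap x) from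
      CartesianMonoidalCategory.hom_ext _ _ (by simp) (by simp), AlgGrp.Action.comp_orbitMap, a.lift_mul_act,
      AlgGrp.Action.comp_orbitMap]
  rw [hm]

theorem img_smul_mem (g : k⋆ ⟶ G) (x : k⋆ ⟶ X) :
    img (lift g x ≫ a.act) ∈ Set.range (a.orbitMap x).left.base := by
  refine ⟨img g, ?_⟩
  rw [← img_comp, AlgGrp.Action.comp_orbitMap, toUnit_unique (toUnit k⋆) (𝟙 _), Category.id_comp]

theorem img_mem_orbit (x : k⋆ ⟶ X) : img x ∈ Set.range (a.orbitMap x).left.base := by
  have := img_smul_mem (a := a) (1 : k⋆ ⟶ G) x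
  rwa [a.lift_one_act] at this

/-- A rational point in an orbit is a translate. -/
theorem exists_smul_eq [IsAlgClosed k] [LocallyOfFiniteType G.hom] {x y : k⋆ ⟶ X}
    (h : img y ∈ Set.range (a.orbitMap x).left.base) : ∃ g : k⋆ ⟶ G, lift g x ≫ a.act = y := by
  have := LocallyOfFiniteType.jacobsonSpace G.hom
  obtain ⟨z, hz, hzc⟩ := nonempty_inter_closedPoints (Z := (a.orbitMap x).left.base ⁻¹' {img y}) h
    ((isClosed_img y).preimage (a.orbitMap x).left.continuous).isLocallyClosed
  obtain ⟨g, hg⟩ := exists_point hzc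
  refine ⟨g, eq_of_img_eq ?_⟩
  rw [show lift g x ≫ a.act = g ≫ a.orbitMap x by
    rw [AlgGrp.Action.comp_orbitMap, toUnit_unique (toUnit k⋆) (𝟙 _), Category.id_comp], img_comp, hg]
  exact hz

theorem apply_eq_of_mem_closure_orbit (hi : GIT.IsInvariant a φ) {x : k⋆ ⟶ X} {w : X.left}
    (hw : w ∈ closure (Set.range (a.orbitMap x).left.base)) : φ.left.base w = img (x ≫ φ) := by
  refine closure_minimal (t := φ.left.base ⁻¹' {img (x ≫ φ)}) ?_ ((isClosed_img _).preimage φ.left.continuous) hw
  rintro _ ⟨g, rfl⟩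
  show φ.left.base _ = _
  rw [← hom_left_comp_apply, show a.orbitMap x ≫ φ = toUnit G ≫ x ≫ φ by
    rw [AlgGrp.Action.orbitMap, Category.assoc, hi, lift_snd_assoc, Category.assoc], hom_left_comp_apply]
  exact left_apply_eq_img (x ≫ φ) _

/-- Orbit closures in a fibre of a good quotient meet exactly when their images agree. -/
theorem closure_orbit_inter_nonempty_iff (h : NRQuot.IsGoodQuot a φ) (x₁ x₂ : k⋆ ⟶ X) :
    (closure (Set.range (a.orbitMap x₁).left.base) ∩ closure (Set.range (a.orbitMap x₂).left.base)).Nonempty ↔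
      x₁ ≫ φ = x₂ ≫ φ := by
  constructor
  · rintro ⟨w, h₁, h₂⟩
    exact eq_of_img_eq ((apply_eq_of_mem_closure_orbit h.inv h₁).symm.trans (apply_eq_of_mem_closure_orbit h.inv h₂))
  · intro e
    let W : ULift.{u} Bool → Set X.left := fun b =>
      closure (Set.range (a.orbitMap (if b.down then x₁ else x₂)).left.base)
    have hmem : img (x₁ ≫ φ) ∈ ⋂ b, φ.left.base '' (W b) := Set.mem_iInter.mpr fun ⟨b⟩ => by
      cases b
      · exact ⟨img x₂, subset_closure (img_mem_orbit x₂), by rw [← img_comp, e]⟩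
      · exact ⟨img x₁, subset_closure (img_mem_orbit x₁), rfl⟩
    rw [← h.inter _ W (fun _ => isClosed_closure) (fun _ => isInvariantSet_closure (isInvariantSet_range_orbitMap _))] at hmem
    obtain ⟨w, hw, -⟩ := hmem
    rw [Set.mem_iInter] at hw
    exact ⟨w, hw ⟨true⟩, hw ⟨false⟩⟩

/-- Closed orbits with the same image coincide. -/
theorem exists_smul_eq_of_closed [IsAlgClosed k] [LocallyOfFiniteType G.hom] [LocallyOfFiniteType X.hom]
    (h : NRQuot.IsGoodQuot a φ) {x₁ x₂ : k⋆ ⟶ X} (h₁ : IsClosed (Set.range (a.orbitMap x₁).left.base))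
    (h₂ : IsClosed (Set.range (a.orbitMap x₂).left.base)) (e : x₁ ≫ φ = x₂ ≫ φ) :
    ∃ g : k⋆ ⟶ G, lift g x₁ ≫ a.act = x₂ := by
  have hne := (closure_orbit_inter_nonempty_iff h x₁ x₂).mpr e
  rw [h₁.closure_eq, h₂.closure_eq] at hne
  have := LocallyOfFiniteType.jacobsonSpace X.hom
  obtain ⟨w, ⟨hw₁, hw₂⟩, hwc⟩ := nonempty_inter_closedPoints hne (h₁.inter h₂).isLocallyClosed
  obtain ⟨y, rfl⟩ := exists_point hwc
  obtain ⟨g₁, rfl⟩ := exists_smul_eq hw₁
  obtain ⟨g₂, hg₂⟩ := exists_smul_eq hw₂
  refine ⟨g₂⁻¹ * g₁, ?_⟩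
  rw [a.lift_mul_act, ← hg₂, ← a.lift_mul_act, inv_mul_cancel, a.lift_one_act]

theorem surjective_base (h : NRQuot.IsGoodQuot a φ) : Function.Surjective φ.left.base := by
  intro y
  have h0 := h.inter PEmpty (fun i => i.elim) (fun i => i.elim) (fun i => i.elim)
  rw [Set.iInter_of_empty, Set.iInter_of_empty, Set.image_univ] at h0
  exact h0.symm.subset trivial

theorem isQuotientMap_base (h : NRQuot.IsGoodQuot a φ) : Topology.IsQuotientMap φ.left.base := by
  refine Topology.isQuotientMap_iff_isClosed.mpr ⟨surjective_base h, fun U => ⟨fun hU => hU.preimage φ.left.continuous, fun hU => ?_⟩⟩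
  have hc := h.closed (φ.left.base ⁻¹' U) hU fun p hp => by
    show φ.left.base (a.act.left.base p) ∈ U
    rw [← hom_left_comp_apply, h.inv, hom_left_comp_apply]
    exact hp
  rwa [Set.image_preimage_eq _ (surjective_base h)] at hc

/-- Every fibre of a good quotient over a rational point contains a closed orbit. -/
theorem exists_closed_orbit [IsAlgClosed k] [IsAffine G.left] [LocallyOfFiniteType G.hom]
    [LocallyOfFiniteType X.hom] (h : NRQuot.IsGoodQuot a φ) (y : k⋆ ⟶ Y) :
    ∃ x : k⋆ ⟶ X, x ≫ φ = y ∧ IsClosed (Set.range (a.orbitMap x).left.base) := by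
  have := h.affine
  have := LocallyOfFiniteType.jacobsonSpace X.hom
  have := LocallyOfFiniteType.jacobsonSpace G.hom
  have := LocallyOfFiniteType.isLocallyNoetherian X.hom
  have := LocallyOfFiniteType.isLocallyNoetherian G.hom
  have : IsNoetherian G.left := ⟨⟩
  have : QuasiCompact G.hom := inferInstance
  let O : (k⋆ ⟶ X) → Set X.left := fun x => Set.range (a.orbitMap x).left.base
  let Fib : Set X.left := φ.left.base ⁻¹' {img y}
  obtain ⟨V, hV, hyV, -⟩ := AlgebraicGeometry.exists_isAffineOpen_mem_and_subset (x := img y) (U := ⊤) trivial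
  let W := φ.left ⁻¹ᵁ V
  have : IsAffine W.toScheme := hV.preimage φ.left
  have : IsNoetherian W.toScheme := ⟨⟩
  have hFW : Fib ⊆ W := fun w hw => by
    show φ.left.base w ∈ V
    rw [Set.mem_singleton_iff.mp hw]
    exact hyV
  let P : Set (TopologicalSpace.Closeds W.toScheme) := {C | ∃ x, x ≫ φ = y ∧ (C : Set W.toScheme) = W.ι.base ⁻¹' closure (O x)}
  have hP : P.Nonempty := by
    obtain ⟨w, hw, hwc⟩ := nonempty_inter_closedPoints (Z := Fib) (surjective_base h (img y))
      ((isClosed_img y).preimage φ.left.continuous).isLocallyClosed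
    obtain ⟨x, rfl⟩ := exists_point hwc
    exact ⟨⟨W.ι.base ⁻¹' closure (O x), isClosed_closure.preimage W.ι.continuous⟩, x,
      eq_of_img_eq ((img_comp x φ).trans (Set.mem_singleton_iff.mp hw)), rfl⟩
  obtain ⟨C, ⟨x, hx, hCx⟩, hmin⟩ := wellFounded_lt.has_min P hP
  have hOF : closure (O x) ⊆ Fib := fun w hw => by
    show φ.left.base w = img y
    rw [apply_eq_of_mem_closure_orbit h.inv hw, hx]
  have hdense : ∀ z : k⋆ ⟶ X, img z ∈ closure (O x) → closure (O z) = closure (O x) := by
    intro z hz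
    have hzφ : z ≫ φ = y := eq_of_img_eq ((img_comp z φ).trans (Set.mem_singleton_iff.mp (hOF hz)))
    have hsub : closure (O z) ⊆ closure (O x) := by
      refine closure_minimal ?_ isClosed_closure
      rintro _ ⟨g, rfl⟩
      have hinv := isInvariantSet_closure (isInvariantSet_range_orbitMap (a := a) x)
      have h2 : (lift (𝟙 G) (toUnit G ≫ z)).left.base g ∈ (snd G X).left.base ⁻¹' closure (O x) := by
        rw [Set.mem_preimage, ← hom_left_comp_apply, lift_snd, hom_left_comp_apply, left_apply_eq_img z]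
        exact hz
      exact hinv _ h2
    refine hsub.antisymm fun w hw => ?_
    by_contra hwz
    refine hmin ⟨W.ι.base ⁻¹' closure (O z), isClosed_closure.preimage W.ι.continuous⟩ ⟨z, hzφ, rfl⟩ ?_
    refine lt_of_le_of_ne (fun v hv => (Set.ext_iff.mp hCx v).mpr (hsub hv)) fun e => hwz ?_
    have h3 : (⟨w, hFW (hOF hw)⟩ : W.toScheme) ∈ (C : Set W.toScheme) := by rw [hCx]; exact hw
    rw [← e] at h3
    exact h3
  obtain ⟨S, hSf, hScl⟩ : ∃ S : Set G.left, S.Finite ∧ ∀ g : G.left, ∃ s ∈ S, s ⤳ g := by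
    refine ⟨genericPoints G.left, genericPoints.finite TopologicalSpace.NoetherianSpace.finite_irreducibleComponents,
      fun g => ?_⟩
    obtain ⟨ν, hν, hνg⟩ := FlatMor.GenericPts.exists_generic_specializes g
    exact ⟨ν, hν, hνg⟩
  have hgen : ∀ (z : k⋆ ⟶ X), ∀ w ∈ closure (O z), ∃ s ∈ S, (a.orbitMap z).left.base s ⤳ w := by
    intro z w hw
    have hsub : O z ⊆ ⋃ s ∈ S, closure {(a.orbitMap z).left.base s} := by
      rintro _ ⟨g, rfl⟩
      obtain ⟨s, hs, hsg⟩ := hScl g
      exact Set.mem_biUnion hs (specializes_iff_mem_closure.mp (hsg.map (a.orbitMap z).left.continuous))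
    have h2 := closure_minimal hsub (hSf.isClosed_biUnion fun s _ => isClosed_closure) hw
    simp only [Set.mem_iUnion] at h2
    obtain ⟨s, hs, hsw⟩ := h2
    exact ⟨s, hs, specializes_iff_mem_closure.mpr hsw⟩
  obtain ⟨s₀, hs₀, hmax⟩ := Finset.exists_maximalFor
    (fun s => closure ({(a.orbitMap x).left.base s} : Set X.left)) hSf.toFinset
    ((Set.Finite.toFinset_nonempty hSf).mpr ⟨_, (hScl (img (1 : k⋆ ⟶ G))).choose_spec.1⟩)
  let ν := (a.orbitMap x).left.base s₀
  refine ⟨x, hx, ?_⟩
  have hxO : ∀ z : k⋆ ⟶ X, img z ∈ closure (O x) → img z ∈ O x := by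
    intro z hz
    have hd := hdense z hz
    obtain ⟨t, -, ht⟩ := hgen z ν (hd.symm ▸ subset_closure ⟨s₀, rfl⟩)
    have htx : (a.orbitMap z).left.base t ∈ closure (O x) := hd ▸ subset_closure ⟨t, rfl⟩
    obtain ⟨s, hs, hst⟩ := hgen x _ htx
    have h1 : closure {ν} ⊆ closure {(a.orbitMap x).left.base s} :=
      specializes_iff_closure_subset.mp (hst.trans ht)
    have heq : (a.orbitMap z).left.base t = ν :=
      ht.antisymm ((specializes_iff_closure_subset.mpr (hmax (hSf.mem_toFinset.mpr hs) h1)).trans hst) |>.eq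
    obtain ⟨q, hq1, hq2⟩ := Scheme.Pullback.exists_preimage_pullback (f := (a.orbitMap z).left)
      (g := (a.orbitMap x).left) t s₀ heq
    let Q : Over (Spec (CommRingCat.of k)) := Over.mk (pullback.fst (a.orbitMap z).left (a.orbitMap x).left ≫ G.hom)
    have : LocallyOfFiniteType (a.orbitMap x).left := by
      have := GrpdLib.GrpOver.lfp_left (a.orbitMap x)
      infer_instance
    have : LocallyOfFiniteType Q.hom := inferInstanceAs (LocallyOfFiniteType (pullback.fst _ _ ≫ G.hom))
    have := LocallyOfFiniteType.jacobsonSpace Q.hom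
    obtain ⟨c, -, hcc⟩ := nonempty_inter_closedPoints (X := Q.left) ⟨q, Set.mem_univ q⟩ isClosed_univ.isLocallyClosed
    obtain ⟨p, -⟩ := exists_point (Z := Q) hcc
    let g₁ : k⋆ ⟶ G := p ≫ Over.homMk (pullback.fst _ _) rfl
    let g₂ : k⋆ ⟶ G := p ≫ Over.homMk (pullback.snd _ _) (by
      show pullback.snd _ _ ≫ G.hom = pullback.fst _ _ ≫ G.hom
      rw [show pullback.snd (a.orbitMap z).left (a.orbitMap x).left ≫ G.hom =
        (pullback.snd (a.orbitMap z).left (a.orbitMap x).left ≫ (a.orbitMap x).left) ≫ X.hom by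
          rw [Category.assoc, Over.w], ← pullback.condition, Category.assoc, Over.w])
    have hgg : g₁ ≫ a.orbitMap z = g₂ ≫ a.orbitMap x := by
      simp only [g₁, g₂, Category.assoc]
      congr 1
      exact Over.OverMorphism.ext pullback.condition
    have e1 : lift g₁ z ≫ a.act = lift g₂ x ≫ a.act := by
      rw [AlgGrp.Action.comp_orbitMap, AlgGrp.Action.comp_orbitMap, toUnit_unique (toUnit k⋆) (𝟙 _),
        Category.id_comp, Category.id_comp] at hgg
      exact hgg
    have e2 : lift (g₁⁻¹ * g₂) x ≫ a.act = z := by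
      rw [a.lift_mul_act, ← e1, ← a.lift_mul_act, inv_mul_cancel, a.lift_one_act]
    exact e2 ▸ img_smul_mem _ x
  have hlc : IsLocallyConstructible (O x) := by
    have := GrpdLib.GrpOver.lfp_left (a.orbitMap x)
    have := GrpdLib.GrpOver.quasiCompact_left (a.orbitMap x)
    have h2 := (a.orbitMap x).left.isLocallyConstructible_image (s := Set.univ) IsLocallyConstructible.univ
    rwa [Set.image_univ] at h2
  by_contra hne
  have hne' : (closure (O x) \ O x).Nonempty := by
    by_contra h0
    rw [Set.not_nonempty_iff_eq_empty, Set.sdiff_eq_empty] at h0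
    exact hne (closure_subset_iff_isClosed.mp h0)
  have hlc2 : IsLocallyConstructible (closure (O x) \ O x) := by
    have hcl : IsLocallyConstructible (closure (O x)) := by
      intro v
      obtain ⟨U, hU, hvU, -⟩ := AlgebraicGeometry.exists_isAffineOpen_mem_and_subset (x := v) (U := ⊤) trivial
      have : IsAffine U.toScheme := hU
      have : IsNoetherian U.toScheme := ⟨⟩
      have : TopologicalSpace.NoetherianSpace (U : Set X.left) := inferInstanceAs (TopologicalSpace.NoetherianSpace U.toScheme)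
      exact ⟨U, U.2.mem_nhds hvU, U.2, ConstrLib.isConstructible_of_isClosed (isClosed_closure.preimage continuous_subtype_val)⟩
    refine IsLocallyConstructible.inter hcl fun v => ?_
    obtain ⟨U, hU₁, hU₂, hU₃⟩ := hlc v
    exact ⟨U, hU₁, hU₂, isConstructible_compl.mpr hU₃⟩
  obtain ⟨U, hU, ⟨v, hvU, hv⟩, hsub⟩ := GrpScheme.ClosedImage.exists_open_inter_closure_subset' hlc2 hne'
  obtain ⟨c, ⟨hcU, hc⟩, hcc⟩ := nonempty_inter_closedPoints (Z := U ∩ closure (closure (O x) \ O x))
    ⟨v, hvU, subset_closure hv⟩ (hU.isLocallyClosed.inter isClosed_closure.isLocallyClosed)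
  obtain ⟨z, rfl⟩ := exists_point hcc
  obtain ⟨hz1, hz2⟩ := hsub ⟨hcU, hc⟩
  exact hz2 (hxO z hz1)

end Groth.Agent.GITLib
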