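import Groth.Agent.GITLib.Orbit
import Groth.Prelude.Def_W4c6nonredquotmfGoodQuot
import Mathlib.AlgebraicGeometry.OpenImmersion
import Mathlib.AlgebraicGeometry.Restrict

/-!
# Restriction of a good quotient to an open subscheme of the quotient
-/

set_option autoImplicit false

universe u

open CategoryTheory Limits MonoidalCategory CartesianMonoidalCategory MonObj AlgebraicGeometry

namespace Groth.Agent.GITLib

theorem bijective_appLE_of_isOpenImmersion {X Y : Scheme.{u}} (f : X ⟶ Y) [IsOpenImmersion f] {V' : Y.Opens}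
    {V : X.Opens} (e : V = f ⁻¹ᵁ V') (h : V' ≤ f.opensRange) :
    Function.Bijective (f.appLE V' V e.le) := by
  subst e
  rw [Scheme.Hom.appLE_eq_app]
  have := f.isIso_app V' h
  exact ConcreteCategory.bijective_of_isIso (f.app V')

theorem appLE_appLE_congr {A B B' C : Scheme.{u}} {f : A ⟶ B} {g : B ⟶ C} {f' : A ⟶ B'} {g' : B' ⟶ C}
    (e : f ≫ g = f' ≫ g') {U : C.Opens} {V : B.Opens} {V' : B'.Opens} {W : A.Opens}
    (h₁ : V ≤ g ⁻¹ᵁ U) (h₂ : W ≤ f ⁻¹ᵁ V) (h₁' : V' ≤ g' ⁻¹ᵁ U) (h₂' : W ≤ f' ⁻¹ᵁ V') (s : Γ(C, U)) :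
    f.appLE V W h₂ (g.appLE U V h₁ s) = f'.appLE V' W h₂' (g'.appLE U V' h₁' s) := by
  rw [← CommRingCat.comp_apply, ← CommRingCat.comp_apply, Scheme.Hom.appLE_comp_appLE,
    Scheme.Hom.appLE_comp_appLE]
  simp only [e]

/-- A good quotient restricts to a good quotient over every open of the quotient. -/
theorem isGoodQuot_restrict {S : Scheme.{u}} {G X Y : Over S} [GrpObj G] {a : AlgGrp.Action G X} {φ : X ⟶ Y}
    (h : NRQuot.IsGoodQuot a φ) (U : Y.left.Opens) {XU YU : Over S} {aU : AlgGrp.Action G XU}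
    (jU : XU ⟶ X) [IsOpenImmersion jU.left] (ιU : YU ⟶ Y) [IsOpenImmersion ιU.left] [Mono ιU]
    (hιU : Set.range ιU.left.base = U) (hjU : Set.range jU.left.base = φ.left.base ⁻¹' U)
    (haU : aU.act ≫ jU = (G ◁ jU) ≫ a.act) (φU : XU ⟶ YU) (hφU : φU ≫ ιU = jU ≫ φ) :
    NRQuot.IsGoodQuot aU φU := by
  have hsq : IsPullback φU.left jU.left ιU.left φ.left := by
    refine IsPullback.flip ?_
    refine IsPullback.of_iso_pullback ⟨congrArg CommaMorphism.left hφU.symm⟩ ?_ ?_ ?_
    · refine IsOpenImmersion.isoOfRangeEq jU.left (pullback.fst φ.left ιU.left) ?_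
      rw [Scheme.Pullback.range_fst, hjU, hιU]
    · exact IsOpenImmersion.isoOfRangeEq_hom_fac _ _ _
    · rw [← cancel_mono ιU.left, Category.assoc, ← pullback.condition,
        reassoc_of% (IsOpenImmersion.isoOfRangeEq_hom_fac jU.left (pullback.fst φ.left ιU.left)
          (by rw [Scheme.Pullback.range_fst, hjU, hιU]))]
      exact (congrArg CommaMorphism.left hφU).symm
  have hGj : IsOpenImmersion (G ◁ jU).left :=
    MorphismProperty.of_isPullback (P := @IsOpenImmersion) (isPullback_whiskerLeft G jU) inferInstance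
  have hrG : Set.range (G ◁ jU).left.base = (snd G X).left.base ⁻¹' (φ.left.base ⁻¹' U) := by
    rw [← hjU]
    have hp := (isPullback_whiskerLeft G jU).flip
    have hs : Function.Surjective hp.isoPullback.hom.base := hp.isoPullback.hom.homeomorph.surjective
    rw [← hp.isoPullback_hom_fst, Scheme.Hom.comp_base, TopCat.coe_comp, hs.range_comp]
    exact Scheme.Pullback.range_fst _ _
  have hcl : ∀ W : Set XU.left, NRQuot.IsInvariantSet aU W → NRQuot.IsInvariantSet a (jU.left.base '' W) := by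
    rintro W hW p ⟨w, hw, hwp⟩
    have hp : p ∈ Set.range (G ◁ jU).left.base := by
      rw [hrG, Set.mem_preimage, ← hwp, ← hjU]
      exact ⟨w, rfl⟩
    obtain ⟨q, rfl⟩ := hp
    have hq : jU.left.base ((snd G XU).left.base q) = (snd G X).left.base ((G ◁ jU).left.base q) :=
      congrArg (fun m : G ⊗ XU ⟶ X => m.left.base q) (whiskerLeft_snd G jU).symm
    have hw' : (snd G XU).left.base q ∈ W := jU.left.isOpenEmbedding.injective (hq.trans hwp.symm) ▸ hw
    exact ⟨_, hW q hw', congrArg (fun m : G ⊗ XU ⟶ X => m.left.base q) haU⟩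
  let C : Set XU.left → Set X.left := fun W => jU.left.base '' W ∪ (φ.left.base ⁻¹' U)ᶜ
  have hCcl : ∀ W, IsClosed W → IsClosed (C W) := by
    intro W hW
    have he : (C W)ᶜ = jU.left.base '' Wᶜ := by
      rw [Set.image_compl_eq_range_sdiff_image jU.left.isOpenEmbedding.injective, hjU]
      show (_ ∪ _)ᶜ = _
      rw [Set.compl_union, compl_compl, Set.inter_comm]
      rfl
    rw [← isOpen_compl_iff, he]
    exact jU.left.isOpenEmbedding.isOpenMap _ hW.isOpen_compl
  have hCinv : ∀ W, NRQuot.IsInvariantSet aU W → NRQuot.IsInvariantSet a (C W) := by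
    intro W hW p hp
    rcases hp with hp | hp
    · exact Or.inl (hcl W hW p hp)
    · refine Or.inr fun h1 => hp ?_
      have h2 : φ.left.base (a.act.left.base p) = φ.left.base ((snd G X).left.base p) :=
        congrArg (fun m : G ⊗ X ⟶ Y => m.left.base p) h.inv
      show φ.left.base _ ∈ U
      rw [← h2]
      exact h1
  have hcw : ∀ w, φ.left.base (jU.left.base w) = ιU.left.base (φU.left.base w) := fun w =>
    (congrArg (fun m : XU ⟶ Y => m.left.base w) hφU).symm
  have hmemU : ∀ y, ιU.left.base y ∈ U := fun y => hιU.subset ⟨y, rfl⟩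
  have himg : ∀ W, φU.left.base '' W = ιU.left.base ⁻¹' (φ.left.base '' C W) := by
    intro W
    ext y
    constructor
    · rintro ⟨w, hw, rfl⟩
      exact ⟨jU.left.base w, Or.inl ⟨w, hw, rfl⟩, hcw w⟩
    · rintro ⟨x, ⟨w, hw, rfl⟩ | hx, hxy⟩
      · exact ⟨w, hw, ιU.left.isOpenEmbedding.injective ((hcw w).symm.trans hxy)⟩
      · exact absurd (show φ.left.base x ∈ U from hxy ▸ hmemU y) hx
  refine ⟨?_, ?_, fun V => ?_, fun W hW hWi => ?_, fun J W hW hWi => ?_⟩
  · exact MorphismProperty.of_isPullback (P := @IsAffineHom) hsq.flip h.affine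
  · show aU.act ≫ φU = snd G XU ≫ φU
    rw [← cancel_mono ιU, Category.assoc, Category.assoc, hφU, reassoc_of% haU, h.inv, whiskerLeft_snd_assoc]
  · have hle : ιU.left ''ᵁ V ≤ U := fun y ⟨v, _, hv⟩ => hιU.subset ⟨v, hv⟩
    let V' := ιU.left ''ᵁ V
    have hV : V = ιU.left ⁻¹ᵁ V' := (ιU.left.preimage_image_eq V).symm
    let P' := φ.left ⁻¹ᵁ V'
    have hcomm : φU.left ≫ ιU.left = jU.left ≫ φ.left := congrArg CommaMorphism.left hφU
    have hP : φU.left ⁻¹ᵁ V = jU.left ⁻¹ᵁ P' := by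
      rw [hV, ← Scheme.Hom.comp_preimage, ← Scheme.Hom.comp_preimage, hcomm]
    have hα := bijective_appLE_of_isOpenImmersion ιU.left hV (fun y ⟨v, _, hv⟩ => ⟨v, hv⟩)
    have hβ := bijective_appLE_of_isOpenImmersion jU.left hP (fun x hx => hjU.symm.subset (hle hx))
    have hs : ∀ s, φU.left.app V (ιU.left.appLE V' V hV.le s) = jU.left.appLE P' _ hP.le (φ.left.app V' s) := by
      intro s
      rw [← Scheme.Hom.appLE_eq_app, ← Scheme.Hom.appLE_eq_app]
      exact appLE_appLE_congr hcomm hV.le le_rfl le_rfl hP.le s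
    let D := a.act.left ⁻¹ᵁ P' ⊓ (snd G X).left ⁻¹ᵁ P'
    have hact : aU.act.left ≫ jU.left = (G ◁ jU).left ≫ a.act.left := congrArg CommaMorphism.left haU
    have hsnd : (snd G XU).left ≫ jU.left = (G ◁ jU).left ≫ (snd G X).left :=
      congrArg CommaMorphism.left (whiskerLeft_snd G jU).symm
    have hD : aU.act.left ⁻¹ᵁ (φU.left ⁻¹ᵁ V) ⊓ (snd G XU).left ⁻¹ᵁ (φU.left ⁻¹ᵁ V) = (G ◁ jU).left ⁻¹ᵁ D := by
      rw [hP]
      change (aU.act.left ≫ jU.left) ⁻¹ᵁ P' ⊓ ((snd G XU).left ≫ jU.left) ⁻¹ᵁ P' = _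
      rw [hact, hsnd]
      rfl
    have hγ := bijective_appLE_of_isOpenImmersion (G ◁ jU).left hD (fun p hp => hrG.symm.subset (hle hp.2))
    have hinv : ∀ f : Γ(X.left, P'),
        GIT.IsInvSection aU φU V (jU.left.appLE P' _ hP.le f) ↔ GIT.IsInvSection a φ V' f := by
      intro f
      unfold GIT.IsInvSection
      rw [appLE_appLE_congr hact hP.le inf_le_left (inf_le_left : D ≤ a.act.left ⁻¹ᵁ P') hD.le,
        appLE_appLE_congr hsnd hP.le inf_le_right (inf_le_right : D ≤ (snd G X).left ⁻¹ᵁ P') hD.le]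
      exact hγ.1.eq_iff
    refine ⟨fun s t hst => ?_, ?_⟩
    · obtain ⟨s, rfl⟩ := hα.2 s
      obtain ⟨t, rfl⟩ := hα.2 t
      rw [hs, hs] at hst
      rw [(h.sections V').1 (hβ.1 hst)]
    · ext f
      constructor
      · rintro ⟨s, rfl⟩
        obtain ⟨s, rfl⟩ := hα.2 s
        rw [hs]
        exact (hinv _).mpr ((h.sections V').2.subset ⟨s, rfl⟩)
      · intro hf
        obtain ⟨f, rfl⟩ := hβ.2 f
        obtain ⟨s, rfl⟩ := (h.sections V').2.symm.subset ((hinv f).mp hf)
        exact ⟨ιU.left.appLE V' V hV.le s, hs s⟩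
  · rw [himg]
    exact (h.closed _ (hCcl W hW) (hCinv W hWi)).preimage ιU.left.continuous
  · refine subset_antisymm (Set.image_iInter_subset _ _) fun y hy => ?_
    rw [Set.mem_iInter] at hy
    have h1 : ιU.left.base y ∈ ⋂ i, φ.left.base '' C (W i) :=
      Set.mem_iInter.mpr fun i => (himg (W i)).subset (hy i)
    rw [← h.inter J (fun i => C (W i)) (fun i => hCcl _ (hW i)) (fun i => hCinv _ (hWi i))] at h1
    obtain ⟨x, hx, hxy⟩ := h1
    rw [Set.mem_iInter] at hx
    have hxU : x ∈ Set.range jU.left.base := by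
      rw [hjU, Set.mem_preimage, hxy]
      exact hmemU y
    obtain ⟨w, rfl⟩ := hxU
    refine ⟨w, Set.mem_iInter.mpr fun i => ?_, ιU.left.isOpenEmbedding.injective ((hcw w).symm.trans hxy)⟩
    rcases hx i with ⟨w', hw', e⟩ | h2
    · exact jU.left.isOpenEmbedding.injective e ▸ hw'
    · exact absurd (hjU.subset ⟨w, rfl⟩) h2

end Groth.Agent.GITLib
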