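import Groth.Agent.GITLib.HMTorusMax
import Groth.Agent.Borel50.ToralConj
import Groth.Agent.Borel50.Centralizer
import Groth.Agent.Borel50.GeomTorus
import Groth.Agent.MaxTorus.Factor
import Groth.Agent.MaxTorus.Fibre
import Groth.Agent.DiagRig.MaxSplit
import Groth.Agent.DiagRig.TorusQuot
import Groth.Agent.GrpScheme.Rosenlicht.Scheme
import Mathlib.LinearAlgebra.FreeModule.PID
import Mathlib.Algebra.QuadraticDiscriminant
import Mathlib.Analysis.SpecialFunctions.Pow.Real

/-!
# Boundedness of the normalised numerical function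

* additive functionals on a lattice are bounded by the norm of a positive definite rational form;
* one-parameter subgroups of a torus form a lattice;
* every one-parameter subgroup is conjugate to one in a given maximal torus.
-/

set_option autoImplicit false

universe u

open CategoryTheory Limits MonoidalCategory CartesianMonoidalCategory MonObj GrpObj AlgebraicGeometry
open scoped Matrix LaurentPolynomial

noncomputable section

namespace Groth.Agent.GITLib.HMBound

theorem exists_clear {σ : Type*} [Fintype σ] (x : σ → ℚ) : ∃ (N : ℕ) (n : σ → ℤ), N ≠ 0 ∧ ∀ i, (N : ℚ) * x i = n i := by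
  classical
  refine ⟨∏ i, (x i).den, fun i => (∏ j ∈ Finset.univ.erase i, ((x j).den : ℤ)) * (x i).num,
    Finset.prod_ne_zero_iff.2 fun i _ => (x i).den_nz, fun i => ?_⟩
  rw [← Finset.mul_prod_erase _ _ (Finset.mem_univ i)]
  push_cast
  rw [mul_comm ((x i).den : ℚ), _root_.mul_assoc, Rat.den_mul_eq_num]

/-- On a lattice, an additive functional is bounded by a multiple of the norm of a positive definite rational form. -/
theorem exists_bound {V : Type*} [AddCommGroup V] {σ : Type*} [Fintype σ] (Φ : V →+ (σ → ℤ))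
    (hΦ : Function.Injective Φ) (b : V → V → ℚ) (hb1 : ∀ x y z, b (x + y) z = b x z + b y z)
    (hb2 : ∀ x y, b x y = b y x) (hb3 : ∀ x, x ≠ 0 → 0 < b x x) (f : V →+ ℚ) :
    ∃ C : ℝ, 0 ≤ C ∧ ∀ v, |((f v : ℚ) : ℝ)| ≤ C * Real.sqrt ((b v v : ℚ) : ℝ) := by
  classical
  let Φl := Φ.toIntLinearMap
  obtain ⟨r, bb⟩ := Submodule.basisOfPid (Pi.basisFun ℤ σ) (LinearMap.range Φl)
  let e := bb.map (LinearEquiv.ofInjective Φl hΦ).symm
  let B : V →ₗ[ℤ] V →ₗ[ℤ] ℚ := LinearMap.mk₂ ℤ b hb1
    (fun c x z => map_zsmul (AddMonoidHom.mk' (fun x => b x z) fun a a' => hb1 a a' z) c x)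
    (fun x y z => by rw [hb2, hb1, hb2 y, hb2 z])
    (fun c x z => by
      rw [hb2, hb2 x z]
      exact map_zsmul (AddMonoidHom.mk' (fun w => b w x) fun a a' => hb1 a a' x) c z)
  let M : Matrix (Fin r) (Fin r) ℚ := fun i j => b (e i) (e j)
  let ev : (Fin r → ℤ) → V := fun n => ∑ i, n i • e i
  have hev : ∀ n m : Fin r → ℤ, b (ev n) (ev m) = (fun i => (n i : ℚ)) ⬝ᵥ M *ᵥ fun j => (m j : ℚ) := by
    intro n m
    show B (∑ i, n i • e i) (∑ j, m j • e j) = _
    simp only [map_sum, LinearMap.sum_apply, map_zsmul, LinearMap.smul_apply, Finset.smul_sum]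
    rw [Finset.sum_comm]
    simp only [dotProduct, Matrix.mulVec, Finset.mul_sum, zsmul_eq_mul]
    refine Finset.sum_congr rfl fun i _ => Finset.sum_congr rfl fun j _ => ?_
    show (m j : ℚ) * ((n i : ℚ) * b (e i) (e j)) = (n i : ℚ) * (b (e i) (e j) * (m j : ℚ))
    ring
  let q : (Fin r → ℚ) → ℚ := fun x => x ⬝ᵥ M *ᵥ x
  have hq : ∀ x, 0 ≤ q x ∧ (q x = 0 → x = 0) := by
    intro x
    obtain ⟨N, n, hN, hn⟩ := exists_clear x
    have h1 : b (ev n) (ev n) = (N : ℚ) ^ 2 * q x := by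
      rw [hev, show (fun i => (n i : ℚ)) = (N : ℚ) • x from funext fun i => (hn i).symm, Matrix.mulVec_smul,
        smul_dotProduct, dotProduct_smul, smul_eq_mul, smul_eq_mul, ← _root_.mul_assoc, sq]
    have hN2 : (0 : ℚ) < (N : ℚ) ^ 2 := by positivity
    by_cases hv : ev n = 0
    · have hn0 : ∀ i, n i = 0 := Fintype.linearIndependent_iff.1 e.linearIndependent n hv
      have hx : x = 0 := funext fun i => by
        have h := hn i
        rw [hn0, Int.cast_zero, mul_eq_zero] at h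
        exact h.resolve_left (by exact_mod_cast hN)
      exact ⟨by simp [q, hx], fun _ => hx⟩
    · have hpos := hb3 _ hv
      rw [h1] at hpos
      have hq0 := (pos_iff_pos_of_mul_pos hpos).1 hN2
      exact ⟨hq0.le, fun h => absurd h hq0.ne'⟩
  have hinj : Function.Injective (Matrix.mulVecLin M) := by
    rw [injective_iff_map_eq_zero]
    intro x hx
    refine (hq x).2 ?_
    show x ⬝ᵥ M *ᵥ x = 0
    rw [show M *ᵥ x = 0 from hx, dotProduct_zero]
  obtain ⟨w, hw⟩ := LinearMap.surjective_of_injective hinj (fun i => f (e i))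
  have hCS : ∀ x : Fin r → ℚ, (x ⬝ᵥ M *ᵥ w) ^ 2 ≤ q x * q w := by
    intro x
    have hsymm : w ⬝ᵥ M *ᵥ x = x ⬝ᵥ M *ᵥ w := by
      simp only [dotProduct, Matrix.mulVec, Finset.mul_sum]
      rw [Finset.sum_comm]
      refine Finset.sum_congr rfl fun i _ => Finset.sum_congr rfl fun j _ => ?_
      rw [show M j i = M i j from hb2 _ _]
      ring
    have h := discrim_le_zero (a := q w) (b := 2 * (x ⬝ᵥ M *ᵥ w)) (c := q x) fun t => by
      have h0 := (hq (x + t • w)).1
      simp only [q, Matrix.mulVec_add, Matrix.mulVec_smul, add_dotProduct, dotProduct_add, smul_dotProduct,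
        dotProduct_smul, smul_eq_mul, hsymm] at h0
      simp only [q]
      linarith
    simp only [discrim] at h
    linarith
  refine ⟨Real.sqrt (q w : ℝ), Real.sqrt_nonneg _, fun v => ?_⟩
  let n : Fin r → ℤ := fun i => e.repr v i
  have hv : ev n = v := e.sum_repr v
  have h2 : f v = (fun i => (n i : ℚ)) ⬝ᵥ M *ᵥ w := by
    conv_lhs => rw [← hv]
    rw [show M *ᵥ w = fun i => f (e i) from hw]
    simp [ev, dotProduct, map_sum, map_zsmul, zsmul_eq_mul]
  have h3 : (f v) ^ 2 ≤ b v v * q w := by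
    rw [h2, ← hv, hev]
    exact hCS _
  rw [← Real.sqrt_sq_eq_abs, ← Real.sqrt_mul (by exact_mod_cast (hq w).1)]
  refine Real.sqrt_le_sqrt ?_
  rw [mul_comm (q w : ℝ)]
  exact_mod_cast h3

open Groth.Agent.Borel50.Pts Groth.Agent.Borel50.Lin Groth.Agent.Borel50.Density

attribute [local instance] ptTop

variable {k : Type u} [Field k]

/-- The multiplicative group is a torus. -/
theorem isTorus_Gm (S : Scheme.{u}) : Red.IsTorus (Red.Gm S) := by
  let e : ℤ ≃+ (Fin 1 → ℤ) := (LinearEquiv.funUnique (Fin 1) ℤ ℤ).symm.toAddEquiv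
  let f := Red.DSmap S e.symm.toAddMonoidHom
  have : IsIso f := by
    have : IsIso ((CategoryTheory.Over.forget S).map f) := DiagRig.DSHom.isIso_DSmap _ e.symm.bijective
    exact isIso_of_reflects_iso f (CategoryTheory.Over.forget S)
  have : IsMonHom f := DiagRig.DSQuot.isMonHom_DSmap _
  have : IsMonHom (asIso f).hom := ‹IsMonHom f›
  exact DiagRig.MaxSplit.isTorus_split ⟨Grp.mkIso' (asIso f)⟩

/-- Tori over an algebraically closed field are commutative. -/
theorem isCommMonObj_torus [IsAlgClosed k] {T : Over (Spec (CommRingCat.of k))} [GrpObj T] (hT : Red.IsTorus T) :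
    IsCommMonObj T := by
  obtain ⟨_, _, hint, _, hcomm, -⟩ := TorusSch.torus_facts hT
  have : IsReduced (T ⊗ T).left := by
    have := GrpScheme.Rosenlicht.isIntegral_tensor T T
    infer_instance
  have : LocallyOfFiniteType (T ⊗ T).hom := by
    show LocallyOfFiniteType (pullback.fst T.hom T.hom ≫ T.hom)
    infer_instance
  have : IsSeparated T.hom := inferInstance
  refine ⟨Borel50.Centralizer.hom_ext _ _ fun x => ?_⟩
  rw [MonObj.mul_eq_mul, MonObj.comp_mul, braiding_hom_fst, braiding_hom_snd, MonObj.comp_mul, MonObj.comp_mul]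
  exact hcomm _ _

/-- The image of a one-parameter subgroup lies in a conjugate of a maximal torus. -/
theorem exists_conj_lift [IsAlgClosed k] {G T : Over (Spec (CommRingCat.of k))} [GrpObj G] [GrpObj T]
    (hG : Red.IsReductive G) (i : T ⟶ G) [IsMonHom i] (hi : Red.IsMaximalTorus i)
    (l : Red.Gm (Spec (CommRingCat.of k)) ⟶ G) [IsMonHom l] :
    ∃ (g : 𝟙_ (Over (Spec (CommRingCat.of k))) ⟶ G) (l' : Red.Gm (Spec (CommRingCat.of k)) ⟶ T),
      IsMonHom l' ∧ l = (toUnit _ ≫ g) * (l' ≫ i) * (toUnit _ ≫ g)⁻¹ := by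
  have := hG.1
  have := hG.2.1
  have : IsAffine G.left := isAffine_of_isAffineHom G.hom
  have := hi.2.1
  let gp := Borel50.GeomTorus.gp k
  have : IsIso gp := MaxTorus.isIso_geomPt _
  have : ConnectedSpace G.left := by
    have hc : ConnectedSpace (Red.bc gp G).left := (hG.2.2 _).2.2.1
    have : Surjective gp := Borel50.BaseChange.surjective_g gp
    exact FlatMor.GeomDescent.connectedSpace_of_surjective (pullback.fst G.hom gp) hc
  have hmax : AGF.IsMaxTorus i := by
    refine ⟨inferInstance, inferInstance, hi.2.2.1, fun T' _ j _ _ f hT' hf => ?_⟩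
    have := DiagRig.isMonHom_bcMap gp j
    have : IsIso ((Over.pullback gp).map f) :=
      (Borel50.GeomTorus.isMaxTorus_bc i hi).2.2.2 _ ((Over.pullback gp).map j) ((Over.pullback gp).map f)
        (AbSch51.TorusToProper.isTorus_bc gp hT') (by rw [← Functor.map_comp, hf])
    have h1 : IsIso ((Over.pullback gp).map f).left := inferInstanceAs (IsIso ((CategoryTheory.Over.forget _).map ((Over.pullback gp).map f)))
    have h2 : ((Over.pullback gp).map f).left ≫ pullback.fst _ _ = pullback.fst _ _ ≫ f.left := pullback.lift_fst _ _ _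
    have h3 : IsIso (pullback.fst T.hom gp ≫ f.left) := h2 ▸ inferInstance
    have : IsIso ((CategoryTheory.Over.forget _).map f) := IsIso.of_isIso_comp_left (pullback.fst T.hom gp) f.left
    exact isIso_of_reflects_iso f (CategoryTheory.Over.forget _)
  have := GrpScheme.HomFlat.isReduced_of_smooth G.hom
  have := Borel50.FixedPt.qc_G G
  obtain ⟨N, ⟨Φ⟩⟩ := exists_rep (G := G)
  obtain ⟨hTt, hTmax⟩ := Torus.maximal_range Φ hmax
  have hGm := isTorus_Gm (Spec (CommRingCat.of k))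
  obtain ⟨_, _, _, _, hcomm, hdense⟩ := TorusSch.torus_facts hGm
  obtain ⟨K, hK⟩ := Φ.exists_closure_subgroup (MonoidHom.range (G := Pt (Red.Gm (Spec (CommRingCat.of k)))) (ptHom l))
  have hKt : Φ.IsToral K := by
    refine ⟨hK ▸ isClosed_closure, hK ▸ (Borel50.Density.isPreconnected_range l).closure, ?_⟩
    obtain ⟨P, Q, hQP, hd⟩ := Φ.exists_diag_closure
      ((fun x => x ≫ l) '' {x : Pt (Red.Gm (Spec (CommRingCat.of k))) | ∃ n : ℕ, (n : k) ≠ 0 ∧ x ^ n = 1})
      (by
        rintro _ ⟨x, -, rfl⟩ _ ⟨y, -, rfl⟩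
        show ptHom l x * ptHom l y = ptHom l y * ptHom l x
        rw [← map_mul, hcomm, map_mul])
      (by
        rintro _ ⟨x, ⟨n, hn, hxn⟩, rfl⟩
        exact ⟨n, hn, show ptHom l x ^ n = 1 by rw [← map_pow, hxn, map_one]⟩)
    refine ⟨P, Q, hQP, fun x hx => hd x ?_⟩
    have hx' : x ∈ (K : Set (Pt G)) := hx
    rw [hK] at hx'
    refine closure_minimal ?_ isClosed_closure hx'
    rintro _ ⟨y, rfl⟩
    refine image_closure_subset_closure_image (continuous_comp l) ⟨y, ?_, rfl⟩
    rw [hdense]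
    trivial
  obtain ⟨T₁, hT₁, hKT₁, hT₁max⟩ := hKt.exists_maximal
  obtain ⟨g, hg⟩ := Borel50.ToralConj.toral_conj hT₁ hT₁max hTt hTmax
  have := Torus.isClosedImmersion_of_torus i hi.2.2.1
  have := Borel50.Conj.isMonHom_conjBy g l
  obtain ⟨l', hl'⟩ := Borel50.Pts.factor_of_points (AGF.conjBy g l) i fun w => by
    have hK' : w ≫ l ∈ (K : Set (Pt G)) := by
      rw [hK]; exact subset_closure ⟨w, rfl⟩
    have h2 : w ≫ AGF.conjBy g l ∈ (ptHom i).range := by
      rw [← hg]
      refine ⟨w ≫ l, hKT₁ hK', ?_⟩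
      show g * (w ≫ l) * g⁻¹ = w ≫ ((toUnit _ ≫ g) * l * (toUnit _ ≫ g)⁻¹)
      rw [MonObj.comp_mul, MonObj.comp_mul, GrpObj.comp_inv, ← Category.assoc,
        toUnit_unique (w ≫ toUnit _) (𝟙 _), Category.id_comp]
    obtain ⟨z, hz⟩ := h2
    exact mem_range_of_factor hz
  have : IsMonHom (l' ≫ i) := hl' ▸ inferInstance
  refine ⟨g⁻¹, l', DiagRig.MaxSplit.isMonHom_of_mono l' i, ?_⟩
  rw [hl', GrpObj.comp_inv, _root_.inv_inv]
  show l = (toUnit _ ≫ g)⁻¹ * ((toUnit _ ≫ g) * l * (toUnit _ ≫ g)⁻¹) * (toUnit _ ≫ g)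
  group

/-- The one-parameter subgroups of a torus are separated by finitely many exponents. -/
theorem exists_exponents [IsAlgClosed k] {T : Over (Spec (CommRingCat.of k))} [GrpObj T] (hT : Red.IsTorus T) :
    ∃ (σ : Type u) (_ : Fintype σ) (E : (Red.Gm (Spec (CommRingCat.of k)) ⟶ T) → σ → ℤ),
      (∀ l₁ l₂ : Red.Gm (Spec (CommRingCat.of k)) ⟶ T, IsMonHom l₁ → IsMonHom l₂ → E (l₁ * l₂) = E l₁ + E l₂) ∧
      ∀ l₁ l₂ : Red.Gm (Spec (CommRingCat.of k)) ⟶ T, IsMonHom l₁ → IsMonHom l₂ → E l₁ = E l₂ → l₁ = l₂ := by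
  classical
  obtain ⟨_, _, _, _, -, -⟩ := TorusSch.torus_facts hT
  obtain ⟨A, hA, e₀, he₀⟩ := AffGrp.Bridge.exists_iso T
  letI : HopfAlgebra k A := hA
  have : IsMonHom e₀.hom := he₀
  have hspan := TorusChars.span_eq_top e₀ hT
  have : Algebra.FiniteType k A := TorusSch.finiteType_of_model e₀
  obtain ⟨s, hs⟩ := (inferInstance : Algebra.FiniteType k A).out
  choose t ht ht' using fun a : A =>
    Submodule.mem_span_finite_of_mem_span (show a ∈ Submodule.span k {c : A | IsGroupLikeElem k c} from hspan ▸ trivial)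
  let χs : Finset A := s.biUnion t
  have hgl : ∀ c ∈ χs, IsGroupLikeElem k c := fun c hc => by
    obtain ⟨a, -, hca⟩ := Finset.mem_biUnion.1 hc
    exact ht a hca
  have hgen : Algebra.adjoin k (χs : Set A) = ⊤ := by
    refine top_le_iff.1 (hs ▸ Algebra.adjoin_le fun a ha => ?_)
    exact Algebra.span_le_adjoin k _ (Submodule.span_mono
      (fun c hc => Finset.mem_biUnion.2 ⟨a, ha, hc⟩) (ht' a))
  refine ⟨χs, inferInstance, fun l c => HMChar.expo e₀ l c, fun l₁ l₂ _ _ => funext fun c =>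
    HMChar.expo_mul e₀ (HMChar.hasExpo_of_isMonHom e₀ l₁) (HMChar.hasExpo_of_isMonHom e₀ l₂) (hgl _ c.2),
    fun l₁ l₂ _ _ h => ?_⟩
  obtain ⟨_, _, _, _, -, -⟩ := TorusSch.torus_facts (isTorus_Gm (Spec (CommRingCat.of k)))
  have hu : HMChar.algOf e₀ (HMChar.gU (HMChar.uT k) ≫ l₁) = HMChar.algOf e₀ (HMChar.gU (HMChar.uT k) ≫ l₂) :=
    AlgHom.ext_of_adjoin_eq_top hgen fun c hc => by
      rw [HMChar.hasExpo_of_isMonHom e₀ l₁ c (hgl c hc), HMChar.hasExpo_of_isMonHom e₀ l₂ c (hgl c hc)]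
      exact congrArg _ (congrFun h ⟨c, hc⟩)
  have hu' := congrArg (HMChar.θ e₀ k[T;T⁻¹]) (congrArg WithConv.toConv hu)
  simp only [HMChar.θ_algOf] at hu'
  refine Borel50.Centralizer.hom_ext _ _ fun w => ?_
  let s' : 𝟙_ (Over (Spec (CommRingCat.of k))) ⟶ FibrePts.Pt (k := k) k :=
    Over.homMk (𝟙 _) (by
      show 𝟙 _ ≫ Spec.map (CommRingCat.ofHom (algebraMap k k)) = 𝟙 _
      rw [Category.id_comp, Algebra.algebraMap_self, CommRingCat.ofHom_id, Spec.map_id])
  have hw : w = s' ≫ toUnit _ ≫ w := by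
    rw [← Category.assoc, toUnit_unique (s' ≫ toUnit _) (𝟙 _), Category.id_comp]
  rw [hw, ← HMChar.gU_zR (toUnit (FibrePts.Pt (k := k) k) ≫ w), HMChar.gU_eq]
  simp only [Category.assoc, hu']

end Groth.Agent.GITLib.HMBound
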