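import Groth.Agent.GITLib.FibrePts
import Groth.Agent.GITLib.TorusChars
import Mathlib.Algebra.Polynomial.Laurent

/-!
# Values of characters at points; exponents of one-parameter subgroups
-/

set_option autoImplicit false

universe u

open CategoryTheory Limits MonoidalCategory CartesianMonoidalCategory MonObj AlgebraicGeometry Opposite
open scoped TensorProduct LaurentPolynomial
open Groth.Agent.GITLib.FibrePts

noncomputable section

namespace Groth.Agent.GITLib.HMChar

variable {k : Type u} [Field k]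



/-- The unit attached to a point of `G_m`. -/
def zR {R : Type u} [CommRing R] [Algebra k R] (g : Pt (k := k) R ⟶ Red.Gm (Spec (CommRingCat.of k))) : Rˣ :=
  Units.map (gl R).toMonoidHom (GmPts.unitOfPt g)

theorem zR_map {R R' : Type u} [CommRing R] [Algebra k R] [CommRing R'] [Algebra k R'] (α : R →ₐ[k] R')
    (g : Pt (k := k) R ⟶ Red.Gm (Spec (CommRingCat.of k))) : zR (mapPt α ≫ g) = Units.map α.toRingHom.toMonoidHom (zR g) := by
  refine Units.ext ?_
  show gl R' (Red.gmFn (mapPt α ≫ g)) = α (gl R (Red.gmFn g))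
  rw [GmPts.gmFn_comp]
  exact gl_natural α _

theorem zR_mul {R : Type u} [CommRing R] [Algebra k R] (g g' : Pt (k := k) R ⟶ Red.Gm (Spec (CommRingCat.of k))) :
    zR (g * g') = zR g * zR g' := by
  rw [zR, GmPts.unitOfPt_mul, map_mul]
  rfl

theorem zR_one {R : Type u} [CommRing R] [Algebra k R] : zR (1 : Pt (k := k) R ⟶ Red.Gm (Spec (CommRingCat.of k))) = 1 := by
  rw [zR, GmPts.unitOfPt_one, map_one]

theorem zR_bijective {R : Type u} [CommRing R] [Algebra k R] :
    Function.Bijective (zR : (Pt (k := k) R ⟶ Red.Gm (Spec (CommRingCat.of k))) → Rˣ) := by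
  let e : Γ((Pt (k := k) R).left, ⊤) ≃* R := (RingEquiv.ofBijective (gl R) (gl_bijective R)).toMulEquiv
  exact (Units.mapEquiv e).bijective.comp (GmPts.equiv (Pt (k := k) R)).bijective

/-- The point of `G_m` attached to a unit. -/
def gU {R : Type u} [CommRing R] [Algebra k R] (v : Rˣ) : Pt (k := k) R ⟶ Red.Gm (Spec (CommRingCat.of k)) :=
  Function.surjInv zR_bijective.2 v

theorem zR_gU {R : Type u} [CommRing R] [Algebra k R] (v : Rˣ) : zR (gU (k := k) v) = v :=
  Function.surjInv_eq zR_bijective.2 v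

theorem gU_map {R R' : Type u} [CommRing R] [Algebra k R] [CommRing R'] [Algebra k R'] (α : R →ₐ[k] R') (v : Rˣ) :
    mapPt α ≫ gU v = gU (Units.map α.toRingHom.toMonoidHom v) :=
  zR_bijective.1 (by rw [zR_map, zR_gU, zR_gU])

theorem gU_zR {R : Type u} [CommRing R] [Algebra k R] (g : Pt (k := k) R ⟶ Red.Gm (Spec (CommRingCat.of k))) : gU (zR g) = g :=
  zR_bijective.1 (zR_gU _)

/-! ### Values of characters -/

variable {A : CommRingCat.{u}} [HopfAlgebra k A] {T : Over (Spec (CommRingCat.of k))} [GrpObj T]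
  (e₀ : (Spec A).asOver (Spec (CommRingCat.of k)) ≅ T) [IsMonHom e₀.hom]

/-- Points of `T` as algebra maps. -/
def θ (R : Type u) [CommRing R] [Algebra k R] : WithConv (A →ₐ[k] R) →* (Pt (k := k) R ⟶ T) where
  toFun α := Spec.mapMulEquiv α ≫ e₀.hom
  map_one' := by rw [map_one, MonObj.one_comp]
  map_mul' α β := by rw [map_mul, MonObj.mul_comp]

theorem θ_bijective (R : Type u) [CommRing R] [Algebra k R] : Function.Bijective (θ e₀ R) :=
  ⟨fun α β h => Spec.mapMulEquiv.injective ((cancel_mono e₀.hom).mp h), fun t => ⟨Spec.mapMulEquiv.symm (t ≫ e₀.inv),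
    (congrArg (· ≫ e₀.hom) (Spec.mapMulEquiv.apply_symm_apply _)).trans
      ((Category.assoc _ _ _).trans ((congrArg (t ≫ ·) e₀.inv_hom_id).trans (Category.comp_id t)))⟩⟩

/-- The algebra map of a point of `T`. -/
def algOf {R : Type u} [CommRing R] [Algebra k R] (t : Pt (k := k) R ⟶ T) : A →ₐ[k] R :=
  (Function.surjInv (θ_bijective e₀ R).2 t).ofConv

theorem θ_algOf {R : Type u} [CommRing R] [Algebra k R] (t : Pt (k := k) R ⟶ T) :
    θ e₀ R (WithConv.toConv (algOf e₀ t)) = t :=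
  Function.surjInv_eq (θ_bijective e₀ R).2 t

theorem algOf_θ {R : Type u} [CommRing R] [Algebra k R] (α : A →ₐ[k] R) :
    algOf e₀ (θ e₀ R (WithConv.toConv α)) = α :=
  congrArg WithConv.ofConv ((θ_bijective e₀ R).1 (θ_algOf e₀ (θ e₀ R (WithConv.toConv α))))

theorem θ_map {R R' : Type u} [CommRing R] [Algebra k R] [CommRing R'] [Algebra k R'] (β : R →ₐ[k] R')
    (α : A →ₐ[k] R) : mapPt β ≫ θ e₀ R (WithConv.toConv α) = θ e₀ R' (WithConv.toConv (β.comp α)) := by
  show mapPt β ≫ Spec.mapMulEquiv _ ≫ e₀.hom = Spec.mapMulEquiv _ ≫ e₀.hom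
  rw [← Category.assoc]
  refine congrArg (· ≫ e₀.hom) (Over.OverMorphism.ext ?_)
  show Spec.map (CommRingCat.ofHom β.toRingHom) ≫ Spec.map (CommRingCat.ofHom α.toRingHom) =
    Spec.map (CommRingCat.ofHom (β.comp α).toRingHom)
  rw [← Spec.map_comp]
  rfl

theorem algOf_map {R R' : Type u} [CommRing R] [Algebra k R] [CommRing R'] [Algebra k R'] (β : R →ₐ[k] R')
    (t : Pt (k := k) R ⟶ T) : algOf e₀ (mapPt β ≫ t) = β.comp (algOf e₀ t) := by
  conv_lhs => rw [← θ_algOf e₀ t, θ_map, algOf_θ]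

theorem algOf_mul {R : Type u} [CommRing R] [Algebra k R] (t t' : Pt (k := k) R ⟶ T) {χ : A}
    (hχ : IsGroupLikeElem k χ) : algOf e₀ (t * t') χ = algOf e₀ t χ * algOf e₀ t' χ := by
  conv_lhs => rw [← θ_algOf e₀ t, ← θ_algOf e₀ t', ← map_mul, ← WithConv.toConv_ofConv (_ * _), algOf_θ]
  rw [AlgHom.convMul_apply, hχ.comul_eq_tmul_self]
  simp

theorem algOf_one {R : Type u} [CommRing R] [Algebra k R] {χ : A} (hχ : IsGroupLikeElem k χ) :
    algOf e₀ (1 : Pt (k := k) R ⟶ T) χ = 1 := by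
  rw [← map_one (θ e₀ R), ← WithConv.toConv_ofConv (1 : WithConv (A →ₐ[k] R)), algOf_θ, AlgHom.convOne_apply,
    hχ.counit_eq_one, map_one]

/-! ### Exponents -/

/-- Units of Laurent polynomials over a field are monomials. -/
theorem exists_C_mul_T_of_isUnit {f : k[T;T⁻¹]} (hf : IsUnit f) : ∃ (c : k) (n : ℤ), f = LaurentPolynomial.C c * LaurentPolynomial.T n := by
  obtain ⟨g, hg⟩ := hf.exists_right_inv
  obtain ⟨a, p, hp⟩ := LaurentPolynomial.exists_T_pow f
  obtain ⟨b, q, hq⟩ := LaurentPolynomial.exists_T_pow g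
  have hpq : p * q = Polynomial.X ^ (a + b) := by
    apply Polynomial.toLaurent_injective
    rw [map_mul, hp, hq, Polynomial.toLaurent_X_pow, _root_.mul_mul_mul_comm, hg, _root_.one_mul, ← LaurentPolynomial.T_add]
    push_cast
    rfl
  obtain ⟨m, -, hm⟩ := (dvd_prime_pow Polynomial.prime_X (a + b)).mp ⟨q, hpq.symm⟩
  obtain ⟨w, hw⟩ := hm.symm
  obtain ⟨c, -, hc⟩ := Polynomial.isUnit_iff.mp w.isUnit
  refine ⟨c, (m : ℤ) - a, ?_⟩
  have h1 : f * LaurentPolynomial.T (a : ℤ) = LaurentPolynomial.C c * LaurentPolynomial.T (m : ℤ) := by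
    rw [← hp, ← hw, ← hc, map_mul, Polynomial.toLaurent_C, Polynomial.toLaurent_X_pow, mul_comm]
  rw [show f = f * LaurentPolynomial.T (a : ℤ) * LaurentPolynomial.T (-(a : ℤ)) by
    rw [_root_.mul_assoc, ← LaurentPolynomial.T_add, add_neg_cancel, LaurentPolynomial.T_zero, _root_.mul_one], h1,
    _root_.mul_assoc, ← LaurentPolynomial.T_add]
  rfl

variable (k) in
/-- The coordinate of `G_m` as a unit of the Laurent polynomials. -/
def uT : (k[T;T⁻¹])ˣ := (LaurentPolynomial.isUnit_T (R := k) 1).unit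

/-- Evaluation of a Laurent polynomial at a unit. -/
def evU {R : Type u} [CommRing R] [Algebra k R] (v : Rˣ) : k[T;T⁻¹] →ₐ[k] R :=
  AddMonoidAlgebra.lift k R ℤ ((Units.coeHom R).comp (zpowersHom Rˣ v))

theorem evU_T {R : Type u} [CommRing R] [Algebra k R] (v : Rˣ) (n : ℤ) :
    evU (k := k) v (LaurentPolynomial.T n) = ((v ^ n : Rˣ) : R) := by
  rw [evU]
  refine (AddMonoidAlgebra.lift_single _ _ _).trans ?_
  simp

theorem map_evU_uT {R : Type u} [CommRing R] [Algebra k R] (v : Rˣ) :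
    Units.map (evU (k := k) v).toRingHom.toMonoidHom (uT k) = v := by
  refine Units.ext ?_
  show evU (k := k) v (LaurentPolynomial.T 1) = v
  rw [evU_T, zpow_one]

theorem gU_eq {R : Type u} [CommRing R] [Algebra k R] (v : Rˣ) :
    gU (k := k) v = mapPt (evU v) ≫ gU (uT k) := by
  rw [gU_map, map_evU_uT]

theorem T_injective : Function.Injective (LaurentPolynomial.T : ℤ → k[T;T⁻¹]) :=
  fun m n h => AddMonoidAlgebra.single_left_injective (one_ne_zero (α := k)) h

open Classical in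
/-- The exponent of a one-parameter subgroup at a character. -/
def expo (l : Red.Gm (Spec (CommRingCat.of k)) ⟶ T) (χ : A) : ℤ :=
  if h : ∃ n : ℤ, algOf e₀ (gU (uT k) ≫ l) χ = LaurentPolynomial.T n then h.choose else 0

/-- `l` acts through the exponents. -/
def HasExpo (l : Red.Gm (Spec (CommRingCat.of k)) ⟶ T) : Prop :=
  ∀ χ : A, IsGroupLikeElem k χ → algOf e₀ (gU (uT k) ≫ l) χ = LaurentPolynomial.T (expo e₀ l χ)

theorem expo_eq {l : Red.Gm (Spec (CommRingCat.of k)) ⟶ T} {χ : A} {n : ℤ} (h : algOf e₀ (gU (uT k) ≫ l) χ = LaurentPolynomial.T n) :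
    expo e₀ l χ = n := by
  have hex : ∃ n : ℤ, algOf e₀ (gU (uT k) ≫ l) χ = LaurentPolynomial.T n := ⟨n, h⟩
  rw [expo, dif_pos hex]
  exact T_injective (hex.choose_spec.symm.trans h)

theorem hasExpo_of_isMonHom (l : Red.Gm (Spec (CommRingCat.of k)) ⟶ T) [IsMonHom l] : HasExpo e₀ l := by
  intro χ hχ
  have hu : IsUnit (algOf e₀ (gU (uT k) ≫ l) χ) := by
    refine IsUnit.of_mul_eq_one (algOf e₀ ((gU (uT k) ≫ l)⁻¹) χ) ?_
    rw [← algOf_mul e₀ _ _ hχ, mul_inv_cancel, algOf_one e₀ hχ]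
  obtain ⟨c, n, hn⟩ := exists_C_mul_T_of_isUnit hu
  have h1 : evU (k := k) (1 : kˣ) (algOf e₀ (gU (uT k) ≫ l) χ) = 1 := by
    rw [← AlgHom.comp_apply, ← algOf_map, ← Category.assoc, ← gU_eq,
      show gU (k := k) (1 : kˣ) = 1 from zR_bijective.1 ((zR_gU _).trans zR_one.symm), MonObj.one_comp,
      algOf_one e₀ hχ]
  rw [hn, map_mul, evU_T, one_zpow, Units.val_one, _root_.mul_one, show LaurentPolynomial.C c = algebraMap k k[T;T⁻¹] c from rfl,
    AlgHom.commutes] at h1
  simp only [Algebra.algebraMap_self, RingHom.id_apply] at h1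
  rw [h1, map_one, _root_.one_mul] at hn
  rw [hn, expo_eq e₀ hn]

theorem expo_mul {l₁ l₂ : Red.Gm (Spec (CommRingCat.of k)) ⟶ T} (h₁ : HasExpo e₀ l₁) (h₂ : HasExpo e₀ l₂) {χ : A}
    (hχ : IsGroupLikeElem k χ) : expo e₀ (l₁ * l₂) χ = expo e₀ l₁ χ + expo e₀ l₂ χ := by
  refine expo_eq e₀ ?_
  rw [MonObj.comp_mul, algOf_mul e₀ _ _ hχ, h₁ χ hχ, h₂ χ hχ, ← LaurentPolynomial.T_add]

theorem hasExpo_mul {l₁ l₂ : Red.Gm (Spec (CommRingCat.of k)) ⟶ T} (h₁ : HasExpo e₀ l₁) (h₂ : HasExpo e₀ l₂) : HasExpo e₀ (l₁ * l₂) :=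
  fun χ hχ => by
    rw [expo_mul e₀ h₁ h₂ hχ, MonObj.comp_mul, algOf_mul e₀ _ _ hχ, h₁ χ hχ, h₂ χ hχ, ← LaurentPolynomial.T_add]

/-- Values of characters along a one-parameter subgroup. -/
theorem algOf_gU {l : Red.Gm (Spec (CommRingCat.of k)) ⟶ T} (h : HasExpo e₀ l) {χ : A} (hχ : IsGroupLikeElem k χ) {R : Type u}
    [CommRing R] [Algebra k R] (v : Rˣ) : algOf e₀ (gU (k := k) v ≫ l) χ = ((v ^ expo e₀ l χ : Rˣ) : R) := by
  rw [gU_eq, Category.assoc, algOf_map, AlgHom.comp_apply, h χ hχ, evU_T]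

/-- The exponent depends only on the values at rational points. -/
theorem expo_congr [Infinite k] {l : Red.Gm (Spec (CommRingCat.of k)) ⟶ T} (h : HasExpo e₀ l) {χ χ' : A} (hχ : IsGroupLikeElem k χ)
    (hχ' : IsGroupLikeElem k χ') (he : ∀ t : Pt (k := k) k ⟶ T, algOf e₀ t χ = algOf e₀ t χ') :
    expo e₀ l χ = expo e₀ l χ' := by
  by_contra hne
  obtain ⟨s, hs⟩ : ∃ s : kˣ, s ^ (expo e₀ l χ - expo e₀ l χ') ≠ 1 := by
    set n := expo e₀ l χ - expo e₀ l χ' with hndef
    have hn0 : n ≠ 0 := by omega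
    by_contra hall
    push Not at hall
    have hall' : ∀ s : kˣ, s ^ n.natAbs = 1 := fun s => by
      rcases Int.natAbs_eq n with e | e
      · rw [← zpow_natCast, ← e]; exact hall s
      · have := hall s
        rw [e, zpow_neg, inv_eq_one, zpow_natCast] at this
        exact this
    have : (Set.univ : Set k) ⊆ insert (0 : k) {x | Polynomial.IsRoot (Polynomial.X ^ n.natAbs - 1) x} := by
      intro x _
      by_cases hx : x = 0
      · exact Or.inl hx
      · right
        have h' := congrArg Units.val (hall' (Units.mk0 x hx))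
        simp only [Units.val_pow_eq_pow_val, Units.val_mk0, Units.val_one] at h'
        show Polynomial.IsRoot _ x
        simp [h']
    refine Set.infinite_univ (Set.Finite.subset (Set.Finite.insert _ ?_) this)
    refine Polynomial.finite_setOf_isRoot ?_
    have hpos : n.natAbs ≠ 0 := Int.natAbs_ne_zero.mpr hn0
    simpa using (Polynomial.monic_X_pow_sub_C (1 : k) hpos).ne_zero
  apply hs
  have := he (gU s ≫ l)
  rw [algOf_gU e₀ h hχ, algOf_gU e₀ h hχ'] at this
  rw [zpow_sub, Units.ext this, mul_inv_cancel]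

end Groth.Agent.GITLib.HMChar
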