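import Groth.Agent.GITLib.HMChar
import Mathlib.LinearAlgebra.Dual.Lemmas
import Mathlib.RingTheory.Bialgebra.GroupLike

/-!
# Functions on the total space decompose along characters of a torus
-/

set_option autoImplicit false

universe u

open CategoryTheory Limits MonoidalCategory CartesianMonoidalCategory MonObj AlgebraicGeometry Opposite
open scoped TensorProduct LaurentPolynomial
open Groth.Agent.GITLib.FibrePts Groth.Agent.GITLib.HMChar

noncomputable section

namespace Groth.Agent.GITLib.HMDecomp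

variable {k : Type u} [Field k]

/-- The point `Spec k`. -/
def ε : 𝟙_ (Over (Spec (CommRingCat.of k))) ⟶ Pt (k := k) k :=
  Over.homMk (𝟙 (Spec (CommRingCat.of k))) (by
    show 𝟙 _ ≫ Spec.map (CommRingCat.ofHom (algebraMap k k)) = 𝟙 _
    simp)

theorem toUnit_ε (R : Type u) [CommRing R] [Algebra k R] : toUnit (Pt (k := k) R) ≫ ε = mapPt (Algebra.ofId k R) := by
  apply Over.OverMorphism.ext
  show _ ≫ 𝟙 _ = Spec.map (CommRingCat.ofHom (algebraMap k R))
  rw [Category.comp_id]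
  exact Over.w (toUnit (Pt (k := k) R))

theorem mapPt_ofId_comp {R R' : Type u} [CommRing R] [Algebra k R] [CommRing R'] [Algebra k R'] (α : R →ₐ[k] R') :
    mapPt α ≫ mapPt (Algebra.ofId k R) = mapPt (Algebra.ofId k R') := by
  rw [← mapPt_comp]
  exact congrArg mapPt (Subsingleton.elim _ _)

variable {G X T : Over (Spec (CommRingCat.of k))} [GrpObj G] [GrpObj T] {a : AlgGrp.Action G X}
  (B : GLinSh.LinBun G a) (i : T ⟶ G) [IsMonHom i]

/-- The action of `T` on the total space. -/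
def actT {T' : Over (Spec (CommRingCat.of k))} (t : T' ⟶ T) (v : T' ⟶ B.V) : T' ⟶ B.V :=
  lift (t ≫ i) v ≫ B.lift.act

omit [GrpObj T] [IsMonHom i] in
theorem comp_actT {T' T'' : Over (Spec (CommRingCat.of k))} (h : T'' ⟶ T') (t : T' ⟶ T) (v : T' ⟶ B.V) :
    h ≫ actT B i t v = actT B i (h ≫ t) (h ≫ v) := by
  rw [actT, actT, comp_lift_assoc, Category.assoc]

theorem actT_mul {T' : Over (Spec (CommRingCat.of k))} (t t' : T' ⟶ T) (v : T' ⟶ B.V) :
    actT B i (t * t') v = actT B i t (actT B i t' v) := by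
  rw [actT, MonObj.mul_comp, B.lift.lift_mul_act]
  rfl

theorem actT_one {T' : Over (Spec (CommRingCat.of k))} (v : T' ⟶ B.V) : actT B i 1 v = v := by
  rw [actT, MonObj.one_comp, B.lift.lift_one_act]

/-- A combination of translates of a function, at a point. -/
def comb (f : Γ(B.V.left, ⊤)) (c : (Pt (k := k) k ⟶ T) →₀ k) {R : Type u} [CommRing R] [Algebra k R]
    (v : Pt R ⟶ B.V) : R :=
  c.sum fun t r => algebraMap k R r * evTop f (actT B i (mapPt (Algebra.ofId k R) ≫ t) v)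

omit [GrpObj T] [IsMonHom i] in
theorem comb_map (f : Γ(B.V.left, ⊤)) (c : (Pt (k := k) k ⟶ T) →₀ k) {R R' : Type u} [CommRing R] [Algebra k R]
    [CommRing R'] [Algebra k R'] (α : R →ₐ[k] R') (v : Pt R ⟶ B.V) :
    comb B i f c (mapPt α ≫ v) = α (comb B i f c v) := by
  rw [comb, comb, map_finsuppSum]
  refine Finsupp.sum_congr fun t _ => ?_
  rw [map_mul, AlgHom.commutes, ← evTop_map f α, comp_actT, ← Category.assoc, mapPt_ofId_comp]

omit [GrpObj T] [IsMonHom i] in
theorem comb_hom {n : ℕ} {f : Γ(B.V.left, ⊤)} (hf : GLinSh.HasWeight B.atlas.chart n f)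
    (c : (Pt (k := k) k ⟶ T) →₀ k) {U : X.left.Opens} {y : Γ(B.V.left, B.π.left ⁻¹ᵁ U)}
    (hy : y ∈ B.atlas.chart U) {R : Type u} [CommRing R] [IsLocalRing R] [Algebra k R] (p : Pt R ⟶ X)
    (hp : ⊤ ≤ p.left ⁻¹ᵁ U) :
    ∃ C : R, ∀ (v : Pt R ⟶ B.V) (hv : v ≫ B.π = p),
      comb B i f c v = C * ev B.π y v (le_of_eq_comp hv hp) ^ n := by
  haveI := B.atlas.affine
  choose C hC using fun t : Pt (k := k) k ⟶ T => evTop_trFn_of_hasWeight B hf (ε ≫ t ≫ i) hy p hp
  refine ⟨c.sum fun t r => algebraMap k R r * C t, fun v hv => ?_⟩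
  rw [comb, Finsupp.sum, Finsupp.sum, Finset.sum_mul]
  refine Finset.sum_congr rfl fun t _ => ?_
  rw [_root_.mul_assoc, ← hC t v hv, evTop_trFn, ← Category.assoc (toUnit _), toUnit_ε, actT, Category.assoc]

variable {A : CommRingCat.{u}} [HopfAlgebra k A] (e₀ : (Spec A).asOver (Spec (CommRingCat.of k)) ≅ T)
  [IsMonHom e₀.hom]

omit [GrpObj T] [IsMonHom i] in
theorem tmul_decomp (hA : Submodule.span k {c : A | IsGroupLikeElem k c} = ⊤) {D : Type u} [CommRing D] [Algebra k D]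
    (P : A ⊗[k] D) : ∃ c : A →₀ D, (∀ χ ∈ c.support, IsGroupLikeElem k χ) ∧ P = c.sum fun χ b => χ ⊗ₜ[k] b := by
  classical
  have hadd : ∀ (c c' : A →₀ D), (c + c').sum (fun χ b => χ ⊗ₜ[k] b) =
      c.sum (fun χ b => χ ⊗ₜ[k] b) + c'.sum (fun χ b => χ ⊗ₜ[k] b) := fun c c' =>
    Finsupp.sum_add_index' (fun _ => TensorProduct.tmul_zero _ _) (fun _ _ _ => TensorProduct.tmul_add _ _ _)
  induction P using TensorProduct.induction_on with
  | zero => exact ⟨0, by simp, by simp⟩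
  | add x y hx hy =>
    obtain ⟨c, hc, rfl⟩ := hx
    obtain ⟨c', hc', rfl⟩ := hy
    exact ⟨c + c', fun χ hχ => (Finset.mem_union.mp (Finsupp.support_add hχ)).elim (hc χ) (hc' χ), (hadd c c').symm⟩
  | tmul q d =>
    have hq : q ∈ Submodule.span k {c : A | IsGroupLikeElem k c} := hA ▸ Submodule.mem_top
    induction hq using Submodule.span_induction generalizing d with
    | mem q hq =>
      exact ⟨Finsupp.single q d, fun χ hχ => (Finset.mem_singleton.mp (Finsupp.support_single_subset hχ)) ▸ hq,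
        (Finsupp.sum_single_index (TensorProduct.tmul_zero _ _)).symm⟩
    | zero => exact ⟨0, by simp, by simp⟩
    | add q q' _ _ hq hq' =>
      obtain ⟨c, hc, e⟩ := hq d
      obtain ⟨c', hc', e'⟩ := hq' d
      exact ⟨c + c', fun χ hχ => (Finset.mem_union.mp (Finsupp.support_add hχ)).elim (hc χ) (hc' χ),
        by rw [hadd, TensorProduct.add_tmul, e, e']⟩
    | smul r q _ hq =>
      obtain ⟨c, hc, e⟩ := hq (r • d)
      exact ⟨c, hc, by rw [TensorProduct.smul_tmul, e]⟩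

/-- The expansion of a function along finitely many characters. -/
theorem exists_expansion (hA : Submodule.span k {c : A | IsGroupLikeElem k c} = ⊤) [CompactSpace B.V.left]
    (f : Γ(B.V.left, ⊤)) :
    ∃ E : Finset A, (∀ χ ∈ E, IsGroupLikeElem k χ) ∧
      ∀ (R : Type u) [CommRing R] [IsLocalRing R] [Algebra k R] (v : Pt R ⟶ B.V), ∃ b : A → R,
        ∀ t : Pt R ⟶ T, evTop f (actT B i t v) = ∑ χ ∈ E, algOf e₀ t χ * b χ := by
  classical
  let V := B.V
  choose W hW hxW hWU using fun z : V.left =>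
    exists_isAffineOpen_mem_and_subset (x := z) (U := (⊤ : V.left.Opens)) trivial
  obtain ⟨Z, hZ⟩ := CompactSpace.elim_nhds_subcover (fun z => (W z : Set V.left))
    fun z => (W z).isOpen.mem_nhds (hxW z)
  have key : ∀ z : V.left, ∃ E : Finset A, (∀ χ ∈ E, IsGroupLikeElem k χ) ∧
      ∀ (R : Type u) [CommRing R] [IsLocalRing R] [Algebra k R] (v : Pt R ⟶ V),
        ⊤ ≤ v.left ⁻¹ᵁ W z → ∃ b : A → R, (∀ χ, χ ∉ E → b χ = 0) ∧
        ∀ t : Pt R ⟶ T, evTop f (actT B i t v) = ∑ χ ∈ E, algOf e₀ t χ * b χ := by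
    intro z
    letI algW : Algebra k Γ(V.left, W z) := (Spec.preimage ((hW z).fromSpec ≫ V.hom)).hom.toAlgebra
    let uW : Pt (k := k) Γ(V.left, W z) ⟶ V := Over.homMk (hW z).fromSpec (by
      show (hW z).fromSpec ≫ V.hom = Spec.map (Spec.preimage ((hW z).fromSpec ≫ V.hom))
      rw [Spec.map_preimage])
    let tu : Pt (k := k) (A ⊗[k] Γ(V.left, W z)) ⟶ T :=
      θ e₀ _ (WithConv.toConv Algebra.TensorProduct.includeLeft)
    let vu : Pt (k := k) (A ⊗[k] Γ(V.left, W z)) ⟶ V := mapPt Algebra.TensorProduct.includeRight ≫ uW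
    obtain ⟨c, hc, hP⟩ := tmul_decomp hA (evTop f (actT B i tu vu))
    refine ⟨c.support, hc, fun R _ _ _ v hv => ?_⟩
    have hr : Set.range v.left ⊆ Set.range (hW z).fromSpec := by
      rw [(hW z).range_fromSpec]
      rintro _ ⟨q, rfl⟩
      exact hv (Set.mem_univ q)
    let v₁ : Pt R ⟶ Pt (k := k) Γ(V.left, W z) := Over.homMk (@IsOpenImmersion.lift _ _ _ (hW z).fromSpec v.left (hW z).isOpenImmersion_fromSpec hr) (by
      show _ ≫ Spec.map (Spec.preimage ((hW z).fromSpec ≫ V.hom)) = _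
      rw [Spec.map_preimage]
      exact ((Category.assoc _ _ _).symm.trans (congrArg (· ≫ V.hom)
        (@IsOpenImmersion.lift_fac _ _ _ (hW z).fromSpec v.left (hW z).isOpenImmersion_fromSpec hr))).trans (Over.w v))
    obtain ⟨β, hβ⟩ := exists_mapPt v₁
    have hv₁ : mapPt β ≫ uW = v := by
      rw [hβ]
      exact Over.OverMorphism.ext (@IsOpenImmersion.lift_fac _ _ _ (hW z).fromSpec v.left (hW z).isOpenImmersion_fromSpec hr)
    refine ⟨fun χ => β (c χ), fun χ hχ => by simp only [Finsupp.notMem_support_iff.mp hχ, map_zero], fun t => ?_⟩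
    let ga : A ⊗[k] Γ(V.left, W z) →ₐ[k] R := Algebra.TensorProduct.lift (algOf e₀ t) β (fun _ _ => Commute.all _ _)
    have ht : mapPt ga ≫ tu = t := by
      rw [θ_map, Algebra.TensorProduct.lift_comp_includeLeft]
      exact θ_algOf e₀ t
    have hvu : mapPt ga ≫ vu = v := by
      rw [← Category.assoc, ← mapPt_comp, Algebra.TensorProduct.lift_comp_includeRight', hv₁]
    conv_lhs => rw [← ht, ← hvu, ← comp_actT, evTop_map, hP, map_finsuppSum]
    refine Finset.sum_congr rfl fun χ _ => ?_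
    simp [ga]
  choose E hE hb using key
  refine ⟨Z.biUnion E, fun χ hχ => ?_, fun R _ _ _ v => ?_⟩
  · obtain ⟨z, -, hz⟩ := Finset.mem_biUnion.mp hχ
    exact hE z χ hz
  · obtain ⟨z, hz, hzW⟩ := Set.mem_iUnion₂.mp (hZ.ge (Set.mem_univ (v.left (IsLocalRing.closedPoint R))))
    obtain ⟨b, hb0, hbt⟩ := hb z R v (le_preimage_of_closedPoint v hzW)
    refine ⟨b, fun t => (hbt t).trans ?_⟩
    exact Finset.sum_subset (fun χ hχ => Finset.mem_biUnion.mpr ⟨z, hz, hχ⟩)
      fun χ _ hχ => by rw [hb0 χ hχ, mul_zero]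

/-- **Decomposition of a function along characters.** -/
theorem exists_decomp [Infinite k] (hA : Submodule.span k {c : A | IsGroupLikeElem k c} = ⊤)
    [CompactSpace B.V.left] (f : Γ(B.V.left, ⊤)) :
    ∃ (N : ℕ) (χ : Fin N → A) (c : Fin N → ((Pt (k := k) k ⟶ T) →₀ k)), (∀ j, IsGroupLikeElem k (χ j)) ∧
      (∀ (R : Type u) [CommRing R] [IsLocalRing R] [Algebra k R] (v : Pt R ⟶ B.V),
        evTop f v = ∑ j, comb B i f (c j) v) ∧
      ∀ (l : Red.Gm (Spec (CommRingCat.of k)) ⟶ T), HasExpo e₀ l → ∀ (R : Type u) [CommRing R] [IsLocalRing R]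
        [Algebra k R] (s : Rˣ) (v : Pt R ⟶ B.V) (j : Fin N),
        comb B i f (c j) (actT B i (gU s ≫ l) v) = ((s ^ expo e₀ l (χ j) : Rˣ) : R) * comb B i f (c j) v := by
  classical
  obtain ⟨E, hE, hexp⟩ := exists_expansion B i e₀ hA f
  -- the functions on rational points
  let φ : {χ // χ ∈ E} → ((Pt (k := k) k ⟶ T) →* k) := fun χ =>
    { toFun := fun t => algOf e₀ t χ.1
      map_one' := algOf_one e₀ (hE χ.1 χ.2)
      map_mul' := fun t t' => algOf_mul e₀ t t' (hE χ.1 χ.2) }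
  let Φ : Finset ((Pt (k := k) k ⟶ T) →* k) := E.attach.image φ
  let N := Φ.card
  let eΦ : Fin N ≃ {q // q ∈ Φ} := Φ.equivFin.symm
  have hrep : ∀ j : Fin N, ∃ χ : {χ // χ ∈ E}, φ χ = (eΦ j).1 := fun j => by
    obtain ⟨χ, -, hχ⟩ := Finset.mem_image.mp (eΦ j).2
    exact ⟨χ, hχ⟩
  choose ρ hρ using hrep
  have hinj : Function.Injective (fun j : Fin N => (eΦ j).1) := Subtype.val_injective.comp eΦ.injective
  have hli : LinearIndependent k (fun (j : Fin N) (t : Pt (k := k) k ⟶ T) => (eΦ j).1 t) :=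
    (linearIndependent_monoidHom (Pt (k := k) k ⟶ T) k).comp _ hinj
  have htop : Submodule.span k (Set.range fun t : Pt (k := k) k ⟶ T => fun j : Fin N => (eΦ j).1 t) = ⊤ := by
    by_contra hne
    obtain ⟨ψ, hψ0, hψ⟩ := Submodule.exists_dual_map_eq_bot_of_lt_top (lt_top_iff_ne_top.mpr hne) inferInstance
    have hψt : ∀ t, ψ (fun j => (eΦ j).1 t) = 0 := fun t => by
      have : ψ (fun j => (eΦ j).1 t) ∈ Submodule.map ψ (Submodule.span k (Set.range fun t : Pt (k := k) k ⟶ T =>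
          fun j : Fin N => (eΦ j).1 t)) := Submodule.mem_map_of_mem (Submodule.subset_span ⟨t, rfl⟩)
      rwa [hψ, Submodule.mem_bot] at this
    refine hψ0 (LinearMap.pi_ext' fun j => LinearMap.ext_ring ?_)
    have hsum : ∀ z : Fin N → k, ψ z = ∑ j, z j * ψ (Pi.single j 1) := fun z => by
      conv_lhs => rw [pi_eq_sum_univ' z, map_sum]
      refine Finset.sum_congr rfl fun j _ => ?_
      rw [map_smul, smul_eq_mul]
    have h0 := Fintype.linearIndependent_iff.mp hli (fun j => ψ (Pi.single j 1)) (funext fun t => by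
      rw [Finset.sum_apply]
      refine Eq.trans ?_ (hψt t)
      rw [hsum (fun j => (eΦ j).1 t)]
      exact Finset.sum_congr rfl fun j _ => mul_comm _ _) j
    simpa using h0
  have hdual : ∀ j : Fin N, ∃ c : (Pt (k := k) k ⟶ T) →₀ k,
      ∀ j', (c.sum fun t r => r * (eΦ j').1 t) = if j' = j then 1 else 0 := fun j => by
    obtain ⟨c, hc⟩ := Finsupp.mem_span_range_iff_exists_finsupp.mp
      (htop ▸ Submodule.mem_top : (fun j' : Fin N => if j' = j then (1 : k) else 0) ∈ _)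
    refine ⟨c, fun j' => ?_⟩
    rw [← congrFun hc j', Finsupp.sum, Finsupp.sum, Finset.sum_apply]
    rfl
  choose c hc using hdual
  -- values of the combinations
  have hcomb : ∀ (R : Type u) [CommRing R] [IsLocalRing R] [Algebra k R] (v : Pt R ⟶ B.V) (b : A → R),
      (∀ t : Pt R ⟶ T, evTop f (actT B i t v) = ∑ χ ∈ E, algOf e₀ t χ * b χ) →
      ∀ (j : Fin N) (τ : Pt R ⟶ T), comb B i f (c j) (actT B i τ v) =
        ∑ χ ∈ E.attach.filter (fun χ => φ χ = (eΦ j).1), algOf e₀ τ χ.1 * b χ.1 := by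
    intro R _ _ _ v b hb j τ
    rw [comb]
    simp only [← actT_mul, hb, Finset.mul_sum]
    rw [Finsupp.sum, Finset.sum_comm, ← Finset.sum_attach E, Finset.sum_filter]
    refine Finset.sum_congr rfl fun χ _ => ?_
    have hφ : φ χ ∈ Φ := Finset.mem_image_of_mem _ (Finset.mem_attach _ _)
    obtain ⟨j', hj'⟩ : ∃ j', (eΦ j').1 = φ χ := ⟨eΦ.symm ⟨_, hφ⟩, by rw [Equiv.apply_symm_apply]⟩
    have h1 : ∀ t : Pt (k := k) k ⟶ T, algOf e₀ ((mapPt (Algebra.ofId k R) ≫ t) * τ) χ.1 =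
        algebraMap k R ((eΦ j').1 t) * algOf e₀ τ χ.1 := fun t => by
      rw [algOf_mul e₀ _ _ (hE χ.1 χ.2), algOf_map, AlgHom.comp_apply, hj']
      rfl
    simp only [h1, ← _root_.mul_assoc, ← map_mul]
    rw [← Finset.sum_mul, ← Finset.sum_mul, ← map_sum]
    rw [show ∑ t ∈ (c j).support, c j t * (eΦ j').1 t = _ from hc j j', hj'.symm]
    by_cases hjj : j' = j
    · subst hjj
      simp
    · rw [if_neg hjj, if_neg (fun h => hjj (hinj h)), map_zero, zero_mul, zero_mul]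
  refine ⟨N, fun j => (ρ j).1, c, fun j => hE _ (ρ j).2, fun R _ _ _ v => ?_, fun l hl R _ _ _ s v j => ?_⟩
  · obtain ⟨b, hb⟩ := hexp R v
    have h2 : ∀ j, comb B i f (c j) v = ∑ χ ∈ E.attach.filter (fun χ => φ χ = (eΦ j).1), b χ.1 := fun j => by
      have := hcomb R v b hb j 1
      rw [actT_one] at this
      rw [this]
      exact Finset.sum_congr rfl fun χ _ => by rw [algOf_one e₀ (hE χ.1 χ.2), _root_.one_mul]
    have h3 := hb 1
    rw [actT_one] at h3
    rw [h3, Finset.sum_congr rfl fun j _ => h2 j, ← Finset.sum_attach E]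
    rw [← Finset.sum_fiberwise_of_maps_to (g := fun χ => eΦ.symm ⟨φ χ, Finset.mem_image_of_mem _ (Finset.mem_attach _ _)⟩)
      (t := Finset.univ) (fun χ _ => Finset.mem_univ _)]
    refine Finset.sum_congr rfl fun j _ => ?_
    refine Finset.sum_congr (Finset.filter_congr fun χ _ => ?_) fun χ _ => by rw [algOf_one e₀ (hE χ.1 χ.2), _root_.one_mul]
    rw [Equiv.symm_apply_eq, Subtype.ext_iff]
  · obtain ⟨b, hb⟩ := hexp R v
    have h4 := hcomb R v b hb j 1
    rw [actT_one] at h4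
    rw [hcomb R v b hb j, h4, Finset.mul_sum]
    refine Finset.sum_congr rfl fun χ hχ => ?_
    rw [algOf_gU e₀ hl (hE χ.1 χ.2), algOf_one e₀ (hE χ.1 χ.2), _root_.one_mul,
      expo_congr e₀ hl (hE χ.1 χ.2) (hE _ (ρ j).2) fun t => by
        exact DFunLike.congr_fun ((Finset.mem_filter.mp hχ).2.trans (hρ j).symm) t]

end Groth.Agent.GITLib.HMDecomp
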