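import Groth.Agent.GITLib.HMLimit

/-!
# Transport of fibre weights along the action
-/

set_option autoImplicit false

universe u

open CategoryTheory Limits MonoidalCategory CartesianMonoidalCategory MonObj AlgebraicGeometry Opposite

namespace Groth.Agent.GITLib.HM

variable {S : Scheme.{u}} {G X : Over S} [GrpObj G] {a : AlgGrp.Action G X} (B : GLinSh.LinBun G a)

theorem lift_π_pt {T' : Over S} (h : T' ⟶ G) (v : T' ⟶ B.V) :
    (lift h v ≫ B.lift.act) ≫ B.π = lift h (v ≫ B.π) ≫ a.act := by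
  rw [Category.assoc, B.lift_π, lift_whiskerLeft_assoc]

/-- The value in admissible coordinates of a translate is a multiple, from the base, of the value. -/
theorem linear_eval {U U' : X.left.Opens} {y : Γ(B.V.left, B.π.left ⁻¹ᵁ U)} {y' : Γ(B.V.left, B.π.left ⁻¹ᵁ U')}
    (hy : y ∈ B.atlas.chart U) (hy' : y' ∈ B.atlas.chart U') {T' : Over S} (h : T' ⟶ G) (p : T' ⟶ X)
    (hp : ⊤ ≤ p.left ⁻¹ᵁ U) (hp' : ⊤ ≤ (lift h p ≫ a.act).left ⁻¹ᵁ U') :
    ∃ r : Γ(T'.left, ⊤), ∀ (v : T' ⟶ B.V), v ≫ B.π = p →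
      ∀ (h₁ : ⊤ ≤ v.left ⁻¹ᵁ (B.π.left ⁻¹ᵁ U)) (h₂ : ⊤ ≤ (lift h v ≫ B.lift.act).left ⁻¹ᵁ (B.π.left ⁻¹ᵁ U')),
        HMNum.evalFn B.π y' (lift h v ≫ B.lift.act) h₂ = r * HMNum.evalFn B.π y v h₁ := by
  obtain ⟨c, hc⟩ := B.lift_linear U U' y y' hy hy'
  have hb : ⊤ ≤ (lift h p).left ⁻¹ᵁ (a.act.left ⁻¹ᵁ U' ⊓ (snd G X).left ⁻¹ᵁ U) := by
    intro z hz
    refine ⟨hp' hz, ?_⟩
    show (lift h p ≫ snd G X).left z ∈ U
    rw [lift_snd]
    exact hp hz
  refine ⟨(lift h p).left.appLE _ ⊤ hb c, fun v hv h₁ h₂ => ?_⟩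
  have hv' : lift h v ≫ (G ◁ B.π) = lift h p := by rw [lift_whiskerLeft, hv]
  have hle : ⊤ ≤ (lift h v).left ⁻¹ᵁ (GLinSh.liftOpen a B.π U U') := by
    intro z hz
    refine ⟨?_, ?_⟩
    · show (lift h v ≫ (G ◁ B.π) ≫ a.act).left z ∈ U'
      rw [reassoc_of% hv']
      exact hp' hz
    · show (lift h v ≫ (G ◁ B.π) ≫ snd G X).left z ∈ U
      rw [reassoc_of% hv', lift_snd]
      exact hp hz
  have e := congrArg ((lift h v).left.appLE (GLinSh.liftOpen a B.π U U') ⊤ hle) hc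
  rw [map_mul] at e
  simp only [← CommRingCat.comp_apply, Scheme.Hom.appLE_comp_appLE, ← Over.comp_left] at e
  simp only [hv', lift_snd] at e
  exact e

/-- Fibre weights at translated fixed points. -/
theorem hasFibreWeight_translate {T : Over S} [Subsingleton T.left] [Nonempty T.left] (g₀ : T ⟶ G) (l l' : Red.Gm S ⟶ G)
    (hl' : ∀ (T' : Over S) (t : T' ⟶ T) (g : T' ⟶ Red.Gm S), (t ≫ g₀) * (g ≫ l') = (g ≫ l) * (t ≫ g₀))
    {x₀ : T ⟶ X} {w : ℤ} (hw : HMNum.HasFibreWeight B l (lift g₀ x₀ ≫ a.act) w) :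
    HMNum.HasFibreWeight B l' x₀ w := by
  obtain ⟨hfix, U', y', hy', hU', hval⟩ := hw
  have hfix' : HMNum.IsFixedBy a l' x₀ := by
    intro T' t g
    have e := hfix T' t g
    rw [comp_lift_assoc, ← a.lift_mul_act, ← hl', a.lift_mul_act] at e
    have e2 := congrArg (fun m => lift (t ≫ g₀)⁻¹ m ≫ a.act) e
    simp only [← a.lift_mul_act, inv_mul_cancel, inv_mul_cancel_left, a.lift_one_act] at e2
    exact e2
  obtain ⟨U, hxU, y, hy⟩ := B.atlas.cover (x₀.left (Classical.arbitrary T.left))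
  have hU : x₀.left ⁻¹ᵁ U = ⊤ := TopologicalSpace.Opens.ext (Set.eq_univ_of_forall fun z => by
    rw [Subsingleton.elim z (Classical.arbitrary T.left)]; exact hxU)
  refine ⟨hfix', U, y, hy, hU, fun T' t g v hv hgv => ?_⟩
  set v' := lift (t ≫ g₀) v ≫ B.lift.act with hv'def
  have hv' : v' ≫ B.π = t ≫ lift g₀ x₀ ≫ a.act := by
    rw [hv'def, lift_π_pt, hv, comp_lift_assoc]
  have hw' : lift (g ≫ l) v' ≫ B.lift.act = lift (t ≫ g₀) (lift (g ≫ l') v ≫ B.lift.act) ≫ B.lift.act := by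
    rw [hv'def, ← B.lift.lift_mul_act, ← B.lift.lift_mul_act, hl']
  have hgv' : (lift (g ≫ l) v' ≫ B.lift.act) ≫ B.π = t ≫ lift g₀ x₀ ≫ a.act := by
    rw [hw', lift_π_pt, hgv, comp_lift_assoc]
  have key := hval T' t g v' hv' hgv'
  have hp : ⊤ ≤ (t ≫ lift g₀ x₀ ≫ a.act).left ⁻¹ᵁ U' := le_of_eq (congrArg (t.left ⁻¹ᵁ ·) hU').symm
  have hback : ∀ u : T' ⟶ B.V, lift (t ≫ g₀)⁻¹ (lift (t ≫ g₀) u ≫ B.lift.act) ≫ B.lift.act = u := fun u => by
    rw [← B.lift.lift_mul_act, inv_mul_cancel, B.lift.lift_one_act]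
  have hp' : ⊤ ≤ (lift (t ≫ g₀)⁻¹ (t ≫ lift g₀ x₀ ≫ a.act) ≫ a.act).left ⁻¹ᵁ U := by
    rw [comp_lift_assoc, ← a.lift_mul_act, inv_mul_cancel, a.lift_one_act]
    exact le_of_eq (congrArg (t.left ⁻¹ᵁ ·) hU).symm
  obtain ⟨r, hr⟩ := linear_eval B hy' hy (t ≫ g₀)⁻¹ (t ≫ lift g₀ x₀ ≫ a.act) hp hp'
  have congrEval : ∀ (v₁ v₂ : T' ⟶ B.V) (h₁ : ⊤ ≤ v₁.left ⁻¹ᵁ (B.π.left ⁻¹ᵁ U))
      (h₂ : ⊤ ≤ v₂.left ⁻¹ᵁ (B.π.left ⁻¹ᵁ U)), v₁ = v₂ → HMNum.evalFn B.π y v₁ h₁ = HMNum.evalFn B.π y v₂ h₂ := by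
    intro v₁ v₂ h₁ h₂ e; subst e; rfl
  have r1 := hr _ hgv' (HMNum.top_le_preimage B.π hU' hgv') (by
    rw [hw', hback]; exact HMNum.top_le_preimage B.π hU hgv)
  have r2 := hr _ hv' (HMNum.top_le_preimage B.π hU' hv') (by
    rw [hback]; exact HMNum.top_le_preimage B.π hU hv)
  rw [congrEval _ _ _ (HMNum.top_le_preimage B.π hU hgv) (by rw [hw', hback]), key] at r1
  rw [congrEval _ _ _ (HMNum.top_le_preimage B.π hU hv) (hback v)] at r2
  rw [r1, r2]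
  ring

section Field

variable {k : Type u} [Field k] {G X : Over (Spec (CommRingCat.of k))} [GrpObj G] {a : AlgGrp.Action G X}
  (B : GLinSh.LinBun G a)

instance : Subsingleton (𝟙_ (Over (Spec (CommRingCat.of k)))).left :=
  inferInstanceAs (Subsingleton (PrimeSpectrum k))

instance : Nonempty (𝟙_ (Over (Spec (CommRingCat.of k)))).left :=
  inferInstanceAs (Nonempty (PrimeSpectrum k))

local notation "pt" => 𝟙_ (Over (Spec (CommRingCat.of k)))
local notation "Gm'" => Red.Gm (Spec (CommRingCat.of k))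

theorem conj_eq (g₀ : pt ⟶ G) (l l' : Gm' ⟶ G) (hl : (toUnit _ ≫ g₀) * l' = l * (toUnit _ ≫ g₀))
    (T' : Over (Spec (CommRingCat.of k))) (t : T' ⟶ pt) (g : T' ⟶ Gm') :
    (t ≫ g₀) * (g ≫ l') = (g ≫ l) * (t ≫ g₀) := by
  have h1 := congrArg (fun m => g ≫ m) hl
  simp only [MonObj.comp_mul, ← Category.assoc, toUnit_unique (g ≫ toUnit _) t] at h1
  exact h1

/-- The numerical function at a translated point. -/
theorem isMu_translate_iff (g₀ : pt ⟶ G) (l l' : Gm' ⟶ G) [IsMonHom l] [IsMonHom l']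
    (hl : (toUnit _ ≫ g₀) * l' = l * (toUnit _ ≫ g₀)) (x : pt ⟶ X) (m : ℤ) :
    HMNum.IsMu B l (lift g₀ x ≫ a.act) m ↔ HMNum.IsMu B l' x m := by
  have hl2 : (toUnit _ ≫ g₀⁻¹) * l = l' * (toUnit _ ≫ g₀⁻¹) := by
    rw [GrpObj.comp_inv, eq_mul_inv_iff_mul_eq, _root_.mul_assoc, ← hl, inv_mul_cancel_left]
  have e : ∀ z : pt ⟶ X, lift g₀⁻¹ (lift g₀ z ≫ a.act) ≫ a.act = z := fun z => by
    rw [← a.lift_mul_act, inv_mul_cancel, a.lift_one_act]
  have e' : ∀ z : pt ⟶ X, lift g₀ (lift g₀⁻¹ z ≫ a.act) ≫ a.act = z := fun z => by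
    rw [← a.lift_mul_act, mul_inv_cancel, a.lift_one_act]
  constructor
  · rintro ⟨y, hy, hw⟩
    refine ⟨lift g₀⁻¹ y ≫ a.act, ?_, ?_⟩
    · have := isLimitPt_translate a l' l g₀⁻¹ hl2 hy
      rwa [e] at this
    · refine hasFibreWeight_translate B g₀ l l' (conj_eq g₀ l l' hl) ?_
      rwa [e']
  · rintro ⟨y, hy, hw⟩
    refine ⟨lift g₀ y ≫ a.act, isLimitPt_translate a l l' g₀ hl hy, ?_⟩
    refine hasFibreWeight_translate B g₀⁻¹ l' l (conj_eq g₀⁻¹ l' l hl2) ?_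
    rwa [e]

/-- The numerical function at a point is that at its limit. -/
theorem isMu_iff_of_isLimitPt [IsSeparated X.hom] (l : Gm' ⟶ G) [IsMonHom l] {x y : pt ⟶ X}
    (hy : HMNum.IsLimitPt a l x y) (m : ℤ) : HMNum.IsMu B l x m ↔ HMNum.IsMu B l y m := by
  constructor
  · rintro ⟨y', hy', hw⟩
    obtain rfl := isLimitPt_unique a l hy hy'
    exact ⟨y, isLimitPt_of_isFixedBy a l hw.1, hw⟩
  · rintro ⟨y', hy', hw⟩
    obtain rfl := isLimitPt_unique a l (isLimitPt_of_isFixedBy a l (isFixedBy_of_isLimitPt a l hy)) hy'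
    exact ⟨y, hy, hw⟩

theorem ext_prod_A1 {P Y : Over (Spec (CommRingCat.of k))} [IsSeparated Y.hom] [Flat P.hom]
    {u v : P ⊗ HMNum.A1 (Spec (CommRingCat.of k)) ⟶ Y}
    (h : (P ◁ HMNum.incl _) ≫ u = (P ◁ HMNum.incl _) ≫ v) : u = v := by
  let i := HMNum.incl (Spec (CommRingCat.of k))
  have : IsSchemeTheoreticallyDominant i.left :=
    isSchemeTheoreticallyDominant_map k HMNum.plus.subtype Subtype.val_injective
  have : QuasiCompact i.left := by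
    have h1 : IsAffineHom (Magnet.AMon (ULift.{u} ℤ) ℤ).hom :=
      inferInstanceAs (IsAffineHom (Spec.map (CommRingCat.ofHom (algebraMap (ULift.{u} ℤ)
        (MonoidAlgebra (ULift.{u} ℤ) (Multiplicative ℤ))))))
    have h2 : IsAffineHom (Magnet.AMon (ULift.{u} ℤ) ↥HMNum.plus).hom :=
      inferInstanceAs (IsAffineHom (Spec.map (CommRingCat.ofHom (algebraMap (ULift.{u} ℤ)
        (MonoidAlgebra (ULift.{u} ℤ) (Multiplicative ↥HMNum.plus))))))
    have : IsAffineHom (Gm').hom :=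
      inferInstanceAs (IsAffineHom (pullback.snd (Magnet.AMon (ULift.{u} ℤ) ℤ).hom _))
    have : IsAffineHom (HMNum.A1 (Spec (CommRingCat.of k))).hom :=
      inferInstanceAs (IsAffineHom (pullback.snd (Magnet.AMon (ULift.{u} ℤ) ↥HMNum.plus).hom _))
    have : QuasiCompact (i.left ≫ (HMNum.A1 (Spec (CommRingCat.of k))).hom) := by
      rw [Over.w i]; infer_instance
    exact QuasiCompact.of_comp i.left (HMNum.A1 (Spec (CommRingCat.of k))).hom
  have H : IsPullback (snd P (Gm')).left (P ◁ i).left i.left (snd P (HMNum.A1 _)).left := by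
    refine IsPullback.of_bot (h₃₁ := P.hom) (v₂₁ := (fst P (HMNum.A1 _)).left) (v₂₂ := (HMNum.A1 _).hom) ?_ ?_ ?_
    · rw [← Over.comp_left, whiskerLeft_fst, Over.w]
      exact (IsPullback.of_hasPullback P.hom (Gm').hom).flip
    · rw [← Over.comp_left, ← Over.comp_left, whiskerLeft_snd]
    · exact (IsPullback.of_hasPullback P.hom (HMNum.A1 _).hom).flip
  have : Flat (snd P (HMNum.A1 (Spec (CommRingCat.of k)))).left :=
    inferInstanceAs (Flat (pullback.snd P.hom (HMNum.A1 (Spec (CommRingCat.of k))).hom))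
  have : IsSchemeTheoreticallyDominant (P ◁ i).left := IsSchemeTheoreticallyDominant.of_isPullback H
  exact Over.OverMorphism.ext (GrpScheme.Ext.ext_of_schematicallyDominant _ Y.hom
    (by rw [Over.w, Over.w]) (congrArg CommaMorphism.left h))

/-- The numerical function is not changed by a point of the parabolic subgroup. -/
theorem isMu_translate_of_mem_parabolic [IsSeparated G.hom] (l : Gm' ⟶ G) [IsMonHom l] (g₀ : pt ⟶ G)
    (fG : HMNum.A1 _ ⟶ G) (hfG : HMNum.incl _ ≫ fG = l * (toUnit _ ≫ g₀) * l⁻¹) (x : pt ⟶ X) (m : ℤ)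
    (h : HMNum.IsMu B l x m) : HMNum.IsMu B l (lift g₀ x ≫ a.act) m := by
  obtain ⟨y, hy, hw⟩ := h
  obtain ⟨fx, hfx, rfl, rfl⟩ := (isLimitPt_iff a l x y).mp hy
  have huniv : (fst (Gm') (HMNum.A1 _) ≫ HMNum.incl _ * snd _ _) ≫ fG =
      (fst _ _ ≫ l) * (snd _ _ ≫ fG) * (fst _ _ ≫ l)⁻¹ := by
    refine ext_prod_A1 ?_
    rw [← Category.assoc, MonObj.comp_mul, whiskerLeft_fst_assoc, whiskerLeft_snd, ← MonObj.mul_comp,
      Category.assoc, hfG]
    simp only [MonObj.comp_mul, GrpObj.comp_inv, whiskerLeft_fst_assoc, whiskerLeft_snd_assoc, hfG]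
    simp only [MonObj.mul_comp, ← Category.assoc, toUnit_unique (_ ≫ toUnit _) (toUnit _)]
    group
  have hconj : ∀ (T' : Over (Spec (CommRingCat.of k))) (g : T' ⟶ Gm') (b : T' ⟶ HMNum.A1 _),
      ((g ≫ HMNum.incl _) * b) ≫ fG = (g ≫ l) * (b ≫ fG) * (g ≫ l)⁻¹ := by
    intro T' g b
    have e := congrArg (fun q => lift g b ≫ q) huniv
    simpa only [← Category.assoc, MonObj.comp_mul, GrpObj.comp_inv, lift_fst, lift_snd] using e
  have hη : η ≫ fG = g₀ := by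
    have e := congrArg (fun q => η ≫ q) hfG
    simp only [← Category.assoc, IsMonHom.one_hom, MonObj.comp_mul, GrpObj.comp_inv, toUnit_unique (_ ≫ toUnit _) (𝟙 _),
      Category.id_comp] at e
    rw [e, ← show (1 : pt ⟶ G) = η by rw [Hom.one_def, toUnit_unique (toUnit pt) (𝟙 _), Category.id_comp],
      inv_one, _root_.one_mul, _root_.mul_one]
  have hγ : ∀ (T' : Over (Spec (CommRingCat.of k))) (t : T' ⟶ pt) (g : T' ⟶ Gm'),
      (g ≫ l) * (t ≫ HMNum.origin _ ≫ fG) = (t ≫ HMNum.origin _ ≫ fG) * (g ≫ l) := by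
    intro T' t g
    have e := hconj T' g (toUnit _ ≫ HMNum.origin _)
    rw [incl_mul_origin, Category.assoc] at e
    rw [toUnit_unique t (toUnit T')]
    exact mul_inv_eq_iff_eq_mul.mp e.symm
  refine ⟨lift (HMNum.origin _ ≫ fG) (HMNum.origin _ ≫ fx) ≫ a.act, ?_, ?_⟩
  · refine (isLimitPt_iff a l _ _).mpr ⟨lift fG fx ≫ a.act, fun T' g b => ?_, ?_, ?_⟩
    · rw [comp_lift_assoc, comp_lift_assoc, hfx, hconj, ← a.lift_mul_act, ← a.lift_mul_act, inv_mul_cancel_right]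
    · rw [comp_lift_assoc, hη]
    · rw [comp_lift_assoc]
  · refine hasFibreWeight_translate B (HMNum.origin _ ≫ fG)⁻¹ l l (fun T' t g => ?_) ?_
    · rw [GrpObj.comp_inv, inv_mul_eq_iff_eq_mul, ← _root_.mul_assoc, eq_mul_inv_iff_mul_eq, hγ]
    · rwa [← a.lift_mul_act, inv_mul_cancel, a.lift_one_act]

end Field

end Groth.Agent.GITLib.HM
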