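import Groth.Agent.GITLib.HMChar
import Groth.Agent.GITLib.HMWeight
import Groth.Agent.GITLib.DedekindTorsor
import Groth.Agent.SekLib.SpecPts

/-!
# Existence of limits under one-parameter subgroups of proper schemes
-/

set_option autoImplicit false

universe u

open CategoryTheory Limits MonoidalCategory CartesianMonoidalCategory MonObj AlgebraicGeometry Opposite
open scoped LaurentPolynomial
open Groth.Agent.GITLib.FibrePts Groth.Agent.GITLib.HMChar


noncomputable section

namespace Groth.Agent.GITLib.HMExtend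

/-! ### Points of the affine line -/

section A1

variable {S : Scheme.{u}} {T T' : Over S}

/-- The coordinate ring of the affine line over the integers. -/
abbrev A1Coord : Type u := MonoidAlgebra (ULift.{u} ℤ) (Multiplicative ↥HMNum.plus)

/-- The element `1` of `ℕ ⊆ ℤ`. -/
def gen1 : ↥HMNum.plus := ⟨1, AddSubmonoid.mem_multiples 1⟩

/-- The ring map of a point of the affine line. -/
def a1Hom (b : T ⟶ HMNum.A1 S) : A1Coord.{u} →+* Γ(T.left, ⊤) :=
  ((Scheme.ΓSpecIso (CommRingCat.of A1Coord.{u})).inv ≫ (b.left ≫ pullback.fst _ _).appTop).hom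

/-- The coordinate of a point of the affine line. -/
def a1Fn (b : T ⟶ HMNum.A1 S) : Γ(T.left, ⊤) :=
  a1Hom b (MonoidAlgebra.single (Multiplicative.ofAdd gen1) 1)

theorem a1Fn_comp (h : T' ⟶ T) (b : T ⟶ HMNum.A1 S) : a1Fn (h ≫ b) = h.left.appTop (a1Fn b) := rfl

theorem eq_toSpecΓ_map {Y : Scheme.{u}} (g : Y ⟶ Spec (CommRingCat.of A1Coord.{u})) :
    g = Y.toSpecΓ ≫ Spec.map ((Scheme.ΓSpecIso (CommRingCat.of A1Coord.{u})).inv ≫ g.appTop) := by
  rw [Spec.map_comp]
  simp [← Scheme.toSpecΓ_naturality_assoc]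

theorem exists_nsmul_gen1 (m : ↥HMNum.plus) : ∃ n : ℕ, m = n • gen1 := by
  obtain ⟨n, hn⟩ := m.2
  exact ⟨n, Subtype.ext hn.symm⟩

theorem a1Fn_injective : Function.Injective (a1Fn (S := S) (T := T)) := by
  intro b b' h
  have h' : a1Hom b = a1Hom b' := by
    refine MonoidAlgebra.ringHom_ext (fun r => ?_) (fun m => ?_)
    · exact congr($(RingHom.ext_int (((a1Hom b).comp MonoidAlgebra.singleOneRingHom).comp
        ULift.ringEquiv.symm.toRingHom) (((a1Hom b').comp MonoidAlgebra.singleOneRingHom).comp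
        ULift.ringEquiv.symm.toRingHom)) r.down)
    · obtain ⟨n, hn⟩ := exists_nsmul_gen1 m.toAdd
      have hm : MonoidAlgebra.single m (1 : ULift.{u} ℤ) =
          MonoidAlgebra.single (Multiplicative.ofAdd gen1) 1 ^ n := by
        rw [MonoidAlgebra.single_pow, one_pow]
        refine congrArg (MonoidAlgebra.single · (1 : ULift.{u} ℤ)) ?_
        rw [← ofAdd_nsmul, ← hn]
        rfl
      rw [hm, map_pow, map_pow]
      exact congrArg (· ^ n) h
  have h'' : CommRingCat.ofHom (a1Hom b) = CommRingCat.ofHom (a1Hom b') := congrArg _ h'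
  simp only [a1Hom, CommRingCat.ofHom_hom] at h''
  apply Over.OverMorphism.ext
  apply pullback.hom_ext
  · exact (eq_toSpecΓ_map _).trans ((congrArg (fun m => T.left.toSpecΓ ≫ Spec.map m) h'').trans
      (eq_toSpecΓ_map _).symm)
  · exact (Over.w b).trans (Over.w b').symm

theorem exists_a1Fn (r : Γ(T.left, ⊤)) : ∃ b : T ⟶ HMNum.A1 S, a1Fn b = r := by
  let μr : Multiplicative ↥HMNum.plus →* Γ(T.left, ⊤) :=
    { toFun := fun m => r ^ ((m.toAdd : ℤ)).toNat
      map_one' := by simp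
      map_mul' := fun m m' => by
        rw [← pow_add]
        refine congrArg (r ^ ·) ?_
        show ((m.toAdd : ℤ) + (m'.toAdd : ℤ)).toNat = _
        rw [Int.toNat_add ((HMNum.mem_plus_iff _).mp m.toAdd.2) ((HMNum.mem_plus_iff _).mp m'.toAdd.2)] }
  let φ : A1Coord.{u} →+* Γ(T.left, ⊤) :=
    MonoidAlgebra.liftNCRingHom ((Int.castRingHom _).comp (ULift.ringEquiv : ULift.{u} ℤ ≃+* ℤ).toRingHom) μr
      (fun _ _ => Commute.all _ _)
  let g : T.left ⟶ Spec (CommRingCat.of A1Coord.{u}) := T.left.toSpecΓ ≫ Spec.map (CommRingCat.ofHom φ)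
  refine ⟨Over.homMk (pullback.lift g T.hom (specULiftZIsTerminal.hom_ext _ _)) (pullback.lift_snd _ _ _), ?_⟩
  have hg : (Scheme.ΓSpecIso (CommRingCat.of A1Coord.{u})).inv ≫ g.appTop = CommRingCat.ofHom φ := by
    simp only [g, Scheme.Hom.comp_appTop, ← Scheme.ΓSpecIso_inv_naturality_assoc, Scheme.toSpecΓ_appTop]
    simp
  have h1 : a1Fn (Over.homMk (pullback.lift g T.hom (specULiftZIsTerminal.hom_ext _ _))
      (pullback.lift_snd _ _ _) : T ⟶ HMNum.A1 S) = φ (MonoidAlgebra.single (Multiplicative.ofAdd gen1) 1) := by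
    show ((pullback.lift g T.hom _ ≫ pullback.fst _ _).appTop) _ = _
    rw [pullback.lift_fst]
    exact congr($hg (MonoidAlgebra.single (Multiplicative.ofAdd gen1) 1))
  rw [h1]
  simp [φ, μr, gen1]

/-- The coordinate of a point of `G_m` seen in the affine line. -/
theorem a1Fn_incl (g : T ⟶ Red.Gm S) : a1Fn (g ≫ HMNum.incl S) = Red.gmFn g := by
  let φ := MonoidAlgebra.mapDomainAlgHom (ULift.{u} ℤ) (ULift.{u} ℤ) (AddMonoidHom.toMultiplicative HMNum.plus.subtype)
  have e : (g ≫ HMNum.incl S).left ≫ pullback.fst _ _ =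
      GmPts.specPt g ≫ Spec.map (CommRingCat.ofHom φ.toRingHom) := by
    simp only [Magnet.AMonS.map, GmPts.specPt, Over.comp_left, Over.pullback_map_left, Category.assoc]
    erw [pullback.lift_fst]
    rfl
  show ((g ≫ HMNum.incl S).left ≫ pullback.fst _ _).appTop _ = GmPts.ringHomOfPt g (GmPts.tPow 1)
  rw [e]
  refine (congr($(Scheme.Hom.comp_appTop _ _) _)).trans ?_
  refine congrArg (fun z => (GmPts.specPt g).appTop z) ?_
  refine (congr($(Scheme.ΓSpecIso_inv_naturality (CommRingCat.ofHom φ.toRingHom))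
    (MonoidAlgebra.single (Multiplicative.ofAdd gen1) 1))).symm.trans ?_
  exact congrArg (fun z => GmPts.coordIso.inv z) (MonoidAlgebra.mapDomain_single ..)

/-- The coordinate vanishes on the zero section. -/
theorem a1Fn_origin (t : T ⟶ 𝟙_ (Over S)) : a1Fn (t ≫ HMNum.origin S) = 0 := by
  let ψ := Magnet.faceAlgHom (ULift.{u} ℤ) HMNum.isFace_bot
  have e : (t ≫ HMNum.origin S).left ≫ pullback.fst _ _ =
      ((t ≫ η[Magnet.AMonS S ↥(⊥ : AddSubmonoid ℤ)]).left ≫ pullback.fst _ _) ≫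
        Spec.map (CommRingCat.ofHom ψ.toRingHom) := by
    simp only [HMNum.origin, Magnet.AMonS.faceMap, Over.comp_left, Over.pullback_map_left, Category.assoc]
    erw [pullback.lift_fst]
    rfl
  show ((t ≫ HMNum.origin S).left ≫ pullback.fst _ _).appTop _ = _
  rw [e]
  refine (congr($(Scheme.Hom.comp_appTop _ _) _)).trans ?_
  have h0 : ψ (MonoidAlgebra.single (Multiplicative.ofAdd gen1) 1) = 0 := by
    refine Magnet.faceAlgHom_single_of_not_mem _ _ gen1 ?_ _
    rw [AddSubmonoid.mem_bot]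
    show (1 : ℤ) ≠ 0
    omega
  have h1 := congr($(Scheme.ΓSpecIso_inv_naturality (CommRingCat.ofHom ψ.toRingHom))
    (MonoidAlgebra.single (Multiplicative.ofAdd gen1) 1))
  refine (congrArg (fun z => ((t ≫ η[Magnet.AMonS S ↥(⊥ : AddSubmonoid ℤ)]).left ≫ pullback.fst _ _).appTop z)
    h1.symm).trans ?_
  show ((t ≫ η[Magnet.AMonS S ↥(⊥ : AddSubmonoid ℤ)]).left ≫ pullback.fst _ _).appTop
    ((Scheme.ΓSpecIso _).inv (ψ _)) = 0
  rw [h0, map_zero]
  exact map_zero _

end A1

variable {k : Type u} [Field k]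

attribute [local instance] Groth.Agent.SekLib.secAlgebra

open Polynomial in
theorem valuationRing_polynomial (p : Ideal k[X]) [p.IsPrime] : ValuationRing (Localization.AtPrime p) := by
  have : IsPrincipalIdealRing (Localization.AtPrime p) := ⟨fun I => ⟨by
    obtain ⟨g, hg⟩ := (IsPrincipalIdealRing.principal (I.under k[X])).principal
    refine ⟨algebraMap k[X] (Localization.AtPrime p) g, ?_⟩
    rw [← IsLocalization.map_comap p.primeCompl (Localization.AtPrime p) I, hg, Ideal.submodule_span_eq,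
      Ideal.map_span, Set.image_singleton]⟩⟩
  infer_instance

open Polynomial in
/-- An orbit map extends to polynomials. -/
theorem exists_extend_polynomial {X : Over (Spec (CommRingCat.of k))} [IsProper X.hom]
    (o : Pt (k := k) k[T;T⁻¹] ⟶ X) :
    ∃ f : Pt (k := k) k[X] ⟶ X, mapPt Polynomial.toLaurentAlg ≫ f = o := by
  let K := FractionRing k[X]
  have hX : algebraMap k[X] K Polynomial.X ≠ 0 := by
    rw [Ne, ← map_zero (algebraMap k[X] K)]
    exact fun h => Polynomial.X_ne_zero (IsFractionRing.injective k[X] K h)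
  let φ : k[T;T⁻¹] →ₐ[k] K := evU (Units.mk0 _ hX)
  let j : k[X] →ₐ[k] K := IsScalarTower.toAlgHom k k[X] K
  have hφ : φ.comp Polynomial.toLaurentAlg = j := by
    refine Polynomial.algHom_ext ?_
    show φ (Polynomial.toLaurent Polynomial.X) = algebraMap k[X] K Polynomial.X
    rw [Polynomial.toLaurent_X, evU_T, zpow_one]
    rfl
  obtain ⟨ζ, hζ, hζx⟩ := exists_lift_of_point (CommRingCat.of k[X]) (fun p _ => valuationRing_polynomial p) K X
    (mapPt φ ≫ o).left (by
      refine (Over.w (mapPt φ ≫ o)).trans ?_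
      show Spec.map (CommRingCat.ofHom (algebraMap k K)) = _
      rw [← Spec.map_comp, ← CommRingCat.ofHom_comp]
      )
  refine ⟨Over.homMk ζ hζ, ?_⟩
  have hinj : Function.Injective φ := by
    rw [injective_iff_map_eq_zero]
    intro f hf
    obtain ⟨n, p, hp⟩ := LaurentPolynomial.exists_T_pow f
    have h1 : j p = 0 := by
      rw [← hφ, AlgHom.comp_apply]
      show φ (Polynomial.toLaurent p) = 0
      rw [hp, map_mul, hf, zero_mul]
    have h2 : p = 0 := IsFractionRing.injective k[X] K (h1.trans (map_zero _).symm)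
    rw [h2, map_zero] at hp
    exact (LaurentPolynomial.isUnit_T (n : ℤ)).mul_left_eq_zero.mp hp.symm
  have hdom : IsDominant (Spec.map (CommRingCat.ofHom φ.toRingHom)) := ⟨by
    refine PrimeSpectrum.denseRange_comap_iff_ker_le_nilRadical _ |>.mpr ?_
    show RingHom.ker φ.toRingHom ≤ _
    rw [(RingHom.injective_iff_ker_eq_bot φ.toRingHom).mp hinj]
    exact bot_le⟩
  have : IsDomain k[T;T⁻¹] := hinj.isDomain φ.toRingHom
  apply Over.OverMorphism.ext
  refine @ext_of_isDominant_of_isSeparated _ _ _ _ (inferInstanceAs (IsReduced (Spec (CommRingCat.of k[T;T⁻¹]))))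
    _ _ X.hom inferInstance ((Over.w _).trans (Over.w _).symm) (Spec.map (CommRingCat.ofHom φ.toRingHom)) hdom ?_
  refine Eq.trans ?_ hζx
  show Spec.map (CommRingCat.ofHom φ.toRingHom) ≫ Spec.map (CommRingCat.ofHom Polynomial.toLaurentAlg.toRingHom) ≫ ζ = _
  rw [← Category.assoc, ← Spec.map_comp, ← CommRingCat.ofHom_comp]
  refine congrArg (fun q => Spec.map (CommRingCat.ofHom q) ≫ ζ) ?_
  exact congrArg AlgHom.toRingHom hφ

/-- `G_m` is the spectrum of the Laurent polynomials. -/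
theorem exists_θG : ∃ θG : Red.Gm (Spec (CommRingCat.of k)) ⟶ Pt (k := k) k[T;T⁻¹],
    θG ≫ gU (uT k) = 𝟙 _ ∧ ∀ n : ℤ, θG.left.appTop ((Scheme.ΓSpecIso (CommRingCat.of k[T;T⁻¹])).inv (LaurentPolynomial.T n)) =
      ((GmPts.unitOfPt (𝟙 (Red.Gm (Spec (CommRingCat.of k)))) ^ n : _) : Γ((Red.Gm (Spec (CommRingCat.of k))).left, ⊤)ˣ) := by
  let Gm := Red.Gm (Spec (CommRingCat.of k))
  obtain ⟨θG, hθG⟩ := Groth.Agent.SekLib.exists_ptHom_eq (R := k) (A := k[T;T⁻¹]) (T := Gm)
    (evU (GmPts.unitOfPt (𝟙 Gm)))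
  have h : ∀ n : ℤ, θG.left.appTop ((Scheme.ΓSpecIso (CommRingCat.of k[T;T⁻¹])).inv (LaurentPolynomial.T n)) =
      ((GmPts.unitOfPt (𝟙 Gm) ^ n : _) : Γ(Gm.left, ⊤)ˣ) := fun n =>
    (DFunLike.congr_fun hθG (LaurentPolynomial.T n)).trans (evU_T _ n)
  refine ⟨θG, ?_, h⟩
  apply (GmPts.equiv Gm).injective
  refine Units.ext ?_
  show Red.gmFn (θG ≫ gU (uT k)) = Red.gmFn (𝟙 Gm)
  rw [GmPts.gmFn_comp]
  have h2 : Red.gmFn (gU (k := k) (uT k)) =
      (Scheme.ΓSpecIso (CommRingCat.of k[T;T⁻¹])).inv (LaurentPolynomial.T 1) := by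
    apply (gl_bijective (k := k) k[T;T⁻¹]).1
    show ((zR (gU (k := k) (uT k)) : (k[T;T⁻¹])ˣ) : k[T;T⁻¹]) = _
    rw [zR_gU]
    show _ = (Scheme.ΓSpecIso (CommRingCat.of k[T;T⁻¹])).hom ((Scheme.ΓSpecIso (CommRingCat.of k[T;T⁻¹])).inv _)
    rw [← CommRingCat.comp_apply, Iso.inv_hom_id]
    rfl
  rw [h2]
  refine (h 1).trans ?_
  rw [zpow_one]
  rfl

/-- **Orbit maps extend to the affine line.** -/
theorem exists_extension {X : Over (Spec (CommRingCat.of k))} [IsProper X.hom]
    (o : Red.Gm (Spec (CommRingCat.of k)) ⟶ X) :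
    ∃ f : HMNum.A1 (Spec (CommRingCat.of k)) ⟶ X, HMNum.incl _ ≫ f = o := by
  let Gm := Red.Gm (Spec (CommRingCat.of k))
  obtain ⟨f', hf'⟩ := exists_extend_polynomial (gU (uT k) ≫ o)
  obtain ⟨κ, hκ⟩ := Groth.Agent.SekLib.exists_ptHom_eq (R := k) (A := Polynomial k)
    (T := HMNum.A1 (Spec (CommRingCat.of k))) (Polynomial.aeval (a1Fn (𝟙 _)))
  obtain ⟨θG, hθG⟩ := Groth.Agent.SekLib.exists_ptHom_eq (R := k) (A := k[T;T⁻¹]) (T := Gm)
    (evU (GmPts.unitOfPt (𝟙 Gm)))
  refine ⟨κ ≫ f', ?_⟩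
  have h1 : θG ≫ gU (uT k) = 𝟙 Gm := by
    apply (GmPts.equiv Gm).injective
    refine Units.ext ?_
    show Red.gmFn (θG ≫ gU (uT k)) = Red.gmFn (𝟙 Gm)
    rw [GmPts.gmFn_comp]
    have h2 : Red.gmFn (gU (k := k) (uT k)) =
        (Scheme.ΓSpecIso (CommRingCat.of k[T;T⁻¹])).inv (LaurentPolynomial.T 1) := by
      apply (gl_bijective (k := k) k[T;T⁻¹]).1
      show ((zR (gU (k := k) (uT k)) : (k[T;T⁻¹])ˣ) : k[T;T⁻¹]) = _
      rw [zR_gU]
      show _ = (Scheme.ΓSpecIso (CommRingCat.of k[T;T⁻¹])).hom ((Scheme.ΓSpecIso (CommRingCat.of k[T;T⁻¹])).inv _)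
      rw [← CommRingCat.comp_apply, Iso.inv_hom_id]
      rfl
    rw [h2]
    refine (DFunLike.congr_fun hθG (LaurentPolynomial.T 1)).trans ?_
    rw [evU_T, zpow_one]
    rfl
  have h3 : θG ≫ mapPt Polynomial.toLaurentAlg = HMNum.incl _ ≫ κ := by
    apply Groth.Agent.SekLib.ptHom_injective
    refine (Groth.Agent.SekLib.ptHom_comp θG Polynomial.toLaurentAlg (mapPt Polynomial.toLaurentAlg) rfl).trans ?_
    refine Polynomial.algHom_ext ?_
    rw [AlgHom.comp_apply, hθG, Groth.Agent.SekLib.ptHom_comp_left, hκ, Polynomial.aeval_X, ← a1Fn_comp,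
      Category.comp_id]
    show evU _ (Polynomial.toLaurent Polynomial.X) = _
    rw [Polynomial.toLaurent_X, evU_T, zpow_one, ← Category.id_comp (HMNum.incl _), a1Fn_incl]
    rfl
  rw [← reassoc_of% h3, hf', ← Category.assoc, h1, Category.id_comp]

variable {G X : Over (Spec (CommRingCat.of k))} [GrpObj G] (a : AlgGrp.Action G X)

/-- **Limits exist in proper schemes.** -/
theorem exists_isLimitPt [IsProper X.hom] (l : Red.Gm (Spec (CommRingCat.of k)) ⟶ G) [IsMonHom l]
    (x : 𝟙_ (Over (Spec (CommRingCat.of k))) ⟶ X) : ∃ y, HMNum.IsLimitPt a l x y := by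
  let Gm := Red.Gm (Spec (CommRingCat.of k))
  obtain ⟨f, hf⟩ := exists_extension (lift l (toUnit Gm ≫ x) ≫ a.act)
  have hg : ∀ {T' : Over (Spec (CommRingCat.of k))} (g : T' ⟶ Gm),
      (g ≫ HMNum.incl _) ≫ f = lift (g ≫ l) (toUnit T' ≫ x) ≫ a.act := fun g => by
    rw [Category.assoc, hf, comp_lift_assoc, ← Category.assoc, toUnit_unique (g ≫ toUnit _) (toUnit _)]
  have huniv : ((fst Gm (HMNum.A1 _) ≫ HMNum.incl _) * snd _ _) ≫ f =
      lift (fst _ _ ≫ l) (snd _ _ ≫ f) ≫ a.act := by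
    refine HM.ext_prod_A1 ?_
    rw [← Category.assoc, MonObj.comp_mul, whiskerLeft_fst_assoc, whiskerLeft_snd, ← MonObj.mul_comp, hg,
      MonObj.mul_comp, a.lift_mul_act, ← hg, comp_lift_assoc, whiskerLeft_fst_assoc, whiskerLeft_snd_assoc,
      Category.assoc]
  have hη : η ≫ f = x := by
    have h1 : (η : 𝟙_ _ ⟶ Gm) ≫ HMNum.incl _ = η := IsMonHom.one_hom (HMNum.incl _)
    rw [← h1, hg, IsMonHom.one_hom, toUnit_unique (toUnit _) (𝟙 _), Category.id_comp,
      show (η : 𝟙_ _ ⟶ G) = 1 by rw [Hom.one_def, toUnit_unique (toUnit _) (𝟙 _), Category.id_comp],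
      a.lift_one_act]
  refine ⟨HMNum.origin _ ≫ f, (HM.isLimitPt_iff a l x _).mpr ⟨f, fun T' g b => ?_, hη, rfl⟩⟩
  have e := congrArg (fun q => lift g b ≫ q) huniv
  simp only [MonObj.comp_mul_assoc, lift_fst_assoc, lift_snd, comp_lift_assoc, lift_snd_assoc] at e
  rw [← Category.assoc (lift g b) (fst _ _), lift_fst, lift_snd] at e
  exact e

/-! ### The local ring of the origin -/

variable (k) in
/-- The kernel of evaluation at the origin. -/
abbrev P0 : Ideal (Polynomial k) := RingHom.ker (Polynomial.aeval (0 : k) : Polynomial k →ₐ[k] k)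

instance : (P0 k).IsPrime := RingHom.ker_isPrime _

variable (k) in
/-- The local ring of the affine line at the origin. -/
abbrev Lo : Type u := Localization.AtPrime (P0 k)

variable (k) in
/-- The residue map at the origin. -/
def π0 : Lo k →ₐ[k] k :=
  IsLocalization.liftAlgHom (M := (P0 k).primeCompl) (f := Polynomial.aeval (0 : k)) fun y =>
    isUnit_iff_ne_zero.mpr fun h => y.2 h

variable (k) in
/-- The local ring of the origin inside the rational functions. -/
def ι0 : Lo k →ₐ[k] FractionRing (Polynomial k) :=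
  IsLocalization.liftAlgHom (M := (P0 k).primeCompl)
    (f := IsScalarTower.toAlgHom k (Polynomial k) (FractionRing (Polynomial k))) fun y =>
    isUnit_iff_ne_zero.mpr fun h => y.2 (by
      have h' : (y : Polynomial k) = 0 := IsFractionRing.injective (Polynomial k) _ (h.trans (map_zero _).symm)
      show Polynomial.aeval (0 : k) (y : Polynomial k) = 0
      rw [h', map_zero])

theorem π0_algebraMap (p : Polynomial k) : π0 k (algebraMap _ _ p) = Polynomial.aeval (0 : k) p :=
  IsLocalization.lift_eq _ p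

theorem ι0_algebraMap (p : Polynomial k) : ι0 k (algebraMap _ _ p) = algebraMap _ _ p :=
  IsLocalization.lift_eq _ p

theorem ι0_injective : Function.Injective (ι0 k) := by
  rw [injective_iff_map_eq_zero]
  intro z hz
  obtain ⟨p, s, rfl⟩ := IsLocalization.exists_mk'_eq (P0 k).primeCompl z
  have h := congrArg (ι0 k) (IsLocalization.mk'_spec (Lo k) p s)
  rw [map_mul, hz, zero_mul, ι0_algebraMap] at h
  rw [IsFractionRing.injective (Polynomial k) _ (h.symm.trans (map_zero _).symm), IsLocalization.mk'_zero]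

variable (k) in
/-- The parameter at the origin, as a unit of the rational functions. -/
def uK : (FractionRing (Polynomial k))ˣ :=
  Units.mk0 (algebraMap (Polynomial k) _ Polynomial.X) (by
    rw [Ne, ← map_zero (algebraMap (Polynomial k) (FractionRing (Polynomial k)))]
    exact fun h => Polynomial.X_ne_zero (IsFractionRing.injective (Polynomial k) _ h))

/-- A nonzero constant times a power of the parameter is integral at the origin only for a non-negative power. -/
theorem nonneg_of_mem_range {c : k} (hc : c ≠ 0) {n : ℤ} {z : Lo k}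
    (h : algebraMap k (FractionRing (Polynomial k)) c * ((uK k ^ n : (FractionRing (Polynomial k))ˣ) : _) = ι0 k z) :
    0 ≤ n := by
  by_contra hn
  obtain ⟨m, rfl⟩ : ∃ m : ℕ, n = -((m + 1 : ℕ) : ℤ) := ⟨(-n).toNat - 1, by omega⟩
  have h1 : algebraMap k (Lo k) c = z * algebraMap (Polynomial k) (Lo k) Polynomial.X ^ (m + 1) := by
    apply ι0_injective
    rw [AlgHom.commutes, map_mul, ← h, map_pow, ι0_algebraMap, _root_.mul_assoc,
      show algebraMap (Polynomial k) (FractionRing (Polynomial k)) Polynomial.X = (uK k : FractionRing (Polynomial k))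
        from rfl, ← Units.val_pow_eq_pow_val, ← Units.val_mul, zpow_neg, zpow_natCast, inv_mul_cancel,
      Units.val_one, _root_.mul_one]
  have h2 := congrArg (π0 k) h1
  rw [AlgHom.commutes, map_mul, map_pow, π0_algebraMap, Polynomial.aeval_X, zero_pow (Nat.succ_ne_zero m),
    mul_zero] at h2
  exact hc h2

theorem isLocalHom_π0 : IsLocalHom (π0 k).toRingHom := by
  refine ⟨fun z hz => ?_⟩
  obtain ⟨p, s, rfl⟩ := IsLocalization.exists_mk'_eq (P0 k).primeCompl z
  rw [IsLocalization.AtPrime.isUnit_mk'_iff]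
  intro hp
  have h := congrArg (π0 k) (IsLocalization.mk'_spec (Lo k) p s)
  rw [map_mul, π0_algebraMap, π0_algebraMap, show Polynomial.aeval (0 : k) p = 0 from hp] at h
  rcases mul_eq_zero.mp h with h | h
  · exact hz.ne_zero h
  · exact s.2 h

/-- A point over the local ring lands in an open as soon as its reduction does. -/
theorem le_of_reduction (p : Pt (k := k) (Lo k) ⟶ X) {U : X.left.Opens}
    (h : ⊤ ≤ (mapPt (π0 k) ≫ p).left ⁻¹ᵁ U) : ⊤ ≤ p.left ⁻¹ᵁ U := by
  refine le_preimage_of_closedPoint p ?_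
  haveI := isLocalHom_π0 (k := k)
  have h1 : p.left ((Spec.map (CommRingCat.ofHom (π0 k).toRingHom)) (IsLocalRing.closedPoint k)) ∈ U :=
    h (Set.mem_univ (IsLocalRing.closedPoint k))
  have h2 : (Spec.map (CommRingCat.ofHom (π0 k).toRingHom)) (IsLocalRing.closedPoint k) = IsLocalRing.closedPoint (Lo k) :=
    IsLocalRing.comap_closedPoint (π0 k).toRingHom
  rwa [h2] at h1

/-- The orbit map near the origin. -/
theorem exists_local_limit (l : Red.Gm (Spec (CommRingCat.of k)) ⟶ G) [IsMonHom l]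
    {x y : 𝟙_ (Over (Spec (CommRingCat.of k))) ⟶ X} (h : HMNum.IsLimitPt a l x y) :
    ∃ p : Pt (k := k) (Lo k) ⟶ X, mapPt (π0 k) ≫ p = toUnit _ ≫ y ∧
      mapPt (ι0 k) ≫ p = lift (gU (uK k) ≫ l) (toUnit _ ≫ x) ≫ a.act := by
  obtain ⟨f, hf, hx, rfl⟩ := (HM.isLimitPt_iff a l x y).mp h
  obtain ⟨b, hb⟩ := exists_a1Fn (S := Spec (CommRingCat.of k)) (T := Pt (k := k) (Lo k))
    ((Scheme.ΓSpecIso (CommRingCat.of (Lo k))).inv (algebraMap (Polynomial k) (Lo k) Polynomial.X))
  have hgl : gl (k := k) (Lo k) (a1Fn b) = algebraMap (Polynomial k) (Lo k) Polynomial.X := by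
    rw [hb]
    show (Scheme.ΓSpecIso (CommRingCat.of (Lo k))).hom ((Scheme.ΓSpecIso (CommRingCat.of (Lo k))).inv _) = _
    rw [← CommRingCat.comp_apply, Iso.inv_hom_id]
    rfl
  refine ⟨b ≫ f, ?_, ?_⟩
  · rw [← Category.assoc, ← Category.assoc]
    refine congrArg (· ≫ f) (a1Fn_injective ?_)
    rw [a1Fn_origin]
    apply (gl_bijective (k := k) k).1
    rw [a1Fn_comp, gl_natural, hgl, π0_algebraMap, Polynomial.aeval_X, map_zero]
  · have hb' : mapPt (ι0 k) ≫ b = gU (uK k) ≫ HMNum.incl _ := by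
      apply a1Fn_injective
      rw [a1Fn_incl]
      apply (gl_bijective (k := k) (FractionRing (Polynomial k))).1
      rw [a1Fn_comp, gl_natural, hgl, ι0_algebraMap]
      exact (congrArg Units.val (zR_gU (k := k) (uK k))).symm
    rw [← Category.assoc, hb', ← _root_.mul_one (gU (uK k) ≫ HMNum.incl _), hf, Hom.one_def, Category.assoc, hx]

end Groth.Agent.GITLib.HMExtend
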