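import Groth.Agent.GITLib.HMExtend
import Groth.Agent.GITLib.HMDecomp
import Mathlib.AlgebraicGeometry.Morphisms.ClosedImmersion

/-!
# The numerical function on a torus is a maximum of rational functionals
-/

set_option autoImplicit false

universe u

open CategoryTheory Limits MonoidalCategory CartesianMonoidalCategory MonObj AlgebraicGeometry Opposite
open scoped LaurentPolynomial
open Groth.Agent.GITLib.FibrePts Groth.Agent.GITLib.HMChar Groth.Agent.GITLib.HMDecomp Groth.Agent.GITLib.HMExtend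

noncomputable section

namespace Groth.Agent.GITLib.HMFunctional

variable {k : Type u} [Field k] {G X T : Over (Spec (CommRingCat.of k))} [GrpObj G] [GrpObj T]
  {a : AlgGrp.Action G X}

local notation "pt" => 𝟙_ (Over (Spec (CommRingCat.of k)))

omit [GrpObj G] [GrpObj T] in
theorem mapPt_comp_const {R R' : Type u} [CommRing R] [Algebra k R] [CommRing R'] [Algebra k R'] (α : R →ₐ[k] R')
    (x : pt ⟶ X) : mapPt α ≫ toUnit (Pt R) ≫ x = toUnit (Pt (k := k) R') ≫ x := by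
  rw [← Category.assoc, toUnit_unique (mapPt α ≫ toUnit _) (toUnit _)]

omit [GrpObj T] in
theorem le_const {x : pt ⟶ X} {U : X.left.Opens} (hU : x.left ⁻¹ᵁ U = ⊤) {T' : Over (Spec (CommRingCat.of k))} :
    ⊤ ≤ (toUnit T' ≫ x).left ⁻¹ᵁ U :=
  fun z _ => (hU.ge : ⊤ ≤ x.left ⁻¹ᵁ U) (Set.mem_univ ((toUnit T').left z))

/-- Fibre weights exist at fixed points. -/
theorem exists_hasFibreWeight (B : GLinSh.LinBun G a) (l : Red.Gm (Spec (CommRingCat.of k)) ⟶ G) [IsMonHom l]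
    {y : pt ⟶ X} (hfix : HMNum.IsFixedBy a l y) : ∃ w, HMNum.HasFibreWeight B l y w := by
  haveI := B.atlas.affine
  let Gm := Red.Gm (Spec (CommRingCat.of k))
  obtain ⟨U, hxU, y', hy'⟩ := B.atlas.cover (y.left (Classical.arbitrary _))
  have hU : y.left ⁻¹ᵁ U = ⊤ := TopologicalSpace.Opens.ext (Set.eq_univ_of_forall fun z => by
    rw [Subsingleton.elim z (Classical.arbitrary _)]; exact hxU)
  obtain ⟨⟨v1, hv1, hv1e⟩, -⟩ :=
    existsUnique_point (B.atlas.coord U y' hy') (toUnit (Pt (k := k) k) ≫ y) (le_const hU) 1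
  let c1 : ∀ T' : Over (Spec (CommRingCat.of k)), T' ⟶ B.V := fun T' => toUnit T' ≫ ε ≫ v1
  have hc1π : ∀ T', c1 T' ≫ B.π = toUnit T' ≫ y := fun T' => by
    simp only [c1, Category.assoc, hv1]
    rw [← Category.assoc ε, toUnit_unique (ε ≫ toUnit _) (𝟙 _), Category.id_comp]
  have hle : ∀ {T'} {v : T' ⟶ B.V}, v ≫ B.π = toUnit T' ≫ y → ⊤ ≤ v.left ⁻¹ᵁ (B.π.left ⁻¹ᵁ U) :=
    fun hv => le_of_eq_comp hv (le_const hU)
  have congrEval : ∀ {T' : Over (Spec (CommRingCat.of k))} (v v' : T' ⟶ B.V) (h₁ : ⊤ ≤ v.left ⁻¹ᵁ (B.π.left ⁻¹ᵁ U))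
      (h₂ : ⊤ ≤ v'.left ⁻¹ᵁ (B.π.left ⁻¹ᵁ U)), v = v' → HMNum.evalFn B.π y' v h₁ = HMNum.evalFn B.π y' v' h₂ := by
    intro T' v v' h₁ h₂ e; subst e; rfl
  have he1 : HMNum.evalFn B.π y' v1 (hle hv1) = 1 :=
    (gl_bijective (k := k) k).1 (hv1e.trans (map_one _).symm)
  have hc1e : ∀ T', HMNum.evalFn B.π y' (c1 T') (hle (hc1π T')) = 1 := fun T' => by
    rw [congrEval (c1 T') ((toUnit T' ≫ ε) ≫ v1) (hle (hc1π T')) (preimage_comp_le _ v1 (hle hv1))
      (Category.assoc _ _ _).symm, evalFn_comp _ _ _ _ (hle hv1), he1, map_one]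
  have hπl : ∀ {T'} (g : T' ⟶ Gm) {v : T' ⟶ B.V}, v ≫ B.π = toUnit T' ≫ y →
      (lift (g ≫ l) v ≫ B.lift.act) ≫ B.π = toUnit T' ≫ y := fun {T'} g v hv => by
    rw [HM.lift_π_pt, hv, hfix T' (toUnit T') g]
  let r : ∀ {T'}, (T' ⟶ Gm) → Γ(T'.left, ⊤) := fun {T'} g =>
    HMNum.evalFn B.π y' (lift (g ≫ l) (c1 T') ≫ B.lift.act) (hle (hπl g (hc1π T')))
  have hlin : ∀ {T'} (g : T' ⟶ Gm) (v : T' ⟶ B.V) (hv : v ≫ B.π = toUnit T' ≫ y),
      HMNum.evalFn B.π y' (lift (g ≫ l) v ≫ B.lift.act) (hle (hπl g hv)) =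
        r g * HMNum.evalFn B.π y' v (hle hv) := by
    intro T' g v hv
    obtain ⟨c, hc⟩ := HM.linear_eval B hy' hy' (g ≫ l) (toUnit T' ≫ y) (le_const hU)
      (by rw [hfix T' (toUnit T') g]; exact le_const hU)
    have h1 := hc (c1 T') (hc1π T') (hle (hc1π T')) (hle (hπl g (hc1π T')))
    rw [hc1e, _root_.mul_one] at h1
    rw [show r g = c from h1]
    exact hc v hv (hle hv) (hle (hπl g hv))
  have hr_comp : ∀ {T' T''} (h : T'' ⟶ T') (g : T' ⟶ Gm), r (h ≫ g) = h.left.appTop (r g) := by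
    intro T' T'' h g
    rw [← evalFn_comp _ _ h _ (hle (hπl g (hc1π T')))]
    refine congrEval _ _ _ _ ?_
    rw [comp_lift_assoc, Category.assoc, ← Category.assoc h (toUnit T'), toUnit_unique (h ≫ toUnit T') (toUnit T'')]
  have hr_one : ∀ T', r (1 : T' ⟶ Gm) = 1 := fun T' => by
    refine (congrEval _ _ _ (hle (hc1π T')) ?_).trans (hc1e T')
    rw [MonObj.one_comp, B.lift.lift_one_act]
  have hr_inv : ∀ {T'} (g : T' ⟶ Gm), r g⁻¹ * r g = 1 := fun {T'} g => by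
    rw [← hlin g⁻¹ _ (hπl g (hc1π T'))]
    refine (congrEval _ _ _ (hle (hc1π T')) ?_).trans (hc1e T')
    rw [← B.lift.lift_mul_act, ← MonObj.mul_comp, inv_mul_cancel, MonObj.one_comp, B.lift.lift_one_act]
  let ρ : k[T;T⁻¹] := gl k[T;T⁻¹] (r (gU (uT k)))
  have hρu : IsUnit ρ := (IsUnit.of_mul_eq_one (r (gU (uT k))⁻¹) (by rw [mul_comm]; exact hr_inv _)).map _
  obtain ⟨c, w, hcw⟩ := exists_C_mul_T_of_isUnit hρu
  have hc : c = 1 := by
    have h1 : evU (k := k) (1 : kˣ) ρ = 1 := by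
      rw [show ρ = gl k[T;T⁻¹] (r (gU (uT k))) from rfl, ← gl_natural, ← hr_comp, ← gU_eq,
        show gU (k := k) (1 : kˣ) = 1 from zR_bijective.1 ((zR_gU _).trans zR_one.symm), hr_one, map_one]
    rw [hcw, map_mul, evU_T, one_zpow, Units.val_one, _root_.mul_one,
      show LaurentPolynomial.C c = algebraMap k k[T;T⁻¹] c from rfl, AlgHom.commutes] at h1
    simpa using h1
  rw [hc, map_one, _root_.one_mul] at hcw
  obtain ⟨θG, hθ1, hθ2⟩ := exists_θG (k := k)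
  have hrid : r (𝟙 Gm) = ((GmPts.unitOfPt (𝟙 Gm) ^ w : _) : Γ(Gm.left, ⊤)ˣ) := by
    conv_lhs => rw [← hθ1]
    rw [hr_comp, ← hθ2 w]
    refine congrArg θG.left.appTop ((gl_bijective (k := k) k[T;T⁻¹]).1 ?_)
    show ρ = (Scheme.ΓSpecIso (CommRingCat.of k[T;T⁻¹])).hom ((Scheme.ΓSpecIso (CommRingCat.of k[T;T⁻¹])).inv _)
    rw [← CommRingCat.comp_apply, Iso.inv_hom_id]
    exact hcw
  refine ⟨w, hfix, U, y', hy', hU, fun T' t g v hv hgv => ?_⟩
  have hv' : v ≫ B.π = toUnit T' ≫ y := by rw [hv, toUnit_unique t (toUnit T')]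
  refine (hlin g v hv').trans (congrArg (· * _) ?_)
  conv_lhs => rw [← Category.comp_id g]
  rw [hr_comp, hrid, show GmPts.unitOfPt g = Units.map g.left.appTop.hom.toMonoidHom (GmPts.unitOfPt (𝟙 Gm)) by
    rw [← GmPts.unitOfPt_comp, Category.comp_id], ← map_zpow]
  rfl

omit [GrpObj G] [GrpObj T] in
/-- A point over a field whose image is a rational point is constant. -/
theorem eq_const_of_mem_range [IsSeparated X.hom] {K : Type u} [Field K] [Algebra k K] (p : Pt (k := k) K ⟶ X)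
    (y : pt ⟶ X) (h : p.left (IsLocalRing.closedPoint K) ∈ Set.range y.left) : p = toUnit _ ≫ y := by
  have : IsClosedImmersion y.left := by
    have : IsClosedImmersion (y.left ≫ X.hom) := by rw [Over.w y]; exact inferInstanceAs (IsClosedImmersion (𝟙 _))
    exact IsClosedImmersion.of_comp y.left X.hom
  let s := pullback.snd y.left p.left
  have hss : Subsingleton (Pt (k := k) K).left := inferInstanceAs (Subsingleton (PrimeSpectrum K))
  have : Surjective s := ⟨fun z => by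
    obtain ⟨q, hq⟩ := h
    obtain ⟨P, -, hP⟩ := Scheme.Pullback.exists_preimage_pullback q z
      (hq.trans (congrArg p.left (Subsingleton.elim _ z)))
    exact ⟨P, hP⟩⟩
  have hred : IsReduced (Pt (k := k) K).left := inferInstanceAs (IsReduced (Spec (CommRingCat.of K)))
  have : IsIso s := isIso_of_isClosedImmersion_of_surjective s
  have h1 : p.left = inv s ≫ pullback.fst y.left p.left ≫ y.left := by
    rw [IsIso.eq_inv_comp, pullback.condition]
  apply Over.OverMorphism.ext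
  rw [h1, Over.comp_left, ← Category.assoc]
  refine congrArg (· ≫ y.left) ?_
  have h2 : ((inv s ≫ pullback.fst y.left p.left) ≫ y.left) ≫ X.hom = (Pt (k := k) K).hom := by
    rw [Category.assoc (inv s), ← h1]; exact Over.w p
  rw [Category.assoc, Over.w y] at h2
  exact ((Category.comp_id _).symm.trans h2).trans (Over.w (toUnit (Pt (k := k) K))).symm |>.trans (Category.comp_id _)

theorem uK_zpow_injective {m n : ℤ} (h : uK k ^ m = uK k ^ n) : m = n := by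
  have h1 : ∀ d : ℤ, uK k ^ d = 1 → 0 ≤ d := fun d hd =>
    nonneg_of_mem_range (one_ne_zero) (z := 1) (by rw [hd, map_one, map_one, Units.val_one, _root_.mul_one])
  have h2 := h1 (m - n) (by rw [zpow_sub, h, mul_inv_cancel])
  have h3 := h1 (n - m) (by rw [zpow_sub, h, mul_inv_cancel])
  omega

variable {A : CommRingCat.{u}} [HopfAlgebra k A] (e₀ : (Spec A).asOver (Spec (CommRingCat.of k)) ≅ T)
  [IsMonHom e₀.hom] (B : GLinSh.LinBun G a) (i : T ⟶ G) [IsMonHom i]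

/-- The data of a decomposed ample cover compute the fibre weight at a limit. -/
theorem weight_at_limit [IsSeparated X.hom] {J : Type} [Fintype J] (deg : J → ℕ) (fn : J → Γ(B.V.left, ⊤))
    (χ : J → A) (c : J → ((Pt (k := k) k ⟶ T) →₀ k)) (hdeg : ∀ j, 1 ≤ deg j)
    (hwt : ∀ j, GLinSh.HasWeight B.atlas.chart (deg j) (fn j))
    (hcov : ∀ q : X.left, ∃ (n : ℕ) (f : Γ(B.V.left, ⊤)) (s : Finset J), 1 ≤ n ∧ GLinSh.HasWeight B.atlas.chart n f ∧
      q ∈ GLinSh.nonvanishing B.π f ∧ (∀ j ∈ s, deg j = n ∧ fn j = f) ∧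
      ∀ (R : Type u) [CommRing R] [IsLocalRing R] [Algebra k R] (v : Pt R ⟶ B.V),
        evTop f v = ∑ j ∈ s, comb B i (fn j) (c j) v)
    {l : Red.Gm (Spec (CommRingCat.of k)) ⟶ T}
    (heq : ∀ (R : Type u) [CommRing R] [IsLocalRing R] [Algebra k R] (s : Rˣ) (v : Pt R ⟶ B.V) (j : J),
      comb B i (fn j) (c j) (actT B i (gU s ≫ l) v) =
        ((s ^ expo e₀ l (χ j) : Rˣ) : R) * comb B i (fn j) (c j) v)
    [IsMonHom (l ≫ i)] {x y : pt ⟶ X} (hy : HMNum.IsLimitPt a (l ≫ i) x y) {w : ℤ}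
    (hw : HMNum.HasFibreWeight B (l ≫ i) y w)
    {Ux : X.left.Opens} {yx : Γ(B.V.left, B.π.left ⁻¹ᵁ Ux)} (hyx : yx ∈ B.atlas.chart Ux)
    (hUx : x.left ⁻¹ᵁ Ux = ⊤) (vx : Pt (k := k) k ⟶ B.V) (hvx : vx ≫ B.π = toUnit _ ≫ x)
    (hvxe : ev B.π yx vx (le_of_eq_comp hvx (le_const hUx)) = 1) :
    (∀ j, comb B i (fn j) (c j) vx ≠ 0 → (deg j : ℤ) * w ≤ expo e₀ l (χ j)) ∧
      ∃ j, comb B i (fn j) (c j) vx ≠ 0 ∧ expo e₀ l (χ j) = deg j * w := by
  classical
  haveI := B.atlas.affine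
  obtain ⟨hfix, U, y', hy', hU, hval⟩ := hw
  have hcoord := B.atlas.coord U y' hy'
  -- the point over `y` with coordinate one
  obtain ⟨⟨vy, hvy, hvye⟩, huy⟩ := existsUnique_point hcoord (toUnit (Pt (k := k) k) ≫ y) (le_const hU) 1
  -- a function not vanishing on the fibre over `y`
  obtain ⟨n, f, sJ, hn, hf, hynv, hsJ, hsum⟩ := hcov (y.left (Classical.arbitrary _))
  obtain ⟨z₀, hz₀, hπz₀⟩ := hynv
  letI algκ : Algebra k (B.V.left.residueField z₀) :=
    (Spec.preimage (B.V.left.fromSpecResidueField z₀ ≫ B.V.hom)).hom.toAlgebra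
  let vκ : Pt (k := k) (B.V.left.residueField z₀) ⟶ B.V := Over.homMk (B.V.left.fromSpecResidueField z₀) (by
    show _ = Spec.map (Spec.preimage (B.V.left.fromSpecResidueField z₀ ≫ B.V.hom))
    exact (Spec.map_preimage _).symm)
  have hvκpt : ∀ q, vκ.left q = z₀ := fun q => Scheme.fromSpecResidueField_apply z₀ q
  have hvκ : vκ ≫ B.π = toUnit _ ≫ y := by
    refine eq_const_of_mem_range _ y ⟨Classical.arbitrary _, ?_⟩
    show _ = B.π.left (vκ.left _)
    rw [hvκpt]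
    exact hπz₀.symm
  have hfκ : evTop f vκ ≠ 0 := by
    intro h0
    have h1 : vκ.left.appTop f = 0 := (gl_bijective _).1 (h0.trans (map_zero _).symm)
    have h2 := Scheme.preimage_basicOpen_top vκ.left f
    rw [h1, Scheme.basicOpen_zero] at h2
    have h3 : IsLocalRing.closedPoint (B.V.left.residueField z₀) ∈ vκ.left ⁻¹ᵁ B.V.left.basicOpen f := by
      show vκ.left _ ∈ B.V.left.basicOpen f
      rw [hvκpt]
      exact hz₀
    rw [h2] at h3
    exact h3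
  have hfy : evTop f vy ≠ 0 := by
    intro h0
    obtain ⟨C, hC⟩ := evTop_of_hasWeight hf hy' (toUnit (Pt (k := k) (B.V.left.residueField z₀)) ≫ y) (le_const hU)
    have h1 := hC (mapPt (Algebra.ofId k _) ≫ vy) (by rw [Category.assoc, hvy, mapPt_comp_const])
    rw [ev_map _ _ _ vy (le_of_eq_comp hvy (le_const hU)), hvye, map_one, one_pow, _root_.mul_one, evTop_map, h0,
      map_zero] at h1
    exact hfκ ((hC vκ hvκ).trans (by rw [← h1, zero_mul]))
  obtain ⟨j₀, hj₀, hF₀⟩ := Finset.exists_ne_zero_of_sum_ne_zero (hsum k vy ▸ hfy)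
  -- the weight at `y`
  let K := FractionRing (Polynomial k)
  have hd₀ : expo e₀ l (χ j₀) = (deg j₀ : ℤ) * w := by
    let v' : Pt (k := k) K ⟶ B.V := mapPt (Algebra.ofId k K) ≫ vy
    have hv' : v' ≫ B.π = toUnit _ ≫ y := by rw [Category.assoc, hvy, mapPt_comp_const]
    have hev' : ev B.π y' v' (le_of_eq_comp hv' (le_const hU)) = 1 := by
      rw [ev_map _ _ _ vy (le_of_eq_comp hvy (le_const hU)), hvye, map_one]
    have hgv : actT B i (gU (uK k) ≫ l) v' ≫ B.π = toUnit _ ≫ y := by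
      rw [actT, HM.lift_π_pt, hv', Category.assoc, hfix _ (toUnit _) (gU (uK k))]
    obtain ⟨C, hC⟩ := comb_hom B i (hwt j₀) (c j₀) hy' (toUnit (Pt (k := k) K) ≫ y) (le_const hU)
    have hval' := congrArg (gl K) (hval _ (toUnit _) (gU (uK k)) v' hv'
      (by rw [← Category.assoc]; exact hgv))
    have hevg : ev B.π y' (actT B i (gU (uK k) ≫ l) v') (le_of_eq_comp hgv (le_const hU)) = ((uK k ^ w : Kˣ) : K) := by
      refine (ev_congr B.π y' (by rw [actT, Category.assoc]) _ ?_).trans (hval'.trans ?_)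
      · exact le_of_eq_comp (by rw [← Category.assoc]; exact hgv) (le_const hU)
      · rw [map_mul]
        refine (congrArg (_ * ·) hev').trans ?_
        rw [_root_.mul_one]
        conv_rhs => rw [← zR_gU (k := k) (uK k), zR, ← map_zpow]
        rfl
    have h1 := hC _ hgv
    rw [heq, hevg, hC v' hv', hev', one_pow, _root_.mul_one, mul_comm, ← Units.val_pow_eq_pow_val, ← zpow_natCast,
      ← zpow_mul, mul_comm w] at h1
    have hC0 : C ≠ 0 := by
      intro h0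
      have h2 := hC v' hv'
      rw [h0, zero_mul, comb_map] at h2
      exact hF₀ ((algebraMap k K).injective (h2.trans (map_zero _).symm))
    exact uK_zpow_injective (Units.ext (mul_left_cancel₀ hC0 h1))
  -- near the limit
  obtain ⟨p, hp₀, hpK⟩ := exists_local_limit a (l ≫ i) hy
  have hpU : ⊤ ≤ p.left ⁻¹ᵁ U := le_of_reduction p (by rw [hp₀]; exact le_const hU)
  have hpKU : ⊤ ≤ (mapPt (ι0 k) ≫ p).left ⁻¹ᵁ U := preimage_comp_le (mapPt (ι0 k)) p hpU
  obtain ⟨⟨vL, hvL, hvLe⟩, -⟩ := existsUnique_point hcoord p hpU 1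
  let C : J → Lo k := fun j => comb B i (fn j) (c j) vL
  have hπC : ∀ j, π0 k (C j) = comb B i (fn j) (c j) vy := fun j => by
    have hv : (mapPt (π0 k) ≫ vL) ≫ B.π = toUnit _ ≫ y := by rw [Category.assoc, hvL, hp₀]
    rw [show C j = comb B i (fn j) (c j) vL from rfl, ← comb_map,
      huy (mapPt (π0 k) ≫ vL) vy hv hvy (by rw [ev_map _ _ _ vL (le_of_eq_comp hvL hpU), hvLe, map_one, hvye])]
  have hC₀ : IsUnit (C j₀) := by
    haveI := isLocalHom_π0 (k := k)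
    exact (isUnit_map_iff (π0 k).toRingHom _).mp (isUnit_iff_ne_zero.mpr ((hπC j₀).symm ▸ hF₀))
  -- the orbit over the rational functions
  let gK : Pt (k := k) K ⟶ T := gU (uK k) ≫ l
  let vxK : Pt (k := k) K ⟶ B.V := mapPt (Algebra.ofId k K) ≫ vx
  have hvxK : vxK ≫ B.π = toUnit _ ≫ x := by rw [Category.assoc, hvx, mapPt_comp_const]
  have hγ : actT B i gK vxK ≫ B.π = mapPt (ι0 k) ≫ p := by
    rw [actT, HM.lift_π_pt, hvxK, hpK, Category.assoc]
  let ρ : K := ev B.π y' (actT B i gK vxK) (le_of_eq_comp hγ hpKU)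
  have hρ : ρ ≠ 0 := by
    intro h0
    have hback : lift (gK ≫ i)⁻¹ (mapPt (ι0 k) ≫ p) ≫ a.act = toUnit _ ≫ x := by
      rw [hpK, ← a.lift_mul_act, Category.assoc, inv_mul_cancel, a.lift_one_act]
    obtain ⟨r, hr⟩ := translate_ev B hy' hyx (gK ≫ i)⁻¹ (mapPt (ι0 k) ≫ p) hpKU
      (by rw [hback]; exact le_const hUx)
    have h1 := hr _ hγ
    rw [show ev B.π y' (actT B i gK vxK) _ = ρ from rfl, h0, mul_zero] at h1
    have h2 : lift (gK ≫ i)⁻¹ (actT B i gK vxK) ≫ B.lift.act = vxK := by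
      rw [actT, ← B.lift.lift_mul_act, inv_mul_cancel, B.lift.lift_one_act]
    rw [ev_congr B.π yx h2 _ (le_of_eq_comp hvxK (le_const hUx)),
      ev_map _ _ _ vx (le_of_eq_comp hvx (le_const hUx)), hvxe, map_one] at h1
    exact one_ne_zero h1
  have key : ∀ j, ((uK k ^ expo e₀ l (χ j) : Kˣ) : K) * algebraMap k K (comb B i (fn j) (c j) vx) =
      ι0 k (C j) * ρ ^ deg j := by
    intro j
    obtain ⟨CK, hCK⟩ := comb_hom B i (hwt j) (c j) hy' (mapPt (ι0 k) ≫ p) hpKU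
    have h1 := hCK _ hγ
    rw [heq, comb_map] at h1
    have h2 := hCK (mapPt (ι0 k) ≫ vL) (by rw [Category.assoc, hvL])
    rw [comb_map, ev_map _ _ _ vL (le_of_eq_comp hvL hpU), hvLe, map_one, one_pow, _root_.mul_one] at h2
    rw [show ι0 k (C j) = CK from h2]
    exact h1
  have ha₀ : comb B i (fn j₀) (c j₀) vx ≠ 0 := by
    intro h0
    have h1 := key j₀
    rw [h0, map_zero, mul_zero] at h1
    rcases mul_eq_zero.mp h1.symm with h | h
    · exact (hC₀.map (ι0 k)).ne_zero h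
    · exact hρ (pow_eq_zero_iff'.mp h).1
  refine ⟨fun j haj => ?_, j₀, ha₀, hd₀⟩
  obtain ⟨D, hD⟩ := hC₀.exists_right_inv
  set d := expo e₀ l (χ j)
  set d₀ := expo e₀ l (χ j₀)
  set aj := comb B i (fn j) (c j) vx
  set a0 := comb B i (fn j₀) (c j₀) vx
  set N := deg j
  set N0 := deg j₀
  have hι : ι0 k (C j₀) * ι0 k D = 1 := by rw [← map_mul, hD, map_one]
  have hge : 0 ≤ d * (N0 : ℤ) - d₀ * (N : ℤ) := by
    refine nonneg_of_mem_range (c := aj ^ N0 * (a0⁻¹) ^ N) (mul_ne_zero (pow_ne_zero _ haj)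
      (pow_ne_zero _ (inv_ne_zero ha₀))) (z := C j ^ N0 * D ^ N) ?_
    have ha0K : algebraMap k K a0 ≠ 0 := fun h => ha₀ ((algebraMap k K).injective (h.trans (map_zero _).symm))
    have e0 : ((uK k : K) ^ d₀ * algebraMap k K a0) = ι0 k (C j₀) * ρ ^ N0 := by
      rw [← Units.val_zpow_eq_zpow_val]; exact key j₀
    have e1 : ((uK k : K) ^ d * algebraMap k K aj) = ι0 k (C j) * ρ ^ N := by
      rw [← Units.val_zpow_eq_zpow_val]; exact key j
    rw [map_mul, map_pow, map_pow, map_inv₀, map_mul, map_pow, map_pow, Units.val_zpow_eq_zpow_val,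
      zpow_sub₀ (uK k).ne_zero, zpow_mul, zpow_mul, zpow_natCast, zpow_natCast]
    have hu0 : (uK k : K) ^ d₀ ≠ 0 := zpow_ne_zero _ (uK k).ne_zero
    rw [inv_pow, show algebraMap k K aj ^ N0 * (algebraMap k K a0 ^ N)⁻¹ * (((uK k : K) ^ d) ^ N0 / ((uK k : K) ^ d₀) ^ N) =
        ((uK k : K) ^ d * algebraMap k K aj) ^ N0 / ((uK k : K) ^ d₀ * algebraMap k K a0) ^ N by
      rw [mul_pow, mul_pow, div_eq_mul_inv, div_eq_mul_inv, mul_inv]; ring, e0, e1, div_eq_iff (pow_ne_zero _ (mul_ne_zero (hC₀.map (ι0 k)).ne_zero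
        (pow_ne_zero _ hρ)))]
    calc (ι0 k (C j) * ρ ^ N) ^ N0 = ι0 k (C j) ^ N0 * (ι0 k (C j₀) * ι0 k D) ^ N * ρ ^ (N * N0) := by
          rw [hι, one_pow, _root_.mul_one, mul_pow, ← pow_mul]
      _ = _ := by ring
  rw [hd₀] at hge
  have h1 : (1 : ℤ) ≤ N0 := by exact_mod_cast hdeg j₀
  have h2 : (N0 : ℤ) * ((N : ℤ) * w) ≤ N0 * d := by linarith [hge]
  exact le_of_mul_le_mul_left h2 (by omega)

/-- **The numerical function on a torus is a maximum of finitely many rational functionals.** -/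
theorem exists_functionals [IsAlgClosed k] [IsProper X.hom] (hT : Red.IsTorus T) (hB : HMNum.AmpleCover B) :
    ∃ (n : ℕ) (ℓ : Fin n → (Red.Gm (Spec (CommRingCat.of k)) ⟶ T) → ℚ),
      (∀ (j : Fin n) (l₁ l₂ : Red.Gm (Spec (CommRingCat.of k)) ⟶ T), HasExpo e₀ l₁ → HasExpo e₀ l₂ →
          ℓ j (l₁ * l₂) = ℓ j l₁ + ℓ j l₂) ∧
      ∀ (x : pt ⟶ X), ∃ I : Finset (Fin n),
        ∀ (l : Red.Gm (Spec (CommRingCat.of k)) ⟶ T), HasExpo e₀ l → ∀ [IsMonHom (l ≫ i)] (m : ℤ),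
          HMNum.IsMu B (l ≫ i) x m ↔ ∃ j ∈ I, (m : ℚ) = ℓ j l ∧ ∀ j' ∈ I, ℓ j' l ≤ ℓ j l := by
  classical
  haveI := B.atlas.affine
  have hA := TorusChars.span_eq_top e₀ hT
  obtain ⟨hXc, hcover⟩ := hB
  have : QuasiCompact B.π.left := inferInstance
  have : CompactSpace B.V.left := QuasiCompact.compactSpace_of_compactSpace B.π.left
  choose n f hn hf hxf U hUeq hUaff using hcover
  obtain ⟨Z, hZ⟩ := CompactSpace.elim_nhds_subcover (fun q => (U q : Set X.left))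
    (fun q => (U q).isOpen.mem_nhds (show q ∈ (U q : Set X.left) from (hUeq q).symm ▸ hxf q))
  choose N χ c hχ hsum heq using fun q : X.left => exists_decomp B i e₀ hA (f q)
  let J := Σ q : {q // q ∈ Z}, Fin (N q.1)
  obtain ⟨nJ, ⟨eJ⟩⟩ : ∃ nJ : ℕ, Nonempty (J ≃ Fin nJ) := ⟨Fintype.card J, ⟨Fintype.equivFin J⟩⟩
  let jq : Fin nJ → X.left := fun j => (eJ.symm j).1.1
  let jc : Fin nJ → ((Pt (k := k) k ⟶ T) →₀ k) := fun j => c (eJ.symm j).1.1 (eJ.symm j).2
  let jχ : Fin nJ → A := fun j => χ (eJ.symm j).1.1 (eJ.symm j).2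
  let ℓ : Fin nJ → (Red.Gm (Spec (CommRingCat.of k)) ⟶ T) → ℚ := fun j l =>
    -((expo e₀ l (jχ j) : ℤ) : ℚ) / (n (jq j) : ℚ)
  refine ⟨nJ, ℓ, fun j l₁ l₂ h₁ h₂ => ?_, fun x => ?_⟩
  · show -((expo e₀ (l₁ * l₂) (jχ j) : ℤ) : ℚ) / _ = _
    rw [expo_mul e₀ h₁ h₂ (hχ _ _)]
    push_cast
    ring
  obtain ⟨Ux, hxUx, yx, hyx⟩ := B.atlas.cover (x.left (Classical.arbitrary _))
  have hUx : x.left ⁻¹ᵁ Ux = ⊤ := TopologicalSpace.Opens.ext (Set.eq_univ_of_forall fun z => by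
    rw [Subsingleton.elim z (Classical.arbitrary _)]; exact hxUx)
  obtain ⟨⟨vx, hvx, hvxe⟩, -⟩ :=
    existsUnique_point (B.atlas.coord Ux yx hyx) (toUnit (Pt (k := k) k) ≫ x) (le_const hUx) 1
  refine ⟨Finset.univ.filter fun j => comb B i (f (jq j)) (jc j) vx ≠ 0, fun l hl _ m => ?_⟩
  have core : ∀ {y : pt ⟶ X}, HMNum.IsLimitPt a (l ≫ i) x y → ∀ {w : ℤ}, HMNum.HasFibreWeight B (l ≫ i) y w →
      (∀ j, comb B i (f (jq j)) (jc j) vx ≠ 0 → ℓ j l ≤ -(w : ℚ)) ∧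
        ∃ j, comb B i (f (jq j)) (jc j) vx ≠ 0 ∧ ℓ j l = -(w : ℚ) := by
    intro y hy w hw
    obtain ⟨h1, j, hj, hd⟩ := weight_at_limit e₀ B i (fun j => n (jq j)) (fun j => f (jq j)) jχ jc
      (fun j => hn _) (fun j => hf _) (fun q => by
        obtain ⟨q', hq', hqU⟩ := Set.mem_iUnion₂.mp (hZ.ge (Set.mem_univ q))
        let em : Fin (N q') ↪ Fin nJ := ⟨fun r => eJ ⟨⟨q', hq'⟩, r⟩, fun r r' h => eq_of_heq (Sigma.mk.inj (eJ.injective h)).2⟩
        refine ⟨n q', f q', Finset.univ.map em, hn q', hf q', ?_, ?_, fun R _ _ _ v => ?_⟩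
        · rw [← hUeq q']; exact hqU
        · intro j hj
          obtain ⟨r, -, rfl⟩ := Finset.mem_map.mp hj
          simp [jq, em]
        · rw [Finset.sum_map, hsum q' R v]
          refine Finset.sum_congr rfl fun r _ => ?_
          simp only [jq, jc, em, Function.Embedding.coeFn_mk]
          rw [Equiv.symm_apply_apply])
      (fun R _ _ _ s v j => heq _ l hl R s v (eJ.symm j).2) hy hw hyx hUx vx hvx hvxe
    have hpos : ∀ j, (0 : ℚ) < n (jq j) := fun j => by exact_mod_cast hn (jq j)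
    refine ⟨fun j' hj' => ?_, j, hj, ?_⟩
    · show -((expo e₀ l (jχ j') : ℤ) : ℚ) / _ ≤ _
      rw [div_le_iff₀ (hpos j')]
      have : ((n (jq j') : ℤ) : ℚ) * (w : ℚ) ≤ ((expo e₀ l (jχ j') : ℤ) : ℚ) := by exact_mod_cast h1 j' hj'
      push_cast at this
      linarith
    · show -((expo e₀ l (jχ j) : ℤ) : ℚ) / _ = _
      rw [hd, div_eq_iff (hpos j).ne']
      push_cast
      ring
  have hmem : ∀ j, j ∈ (Finset.univ.filter fun j => comb B i (f (jq j)) (jc j) vx ≠ 0) ↔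
      comb B i (f (jq j)) (jc j) vx ≠ 0 := fun j => by simp
  constructor
  · rintro ⟨y, hy, hw⟩
    obtain ⟨h1, j, hj, hje⟩ := core hy hw
    refine ⟨j, (hmem j).mpr hj, ?_, fun j' hj' => ?_⟩
    · rw [hje]; push_cast; ring
    · rw [hje]; exact h1 j' ((hmem j').mp hj')
  · rintro ⟨j, hj, hm, hmax⟩
    obtain ⟨y, hy⟩ := exists_isLimitPt a (l ≫ i) x
    obtain ⟨w, hw⟩ := exists_hasFibreWeight B (l ≫ i) (HM.isFixedBy_of_isLimitPt a (l ≫ i) hy)
    obtain ⟨h1, j₁, hj₁, hj₁e⟩ := core hy hw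
    have h2 : (m : ℚ) = -(w : ℚ) := le_antisymm (hm.le.trans (h1 j ((hmem j).mp hj)))
      (hm.symm ▸ hj₁e ▸ hmax j₁ ((hmem j₁).mpr hj₁))
    have h3 : m = -w := by exact_mod_cast h2
    exact ⟨y, hy, by rw [h3, neg_neg]; exact hw⟩

end Groth.Agent.GITLib.HMFunctional
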