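import Groth.Prelude.Def_HMNum
import Groth.Prelude.Def_ChGrp
import Mathlib.AlgebraicGeometry.Morphisms.SchemeTheoreticallyDominant
import Groth.Agent.GrpScheme.Ext

/-!
# Limits under one-parameter subgroups: density of G_m in the affine line, uniqueness, transport
-/

set_option autoImplicit false

universe u

open CategoryTheory Limits MonoidalCategory CartesianMonoidalCategory MonObj AlgebraicGeometry Opposite
open scoped TensorProduct

namespace Groth.Agent.GITLib.HM

/-- Over an affine base the map `A(M)_S ⟶ A(N)_S` of an injective map of monoids is schematically dominant. -/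
theorem isSchemeTheoreticallyDominant_map (R : Type u) [CommRing R] {M N : Type} [AddCommMonoid M] [AddCommMonoid N]
    (f : N →+ M) (hf : Function.Injective f) :
    IsSchemeTheoreticallyDominant (Magnet.AMonS.map (Spec (CommRingCat.of R)) f).left := by
  let Z := ULift.{u} ℤ
  letI : Algebra Z R := ULift.algebra' ℤ R
  let φ : MonoidAlgebra Z (Multiplicative N) →ₐ[Z] MonoidAlgebra Z (Multiplicative M) :=
    (MonoidAlgebra.mapDomainBialgHom Z (AddMonoidHom.toMultiplicative f)).toAlgHom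
  let ψ := Algebra.TensorProduct.map φ (AlgHom.id Z R)
  have hψ : Function.Injective ψ := by
    have hφ : Function.Injective φ.toLinearMap := MonoidAlgebra.mapDomain_injective (f := AddMonoidHom.toMultiplicative f)
      (fun a b h => Multiplicative.toAdd.injective (hf (congrArg Multiplicative.toAdd h)))
    obtain ⟨r, hr⟩ : ∃ r : MonoidAlgebra Z (Multiplicative M) →ₗ[Z] MonoidAlgebra Z (Multiplicative N),
        r ∘ₗ φ.toLinearMap = LinearMap.id := by
      refine ⟨(MonoidAlgebra.coeffLinearEquiv Z).symm.toLinearMap ∘ₗ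
        Finsupp.lcomapDomain (R := Z) (M := Z) (AddMonoidHom.toMultiplicative f)
          (fun a b h => Multiplicative.toAdd.injective (hf (congrArg Multiplicative.toAdd h))) ∘ₗ
        (MonoidAlgebra.coeffLinearEquiv Z).toLinearMap, LinearMap.ext fun x => ?_⟩
      apply (MonoidAlgebra.coeffLinearEquiv Z).injective
      simp only [LinearMap.comp_apply, LinearEquiv.coe_coe, LinearEquiv.apply_symm_apply, LinearMap.id_apply]
      exact Finsupp.leftInverse_lcomapDomain_mapDomain _ _ _
    intro x y h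
    have h' : φ.toLinearMap.rTensor R x = φ.toLinearMap.rTensor R y := h
    simpa only [← LinearMap.comp_apply, ← LinearMap.rTensor_comp, hr, LinearMap.rTensor_id, LinearMap.id_apply]
      using congrArg (r.rTensor R) h'
  have hg : IsTerminal.from specULiftZIsTerminal (Spec (CommRingCat.of R)) =
      Spec.map (CommRingCat.ofHom (algebraMap Z R)) := specULiftZIsTerminal.hom_ext _ _
  let cψ : CommRingCat.of (MonoidAlgebra Z (Multiplicative N) ⊗[Z] R) ⟶
      CommRingCat.of (MonoidAlgebra Z (Multiplicative M) ⊗[Z] R) := CommRingCat.ofHom ψ.toRingHom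
  have : IsSchemeTheoreticallyDominant (Spec.map cψ) := by
    rw [isSchemeTheoreticallyDominant_iff]
    refine Scheme.IdealSheafData.ext_of_isAffine ?_
    simp only [Scheme.Hom.ker_apply, Scheme.IdealSheafData.ideal_bot, Pi.bot_apply]
    rw [← RingHom.injective_iff_ker_eq_bot]
    intro x y hxy
    have h1 := congr($(Scheme.ΓSpecIso_naturality cψ) x)
    have h2 := congr($(Scheme.ΓSpecIso_naturality cψ) y)
    apply (Scheme.ΓSpecIso _).commRingCatIsoToRingEquiv.injective
    apply hψ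
    exact h1.symm.trans ((congrArg _ hxy).trans h2)
  let c (P : Type) [AddCommMonoid P] :
      (Magnet.AMonS (Spec (CommRingCat.of R)) P).left ≅ Spec (CommRingCat.of (MonoidAlgebra Z (Multiplicative P) ⊗[Z] R)) :=
    pullback.congrHom rfl hg ≪≫ pullbackSpecIso Z _ R
  have cl : ∀ (P : Type) [AddCommMonoid P], (c P).hom ≫ Spec.map (CommRingCat.ofHom Algebra.TensorProduct.includeLeftRingHom) =
      pullback.fst _ _ := fun P _ => by
    simp only [c, Iso.trans_hom, Category.assoc]
    erw [pullbackSpecIso_hom_fst]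
    exact (pullback.lift_fst _ _ _).trans (Category.comp_id _)
  have cr : ∀ (P : Type) [AddCommMonoid P], (c P).hom ≫ Spec.map (CommRingCat.ofHom Algebra.TensorProduct.includeRight.toRingHom) =
      pullback.snd _ _ := fun P _ => by
    simp only [c, Iso.trans_hom, Category.assoc]
    erw [pullbackSpecIso_hom_snd]
    exact (pullback.lift_snd _ _ _).trans (Category.comp_id _)
  have h1 : Spec.map cψ ≫ Spec.map (CommRingCat.ofHom Algebra.TensorProduct.includeLeftRingHom) =
      Spec.map (CommRingCat.ofHom Algebra.TensorProduct.includeLeftRingHom) ≫ Spec.map (CommRingCat.ofHom φ.toRingHom) := by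
    rw [← Spec.map_comp, ← Spec.map_comp]
    congr 1
  have h2 : Spec.map cψ ≫ Spec.map (CommRingCat.ofHom Algebra.TensorProduct.includeRight.toRingHom) =
      Spec.map (CommRingCat.ofHom Algebra.TensorProduct.includeRight.toRingHom) := by
    rw [← Spec.map_comp]
    congr 1
    refine CommRingCat.hom_ext (RingHom.ext fun a => ?_)
    show ψ (1 ⊗ₜ a) = 1 ⊗ₜ a
    simp [ψ]
  have hsq : (Magnet.AMonS.map (Spec (CommRingCat.of R)) f).left =
      (c M).hom ≫ Spec.map cψ ≫ (c N).inv := by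
    rw [← Category.assoc, Iso.eq_comp_inv]
    refine (cancel_mono (pullbackSpecIso Z _ R).inv).mp (pullback.hom_ext ?_ ?_)
    · simp only [Category.assoc, pullbackSpecIso_inv_fst]
      erw [cl N, h1, reassoc_of% (cl M)]
      exact pullback.lift_fst _ _ _
    · simp only [Category.assoc, pullbackSpecIso_inv_snd]
      erw [cr N, h2, cr M]
      exact pullback.lift_snd _ _ _
  rw [hsq]
  infer_instance

/-- Morphisms from the affine line to a separated scheme are determined on G_m. -/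
theorem ext_A1 {R : Type u} [CommRing R] {X : Over (Spec (CommRingCat.of R))} [IsSeparated X.hom]
    {a b : HMNum.A1 (Spec (CommRingCat.of R)) ⟶ X}
    (h : HMNum.incl (Spec (CommRingCat.of R)) ≫ a = HMNum.incl (Spec (CommRingCat.of R)) ≫ b) : a = b := by
  have : IsSchemeTheoreticallyDominant (HMNum.incl (Spec (CommRingCat.of R))).left :=
    isSchemeTheoreticallyDominant_map R HMNum.plus.subtype Subtype.val_injective
  exact Over.OverMorphism.ext (GrpScheme.Ext.ext_of_schematicallyDominant _ X.hom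
    (by rw [Over.w, Over.w]) (congrArg CommaMorphism.left h))

variable {R : Type u} [CommRing R] {G X : Over (Spec (CommRingCat.of R))} [GrpObj G] (a : AlgGrp.Action G X)

local notation "S" => Spec (CommRingCat.of R)
local notation "pt" => 𝟙_ (Over (Spec (CommRingCat.of R)))

theorem subAct_act {T' : Over S} (g : T' ⟶ Red.Gm S) (b : T' ⟶ HMNum.A1 S) :
    lift g b ≫ (Magnet.subAct S ℤ HMNum.plus).act = (g ≫ HMNum.incl S) * b :=
  (Magnet.MonAct.lift_restrict_act _ _ g b).trans (Magnet.MonAct.lift_regular_act _ _)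

/-- A limit is an equivariant morphism from the affine line. -/
theorem isLimitPt_iff (l : Red.Gm S ⟶ G) [IsMonHom l] (x y : pt ⟶ X) :
    HMNum.IsLimitPt a l x y ↔ ∃ f : HMNum.A1 S ⟶ X,
      (∀ (T' : Over S) (g : T' ⟶ Red.Gm S) (b : T' ⟶ HMNum.A1 S),
        ((g ≫ HMNum.incl S) * b) ≫ f = lift (g ≫ l) (b ≫ f) ≫ a.act) ∧
      η ≫ f = x ∧ HMNum.origin S ≫ f = y := by
  constructor
  · rintro ⟨φ, hx, hy⟩
    refine ⟨(ρ_ (HMNum.A1 S)).inv ≫ φ.1, fun T' g b => ?_, ?_, ?_⟩
    · have e := (Magnet.MonAct.mem_eqvHom_iff φ.1).mp φ.2 T' g b (toUnit _)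
      rw [Magnet.MonAct.lift_restrict_act, Magnet.MonAct.ofAction_act] at e
      erw [subAct_act] at e
      have r : ∀ (T'' : Over S) (b : T'' ⟶ HMNum.A1 S), b ≫ (ρ_ (HMNum.A1 S)).inv = lift b (toUnit _) :=
        fun T'' b => by
          rw [Iso.comp_inv_eq, rightUnitor_hom, lift_fst]
      rw [reassoc_of% r, reassoc_of% r]
      exact e
    · refine Eq.trans ?_ hx
      show η ≫ (ρ_ (HMNum.A1 S)).inv ≫ φ.1 = CartesianMonoidalCategory.lift (toUnit _ ≫ η) (𝟙 _) ≫ φ.1
      rw [← Category.assoc]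
      congr 1
      rw [Iso.comp_inv_eq, rightUnitor_hom, lift_fst, toUnit_unique (toUnit pt) (𝟙 _)]
      exact (Category.id_comp _).symm
    · refine Eq.trans ?_ hy
      rw [HMNum.limitPt_eq]
      show HMNum.origin S ≫ (ρ_ (HMNum.A1 S)).inv ≫ φ.1 =
        CartesianMonoidalCategory.lift (toUnit _ ≫ HMNum.origin S) (𝟙 _) ≫ φ.1
      rw [← Category.assoc]
      congr 1
      rw [Iso.comp_inv_eq, rightUnitor_hom, lift_fst, toUnit_unique (toUnit pt) (𝟙 _)]
      exact (Category.id_comp _).symm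
  · rintro ⟨f, hf, hx, hy⟩
    refine ⟨⟨fst _ _ ≫ f, ?_⟩, ?_, ?_⟩
    · rw [Magnet.MonAct.mem_eqvHom_iff]
      intro T' g b t
      rw [Magnet.MonAct.lift_restrict_act, Magnet.MonAct.ofAction_act, lift_fst_assoc, lift_fst_assoc]
      erw [subAct_act]
      exact hf T' g b
    · show CartesianMonoidalCategory.lift (toUnit _ ≫ η) (𝟙 _) ≫ fst _ _ ≫ f = x
      rw [lift_fst_assoc, toUnit_unique (toUnit pt) (𝟙 _), Category.assoc, hx]
      exact Category.id_comp _
    · rw [HMNum.limitPt_eq]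
      show CartesianMonoidalCategory.lift (toUnit _ ≫ HMNum.origin S) (𝟙 _) ≫ fst _ _ ≫ f = y
      rw [lift_fst_assoc, toUnit_unique (toUnit pt) (𝟙 _), Category.assoc, hy]
      exact Category.id_comp _

/-- Limits are unique for a separated scheme. -/
theorem isLimitPt_unique [IsSeparated X.hom] (l : Red.Gm S ⟶ G) [IsMonHom l] {x y y' : pt ⟶ X}
    (h : HMNum.IsLimitPt a l x y) (h' : HMNum.IsLimitPt a l x y') : y = y' := by
  obtain ⟨f, hf, hx, rfl⟩ := (isLimitPt_iff a l x y).mp h
  obtain ⟨f', hf', hx', rfl⟩ := (isLimitPt_iff a l x y').mp h'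
  have e : f = f' := by
    refine ext_A1 ?_
    have e1 := hf (Red.Gm S) (𝟙 _) 1
    have e1' := hf' (Red.Gm S) (𝟙 _) 1
    rw [Category.id_comp, _root_.mul_one] at e1 e1'
    simp only [Category.id_comp, Hom.one_def, Category.assoc, hx, hx'] at e1 e1'
    exact e1.trans e1'.symm
  rw [e]

/-- A fixed point is its own limit. -/
theorem isLimitPt_of_isFixedBy (l : Red.Gm S ⟶ G) [IsMonHom l] {y : pt ⟶ X} (h : HMNum.IsFixedBy a l y) :
    HMNum.IsLimitPt a l y y := by
  refine (isLimitPt_iff a l y y).mpr ⟨toUnit _ ≫ y, fun T' g b => ?_, ?_, ?_⟩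
  · simp only [← Category.assoc]
    rw [toUnit_unique (_ ≫ toUnit _) (toUnit T'), toUnit_unique (b ≫ toUnit _) (toUnit T')]
    exact (h T' (toUnit T') g).symm
  · rw [← Category.assoc, toUnit_unique (η ≫ toUnit _) (𝟙 _), Category.id_comp]
  · rw [← Category.assoc, toUnit_unique (HMNum.origin S ≫ toUnit _) (𝟙 _), Category.id_comp]

/-- Translating an extended orbit map by a point. -/
theorem isLimitPt_translate (l l' : Red.Gm S ⟶ G) [IsMonHom l] [IsMonHom l'] (g₀ : pt ⟶ G)
    (hl' : (toUnit _ ≫ g₀) * l' = l * (toUnit _ ≫ g₀)) {x y : pt ⟶ X}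
    (h : HMNum.IsLimitPt a l' x y) :
    HMNum.IsLimitPt a l (lift g₀ x ≫ a.act) (lift g₀ y ≫ a.act) := by
  obtain ⟨f, hf, rfl, rfl⟩ := (isLimitPt_iff a l' x y).mp h
  refine (isLimitPt_iff a l _ _).mpr ⟨lift (toUnit _ ≫ g₀) f ≫ a.act, fun T' g b => ?_, ?_, ?_⟩
  · have h1 := congrArg (fun m => g ≫ m) hl'
    simp only [MonObj.comp_mul, ← Category.assoc, toUnit_unique (_ ≫ toUnit _) (toUnit T')] at h1
    simp only [comp_lift_assoc, ← Category.assoc, toUnit_unique (_ ≫ toUnit _) (toUnit T')]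
    simp only [comp_lift, ← Category.assoc, toUnit_unique (_ ≫ toUnit _) (toUnit T')]
    rw [hf, ← a.lift_mul_act, ← a.lift_mul_act, h1]
  · simp [comp_lift_assoc, toUnit_unique (toUnit pt) (𝟙 _)]
  · simp [comp_lift_assoc, toUnit_unique (toUnit pt) (𝟙 _)]

/-- The zero section absorbs G_m. -/
theorem incl_mul_origin {T' : Over S} (g : T' ⟶ Red.Gm S) :
    (g ≫ HMNum.incl S) * (toUnit T' ≫ HMNum.origin S) = toUnit T' ≫ HMNum.origin S := by
  have hbij : Function.Bijective (algebraMap (ULift.{u} ℤ) (MonoidAlgebra (ULift.{u} ℤ) (Multiplicative ↥(⊥ : AddSubmonoid ℤ)))) := by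
    have : Subsingleton ↥(⊥ : AddSubmonoid ℤ) := ⟨fun ⟨p, hp⟩ ⟨q, hq⟩ => Subtype.ext (hp.trans hq.symm)⟩
    have e1 : ∀ c, algebraMap (ULift.{u} ℤ) (MonoidAlgebra (ULift.{u} ℤ) (Multiplicative ↥(⊥ : AddSubmonoid ℤ))) c =
        MonoidAlgebra.single 1 c := fun c => by simp [MonoidAlgebra.coe_algebraMap]
    refine ⟨fun p q e => ?_, fun x => ⟨x.coeff 1, ?_⟩⟩
    · rw [e1, e1] at e
      exact MonoidAlgebra.single_right_injective e
    · rw [e1]
      ext m
      rw [Subsingleton.elim m 1]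
      simp
  have hi : IsIso (CommRingCat.ofHom (algebraMap (ULift.{u} ℤ)
      (MonoidAlgebra (ULift.{u} ℤ) (Multiplicative ↥(⊥ : AddSubmonoid ℤ))))) :=
    (ConcreteCategory.isIso_iff_bijective _).mpr hbij
  have : IsIso (Magnet.AMon (ULift.{u} ℤ) ↥(⊥ : AddSubmonoid ℤ)).hom :=
    inferInstanceAs (IsIso (Spec.map (CommRingCat.ofHom (algebraMap (ULift.{u} ℤ)
      (MonoidAlgebra (ULift.{u} ℤ) (Multiplicative ↥(⊥ : AddSubmonoid ℤ)))))))
  have : IsIso (Magnet.AMonS S ↥(⊥ : AddSubmonoid ℤ)).hom := by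
    show IsIso (pullback.snd (Magnet.AMon (ULift.{u} ℤ) ↥(⊥ : AddSubmonoid ℤ)).hom _)
    infer_instance
  have hsub : ∀ b₁ b₂ : T' ⟶ Magnet.AMonS S ↥(⊥ : AddSubmonoid ℤ), b₁ = b₂ := fun b₁ b₂ =>
    Over.OverMorphism.ext ((cancel_mono (Magnet.AMonS S ↥(⊥ : AddSubmonoid ℤ)).hom).mp
      ((Over.w b₁).trans (Over.w b₂).symm))
  have h := (Magnet.MonAct.isEquivariant_iff _ _ _).mp (Magnet.isEquivariant_faceMapS S HMNum.isFace_bot) T' g
    (toUnit T' ≫ η)
  erw [subAct_act] at h
  rw [HMNum.origin, ← Category.assoc]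
  refine h.symm.trans ?_
  rw [← Category.assoc]
  exact congrArg (· ≫ Magnet.AMonS.faceMap S HMNum.isFace_bot) (hsub _ _)

/-- A limit is fixed. -/
theorem isFixedBy_of_isLimitPt (l : Red.Gm S ⟶ G) [IsMonHom l] {x y : pt ⟶ X} (h : HMNum.IsLimitPt a l x y) :
    HMNum.IsFixedBy a l y := by
  obtain ⟨f, hf, -, rfl⟩ := (isLimitPt_iff a l x y).mp h
  intro T' t g
  have e := hf T' g (t ≫ HMNum.origin S)
  rw [toUnit_unique t (toUnit T'), incl_mul_origin] at e
  simp only [Category.assoc] at e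
  rw [toUnit_unique t (toUnit T')]
  exact e.symm

end Groth.Agent.GITLib.HM
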