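import Groth.Agent.GITLib.HMFunctional

/-!
# The numerical function on a maximal torus
-/

set_option autoImplicit false

universe u

open CategoryTheory MonoidalCategory CartesianMonoidalCategory MonObj AlgebraicGeometry Opposite

namespace Groth.Agent.GITLib.HMTorusMax

theorem exists_functionals {k : Type u} [Field k] [IsAlgClosed k] {G X T : Over (Spec (CommRingCat.of k))}
    [GrpObj G] [GrpObj T] (i : T ⟶ G) [IsMonHom i] (hT : Red.IsTorus T) [IsProper X.hom]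
    {a : AlgGrp.Action G X} (B : GLinSh.LinBun G a) (hB : HMNum.AmpleCover B) :
    ∃ (n : ℕ) (ℓ : Fin n → (Red.Gm (Spec (CommRingCat.of k)) ⟶ T) → ℚ),
      (∀ (j : Fin n) (l₁ l₂ : Red.Gm (Spec (CommRingCat.of k)) ⟶ T) [IsMonHom l₁] [IsMonHom l₂],
          ℓ j (l₁ * l₂) = ℓ j l₁ + ℓ j l₂) ∧
      ∀ (x : 𝟙_ (Over (Spec (CommRingCat.of k))) ⟶ X), ∃ I : Finset (Fin n),
        ∀ (l : Red.Gm (Spec (CommRingCat.of k)) ⟶ T),
          (IsMonHom l ∨ ∃ (l₁ l₂ : Red.Gm (Spec (CommRingCat.of k)) ⟶ T),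
            IsMonHom l₁ ∧ IsMonHom l₂ ∧ l = l₁ * l₂) →
          ∀ [IsMonHom (l ≫ i)] (m : ℤ),
            HMNum.IsMu B (l ≫ i) x m ↔ ∃ j ∈ I, (m : ℚ) = ℓ j l ∧ ∀ j' ∈ I, ℓ j' l ≤ ℓ j l := by
  have hM : SGA3x.IsMultTypeFT T := by
    obtain ⟨S', f, h1, h2, h3, h4⟩ := hT
    refine ⟨S', f, h1, h2, h3, fun s' => ?_⟩
    obtain ⟨U, hU, r, e⟩ := h4 s'
    exact ⟨U, hU, Fin r → ℤ, inferInstance, (Module.Finite.iff_addGroup_fg (G := Fin r → ℤ)).mp inferInstance, e⟩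
  have := DiagRig.multType_isAffineHom T hM
  have : IsAffine T.left := isAffine_of_isAffineHom T.hom
  obtain ⟨A, hA, e₀, he₀⟩ := AffGrp.Bridge.exists_iso T
  obtain ⟨n, ℓ, hadd, hmu⟩ := HMFunctional.exists_functionals e₀ B i hT hB
  refine ⟨n, ℓ, fun j l₁ l₂ _ _ => hadd j l₁ l₂ (HMChar.hasExpo_of_isMonHom e₀ l₁) (HMChar.hasExpo_of_isMonHom e₀ l₂),
    fun x => ?_⟩
  obtain ⟨I, hI⟩ := hmu x
  refine ⟨I, fun l hl _ m => hI l ?_ m⟩
  rcases hl with hl | ⟨l₁, l₂, h₁, h₂, rfl⟩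
  · exact HMChar.hasExpo_of_isMonHom e₀ l
  · exact HMChar.hasExpo_mul e₀ (HMChar.hasExpo_of_isMonHom e₀ l₁) (HMChar.hasExpo_of_isMonHom e₀ l₂)

end Groth.Agent.GITLib.HMTorusMax
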