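import Mathlib

/-!
# The maximiser of a minimum of linear functionals over the norm, on a rational cone
-/

set_option autoImplicit false

universe u v

open Filter Topology

namespace Groth.Agent.GITLib.LatticeMax

/-- A linear system with rational data: a solution with uniquely determined `x` has rational `x`. -/
theorem exists_rat_of_unique {α β κ : Type*} [Fintype α] [Fintype β]
    (P : κ → α → ℚ) (Q : κ → β → ℚ) (c : κ → ℚ) (x : α → ℝ) (l : β → ℝ)
    (h : ∀ e, ∑ a, (P e a : ℝ) * x a + ∑ b, (Q e b : ℝ) * l b = c e)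
    (uniq : ∀ (x' : α → ℝ) (l' : β → ℝ),
      (∀ e, ∑ a, (P e a : ℝ) * x' a + ∑ b, (Q e b : ℝ) * l' b = c e) → x' = x) :
    ∃ x' : α → ℚ, ∀ a, x a = x' a := by
  obtain ⟨π, hπ⟩ := LinearMap.exists_leftInverse_of_injective (Algebra.linearMap ℚ ℝ)
    (LinearMap.ker_eq_bot.2 (Rat.cast_injective))
  have hq : ∀ q : ℚ, π (q : ℝ) = q := fun q => LinearMap.congr_fun hπ q
  have hmul : ∀ (q : ℚ) (r : ℝ), π ((q : ℝ) * r) = q * π r := fun q r => by
    rw [← Rat.smul_def, map_smul, smul_eq_mul]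
  refine ⟨fun a => π (x a), fun a => ?_⟩
  refine congrFun (uniq (fun a => ((π (x a) : ℚ) : ℝ)) (fun b => ((π (l b) : ℚ) : ℝ)) fun e => ?_).symm a
  have := congrArg π (h e)
  simp only [map_add, map_sum, hmul, hq] at this
  rw [← this]
  push_cast
  rfl

variable {E : Type u} [NormedAddCommGroup E] [InnerProductSpace ℝ E] [FiniteDimensional ℝ E]

theorem inf'_smul (G : Finset (Module.Dual ℝ E)) (hG : G.Nonempty) {c : ℝ} (hc : 0 < c) (v : E) :
    G.inf' hG (fun g => g (c • v)) = c * G.inf' hG (fun g => g v) := by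
  simp only [map_smul, smul_eq_mul]
  refine le_antisymm ?_ ?_
  · obtain ⟨g, hg, h⟩ := G.exists_mem_eq_inf' hG fun g => g v
    rw [h]
    exact Finset.inf'_le _ hg
  · exact Finset.le_inf' _ _ fun g hg => mul_le_mul_of_nonneg_left (Finset.inf'_le (fun g => g v) hg) hc.le

theorem continuous_inf' (G : Finset (Module.Dual ℝ E)) (hG : G.Nonempty) :
    Continuous fun v : E => G.inf' hG (fun g => g v) :=
  Continuous.finset_inf'_apply hG fun g _ => g.continuous_of_finiteDimensional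

/-- A point of least norm of `{f ≥ 0, g ≥ 1}` has a positive integer multiple in the lattice. -/
theorem exists_nat_smul_mem (L : Submodule ℤ E) [DiscreteTopology L] [IsZLattice ℝ L]
    (hint : ∀ x ∈ L, ∀ y ∈ L, ∃ n : ℤ, inner ℝ x y = (n : ℝ))
    (F G : Finset (Module.Dual ℝ E))
    (hFi : ∀ f ∈ F, ∀ x ∈ L, ∃ n : ℤ, f x = (n : ℝ)) (hGi : ∀ g ∈ G, ∀ x ∈ L, ∃ n : ℤ, g x = (n : ℝ))
    (v : E) (hf : ∀ f ∈ F, 0 ≤ f v) (hg : ∀ g ∈ G, 1 ≤ g v)
    (hmin : ∀ w, (∀ f ∈ F, 0 ≤ f w) → (∀ g ∈ G, 1 ≤ g w) → ‖v‖ ≤ ‖w‖) :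
    ∃ n : ℕ, 0 < n ∧ (n : ℝ) • v ∈ L := by
  classical
  have : Module.Finite ℤ L := ZLattice.module_finite ℝ L
  have : Module.Free ℤ L := ZLattice.module_free ℝ L
  let b₀ := Module.Free.chooseBasis ℤ L
  let b := b₀.ofZLatticeBasis ℝ L
  have hbL : ∀ a, b a ∈ L := fun a => by simp [b]
  let Fa := F.filter fun f => f v = 0
  let Ga := G.filter fun g => g v = 1
  let Λ : ↥Fa ⊕ ↥Ga → Module.Dual ℝ E := Sum.elim (fun f => f.1) (fun g => g.1)
  let val : ↥Fa ⊕ ↥Ga → ℚ := Sum.elim (fun _ => 0) (fun _ => 1)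
  have hΛv : ∀ i, Λ i v = val i := by
    rintro (⟨f, hf⟩ | ⟨g, hg⟩)
    · simp [Λ, val, (Finset.mem_filter.1 hf).2]
    · simp [Λ, val, (Finset.mem_filter.1 hg).2]
  have horth : ∀ d, (∀ i, Λ i d = 0) → inner ℝ v d = 0 := by
    intro d hd
    have hev : ∀ᶠ t : ℝ in 𝓝 0, (∀ f ∈ F, 0 ≤ f (v + t • d)) ∧ (∀ g ∈ G, 1 ≤ g (v + t • d)) := by
      refine Eventually.and ?_ ?_
      · refine (Finset.eventually_all F).2 fun f hfF => ?_
        rcases (hf f hfF).eq_or_lt with h | h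
        · refine Eventually.of_forall fun t => le_of_eq ?_
          have h0 : f d = 0 := hd (Sum.inl ⟨f, Finset.mem_filter.2 ⟨hfF, h.symm⟩⟩)
          simp [h0, ← h]
        · have : Tendsto (fun t : ℝ => f (v + t • d)) (𝓝 0) (𝓝 (f v)) := by
            have h1 : Continuous fun t : ℝ => f v + t * f d := by fun_prop
            simpa using h1.tendsto 0
          exact (this.eventually (lt_mem_nhds h)).mono fun t ht => ht.le
      · refine (Finset.eventually_all G).2 fun g hgG => ?_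
        rcases (hg g hgG).eq_or_lt with h | h
        · refine Eventually.of_forall fun t => le_of_eq ?_
          have h0 : g d = 0 := hd (Sum.inr ⟨g, Finset.mem_filter.2 ⟨hgG, h.symm⟩⟩)
          simp [h0, ← h]
        · have : Tendsto (fun t : ℝ => g (v + t • d)) (𝓝 0) (𝓝 (g v)) := by
            have h1 : Continuous fun t : ℝ => g v + t * g d := by fun_prop
            simpa using h1.tendsto 0
          exact (this.eventually (lt_mem_nhds h)).mono fun t ht => ht.le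
    obtain ⟨δ, hδ, hball⟩ := Metric.eventually_nhds_iff.1 hev
    have key : ∀ t : ℝ, |t| < δ → 0 ≤ 2 * t * inner ℝ v d + t ^ 2 * ‖d‖ ^ 2 := by
      intro t ht
      obtain ⟨h1, h2⟩ := hball (show dist t 0 < δ by simpa using ht)
      have h3 := pow_le_pow_left₀ (norm_nonneg v) (hmin _ h1 h2) 2
      rw [norm_add_sq_real, inner_smul_right, norm_smul, mul_pow, Real.norm_eq_abs, sq_abs] at h3
      linarith
    by_contra hne
    have habs := abs_pos.2 hne
    let s : ℝ := min (δ / 2) (|inner ℝ v d| / (‖d‖ ^ 2 + 1))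
    have hs : 0 < s := lt_min (by positivity) (by positivity)
    have hs1 : s < δ := (min_le_left _ _).trans_lt (by linarith)
    have hs2 : s * (‖d‖ ^ 2 + 1) ≤ |inner ℝ v d| := (le_div_iff₀ (by positivity)).1 (min_le_right _ _)
    rcases lt_or_gt_of_ne hne with h | h
    · have := key s (by rwa [abs_of_pos hs])
      rw [abs_of_neg h] at hs2
      nlinarith [mul_le_mul_of_nonneg_left hs2 hs.le]
    · have := key (-s) (by rwa [abs_neg, abs_of_pos hs])
      rw [abs_of_pos h] at hs2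
      nlinarith [mul_le_mul_of_nonneg_left hs2 hs.le]
  have hspan : innerₛₗ ℝ v ∈ Submodule.span ℝ (Set.range Λ) := by
    refine mem_span_of_iInf_ker_le_ker fun d hd => ?_
    simp only [Submodule.mem_iInf, LinearMap.mem_ker] at hd
    rw [LinearMap.mem_ker]
    exact horth d hd
  obtain ⟨l, hl⟩ := Submodule.mem_span_range_iff_exists_fun ℝ |>.1 hspan
  have hlv : ∀ z, inner ℝ v z = ∑ i, l i * Λ i z := fun z => by
    have := LinearMap.congr_fun hl z
    simpa using this.symm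
  have hΛint : ∀ i a, ∃ n : ℤ, Λ i (b a) = n := by
    rintro (⟨f, hf⟩ | ⟨g, hg⟩) a
    · exact hFi f (Finset.mem_filter.1 hf).1 _ (hbL a)
    · exact hGi g (Finset.mem_filter.1 hg).1 _ (hbL a)
  choose N hN using hΛint
  choose I hI using fun a a' => hint _ (hbL a) _ (hbL a')
  have hlin : ∀ (x : E) (φ : Module.Dual ℝ E), φ x = ∑ a, b.repr x a * φ (b a) := fun x φ => by
    conv_lhs => rw [← b.sum_repr x, map_sum]
    simp
  obtain ⟨x', hx'⟩ := exists_rat_of_unique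
    (κ := (↥Fa ⊕ ↥Ga) ⊕ Module.Free.ChooseBasisIndex ℤ L)
    (α := Module.Free.ChooseBasisIndex ℤ L) (β := ↥Fa ⊕ ↥Ga)
    (fun e a => Sum.elim (fun i => (N i a : ℚ)) (fun c => (I a c : ℚ)) e)
    (fun e i => Sum.elim (fun _ => 0) (fun c => -(N i c : ℚ)) e)
    (fun e => Sum.elim val (fun _ => 0) e) (fun a => b.repr v a) l
    (by
      rintro (i | c)
      · simp only [Sum.elim_inl, Rat.cast_intCast, Rat.cast_zero, zero_mul, Finset.sum_const_zero, add_zero]
        rw [← hΛv i, hlin v (Λ i)]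
        exact Finset.sum_congr rfl fun a _ => by rw [hN i a, mul_comm]
      · simp only [Sum.elim_inr, Rat.cast_neg, Rat.cast_intCast, Rat.cast_zero, neg_mul, Finset.sum_neg_distrib]
        have h1 : inner ℝ v (b c) = ∑ a, (I a c : ℝ) * b.repr v a := by
          conv_lhs => rw [← b.sum_repr v, sum_inner]
          exact Finset.sum_congr rfl fun a _ => by rw [real_inner_smul_left, hI a c, mul_comm]
        rw [← h1, hlv]
        exact sub_eq_zero.2 (Finset.sum_congr rfl fun i _ => by rw [hN i c, mul_comm]))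
    (fun y m hy => by
      let w := ∑ a, y a • b a
      have hw : ∀ a, b.repr w a = y a := fun a => by rw [b.repr_sum_self]
      have h1 : ∀ i, Λ i (w - v) = 0 := fun i => by
        have := hy (Sum.inl i)
        simp only [Sum.elim_inl, Rat.cast_intCast, Rat.cast_zero, zero_mul, Finset.sum_const_zero, add_zero] at this
        rw [map_sub, hΛv, hlin w, ← this, sub_eq_zero]
        exact Finset.sum_congr rfl fun a _ => by rw [hw, hN i a, mul_comm]
      have h2 : ∀ z, inner ℝ w z = ∑ i, m i * Λ i z := by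
        intro z
        have h3 : ∀ c, inner ℝ w (b c) = ∑ i, m i * Λ i (b c) := fun c => by
          have := hy (Sum.inr c)
          simp only [Sum.elim_inr, Rat.cast_neg, Rat.cast_intCast, Rat.cast_zero, neg_mul, Finset.sum_neg_distrib,
            ← sub_eq_add_neg, sub_eq_zero] at this
          simp only [w, sum_inner, real_inner_smul_left, hI, hN]
          calc ∑ a, y a * (I a c : ℝ) = ∑ a, (I a c : ℝ) * y a := Finset.sum_congr rfl fun a _ => mul_comm _ _
            _ = _ := this.trans (Finset.sum_congr rfl fun i _ => mul_comm _ _)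
        rw [← b.sum_repr z, inner_sum]
        simp only [map_sum, map_smul, smul_eq_mul, real_inner_smul_right, h3, Finset.mul_sum]
        rw [Finset.sum_comm]
        exact Finset.sum_congr rfl fun i _ => Finset.sum_congr rfl fun a _ => by ring
      have h4 : inner ℝ (w - v) (w - v) = 0 := by
        rw [inner_sub_left, h2, hlv]
        simp [h1]
      have h5 : w = v := sub_eq_zero.1 (inner_self_eq_zero.1 h4)
      funext a
      rw [← hw a, h5])
  let D : ℕ := ∏ a, (x' a).den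
  refine ⟨D, Finset.prod_pos fun a _ => (x' a).pos, ?_⟩
  rw [← b.sum_repr v, Finset.smul_sum]
  refine Submodule.sum_mem _ fun a _ => ?_
  rw [smul_smul]
  obtain ⟨e, he⟩ : ∃ e : ℕ, D = (x' a).den * e := Finset.dvd_prod_of_mem (fun a => (x' a).den) (Finset.mem_univ a)
  have hval : (D : ℝ) * b.repr v a = ((e : ℤ) * (x' a).num : ℤ) := by
    rw [hx' a, he]
    push_cast
    rw [Rat.cast_def]
    field_simp
  rw [hval, Int.cast_smul_eq_zsmul]
  exact L.smul_mem _ (hbL a)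

theorem main (L : Submodule ℤ E) [DiscreteTopology L] [IsZLattice ℝ L]
    (hint : ∀ x ∈ L, ∀ y ∈ L, ∃ n : ℤ, inner ℝ x y = (n : ℝ))
    (F G : Finset (Module.Dual ℝ E)) (hF : F.Nonempty) (hG : G.Nonempty)
    (hFi : ∀ f ∈ F, ∀ x ∈ L, ∃ n : ℤ, f x = (n : ℝ)) (hGi : ∀ g ∈ G, ∀ x ∈ L, ∃ n : ℤ, g x = (n : ℝ))
    (hpos : ∃ v : E, 0 ≤ F.inf' hF (fun f => f v) ∧ 0 < G.inf' hG (fun g => g v)) :
    ∃ M : ℝ, IsGreatest ((fun v => G.inf' hG (fun g => g v) / ‖v‖) ''
        {v : E | v ≠ 0 ∧ 0 ≤ F.inf' hF (fun f => f v)}) M ∧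
      ∃! v₀ : E, v₀ ∈ L ∧ v₀ ≠ 0 ∧ 0 ≤ F.inf' hF (fun f => f v₀) ∧
        G.inf' hG (fun g => g v₀) / ‖v₀‖ = M ∧
        ∀ v ∈ L, v ≠ 0 → 0 ≤ F.inf' hF (fun f => f v) → G.inf' hG (fun g => g v) / ‖v‖ = M →
          ∃ n : ℤ, v = n • v₀ := by
  classical
  let φ : E → ℝ := fun v => G.inf' hG (fun g => g v)
  let ψ : E → ℝ := fun v => F.inf' hF (fun f => f v)
  have hφ0 : φ 0 = 0 := by simp [φ]
  obtain ⟨p, hp1, hp2⟩ := hpos
  have hp0 : p ≠ 0 := fun h => by
    have h2 : (0 : ℝ) < φ p := hp2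
    rw [h, hφ0] at h2
    exact lt_irrefl _ h2
  have hK : IsCompact (Metric.sphere (0 : E) 1 ∩ {v | 0 ≤ ψ v}) :=
    (isCompact_sphere _ _).inter_right (isClosed_le continuous_const (continuous_inf' F hF))
  have hnorm : ∀ w : E, w ≠ 0 → (0 ≤ ψ w) → ‖w‖⁻¹ • w ∈ Metric.sphere (0 : E) 1 ∩ {v | 0 ≤ ψ v} := fun w hw hwψ =>
    ⟨by simp [norm_smul, hw], by
      show 0 ≤ ψ _
      rw [show ψ _ = _ from inf'_smul F hF (inv_pos.2 (norm_pos_iff.2 hw)) w]
      positivity⟩
  obtain ⟨u, ⟨hu1, hu2⟩, humax⟩ := hK.exists_isMaxOn ⟨_, hnorm p hp0 hp1⟩ (continuous_inf' G hG).continuousOn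
  have hu1' : ‖u‖ = 1 := by simpa using hu1
  let M := φ u
  have hle : ∀ w, 0 ≤ ψ w → φ w ≤ M * ‖w‖ := by
    intro w hw
    rcases eq_or_ne w 0 with rfl | hw0
    · simp [hφ0]
    · have h : φ (‖w‖⁻¹ • w) ≤ M := humax (hnorm w hw0 hw)
      rw [show φ _ = _ from inf'_smul G hG (inv_pos.2 (norm_pos_iff.2 hw0)) w,
        inv_mul_le_iff₀ (norm_pos_iff.2 hw0)] at h
      linarith
  have hM : 0 < M := by
    have h1 := hle p hp1
    have h2 : (0 : ℝ) < φ p := hp2
    nlinarith [norm_pos_iff.2 hp0]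
  refine ⟨M, ⟨⟨u, ⟨fun h => by simp [h] at hu1', hu2⟩, by simp [M, φ, hu1']⟩, ?_⟩, ?_⟩
  · rintro _ ⟨w, ⟨hw0, hw⟩, rfl⟩
    exact (div_le_iff₀ (norm_pos_iff.2 hw0)).2 (hle w hw)
  let v := M⁻¹ • u
  have hvφ : φ v = 1 := by
    rw [show φ v = _ from inf'_smul G hG (inv_pos.2 hM) u]
    exact inv_mul_cancel₀ hM.ne'
  have hvψ : 0 ≤ ψ v := by
    rw [show ψ v = _ from inf'_smul F hF (inv_pos.2 hM) u]
    exact mul_nonneg (inv_pos.2 hM).le hu2
  have hvn : ‖v‖ = M⁻¹ := by simp [v, norm_smul, hu1', abs_of_pos hM]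
  obtain ⟨q, hq, hqv⟩ := exists_nat_smul_mem L hint F G hFi hGi v
    (fun f hf => hvψ.trans (Finset.inf'_le (fun f => f v) hf))
    (fun g hg => hvφ.ge.trans (Finset.inf'_le (fun g => g v) hg))
    (fun w h1 h2 => by
      have := hle w (Finset.le_inf' _ _ h1)
      have h3 : 1 ≤ φ w := Finset.le_inf' _ _ h2
      rw [hvn, inv_le_iff_one_le_mul₀' hM]
      linarith)
  -- every maximiser lies on the ray of `v`
  have hray : ∀ w, w ≠ 0 → 0 ≤ ψ w → φ w / ‖w‖ = M → w = (M * ‖w‖) • v := by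
    intro w hw0 hwψ hwM
    have hwn := norm_pos_iff.2 hw0
    rw [div_eq_iff hwn.ne'] at hwM
    suffices hsame : ‖w‖⁻¹ • w = u by
      rw [smul_smul, mul_right_comm, mul_inv_cancel₀ hM.ne', one_mul, ← hsame, smul_smul,
        mul_inv_cancel₀ hwn.ne', one_smul]
    let w' := ‖w‖⁻¹ • w
    obtain ⟨hw'1, hw'2⟩ := hnorm w hw0 hwψ
    have hw'φ : φ w' = M := by
      rw [show φ w' = _ from inf'_smul G hG (inv_pos.2 hwn) w, show G.inf' hG (fun g => g w) = φ w from rfl, hwM]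
      field_simp
    have hz1 : 0 ≤ ψ (w' + u) := Finset.le_inf' _ _ fun f hf => by
      rw [map_add]
      exact add_nonneg (le_trans hw'2 (Finset.inf'_le (fun f => f w') hf)) (le_trans hu2 (Finset.inf'_le (fun f => f u) hf))
    have hz2 : 2 * M ≤ φ (w' + u) := Finset.le_inf' _ _ fun g hg => by
      rw [map_add]
      have h1 : φ w' ≤ g w' := Finset.inf'_le (fun g => g w') hg
      have h2 : φ u ≤ g u := Finset.inf'_le (fun g => g u) hg
      rw [hw'φ] at h1
      change M ≤ g u at h2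
      linarith
    have h2n : 2 ≤ ‖w' + u‖ := by nlinarith [hle _ hz1]
    have hw'n : ‖w'‖ = 1 := by simpa using hw'1
    have h2' := norm_sub_sq_real w' u
    have h3 := norm_add_sq_real w' u
    rw [hw'n, hu1'] at h2' h3
    have hd : ‖w' - u‖ ^ 2 = 0 := le_antisymm (by nlinarith [pow_le_pow_left₀ zero_le_two h2n 2]) (sq_nonneg _)
    exact sub_eq_zero.1 (norm_eq_zero.1 (pow_eq_zero_iff two_ne_zero |>.1 hd))
  clear_value v
  have hv0 : v ≠ 0 := fun h => by simp [h, hφ0] at hvφ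
  let H : AddSubgroup ℝ :=
    { carrier := {t | t • v ∈ L}
      zero_mem' := by simp
      add_mem' := fun {s t} hs ht => by
        show (s + t) • v ∈ L
        rw [add_smul]; exact L.add_mem hs ht
      neg_mem' := fun {t} ht => by
        show (-t) • v ∈ L
        rw [neg_smul]; exact L.neg_mem ht }
  have hgap : Disjoint (H : Set ℝ) (Set.Ioo 0 ‖v‖⁻¹) := by
    rw [Set.disjoint_left]
    rintro t ht ⟨ht0, ht1⟩
    obtain ⟨n, hn⟩ := hint _ ht _ ht
    rw [real_inner_self_eq_norm_sq, norm_smul, Real.norm_eq_abs, abs_of_pos ht0, mul_pow] at hn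
    rw [← one_div, lt_div_iff₀ (norm_pos_iff.2 hv0)] at ht1
    have h1 : (0 : ℝ) < n := by rw [← hn]; positivity
    have h2 : (1 : ℝ) ≤ n := by exact_mod_cast (show (0 : ℤ) < n by exact_mod_cast h1)
    nlinarith [mul_pos ht0 (norm_pos_iff.2 hv0)]
  obtain ⟨t, ht⟩ := AddSubgroup.cyclic_of_isolated_zero (inv_pos.2 (norm_pos_iff.2 hv0)) hgap
  have hqH : (q : ℝ) ∈ H := hqv
  rw [ht, AddSubgroup.mem_closure_singleton] at hqH
  obtain ⟨j, hj⟩ := hqH
  have ht0 : t ≠ 0 := fun h => by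
    rw [h, smul_zero] at hj
    exact hq.ne' (by exact_mod_cast hj.symm)
  let s := |t|
  have hs : 0 < s := abs_pos.2 ht0
  have hsH : ∀ x, x ∈ H ↔ ∃ m : ℤ, (m : ℝ) * s = x := by
    intro x
    rw [ht, AddSubgroup.mem_closure_singleton]
    rcases abs_choice t with h | h
    · simp [s, h, zsmul_eq_mul]
    · exact ⟨fun ⟨m, hm⟩ => ⟨-m, by simp [s, h, ← hm, zsmul_eq_mul]⟩,
        fun ⟨m, hm⟩ => ⟨-m, by simp [s, h] at hm; simp [← hm, zsmul_eq_mul]⟩⟩
  have hmul : ∀ c : ℝ, 0 < c → 0 ≤ ψ (c • v) ∧ φ (c • v) / ‖c • v‖ = M := fun c hc => by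
    refine ⟨?_, ?_⟩
    · rw [show ψ (c • v) = _ from inf'_smul F hF hc v]; exact mul_nonneg hc.le hvψ
    · rw [show φ (c • v) = _ from inf'_smul G hG hc v, show G.inf' hG (fun g => g v) = 1 from hvφ, norm_smul, hvn,
        Real.norm_eq_abs, abs_of_pos hc]
      field_simp
  have hall : ∀ w ∈ L, w ≠ 0 → 0 ≤ ψ w → φ w / ‖w‖ = M → ∃ m : ℤ, w = m • (s • v) := by
    intro w hwL hw0 hwψ hwM
    have hw := hray w hw0 hwψ hwM
    obtain ⟨m, hm⟩ := (hsH _).1 (show (M * ‖w‖) ∈ H by show (M * ‖w‖) • v ∈ L; rwa [← hw])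
    exact ⟨m, by rw [hw, ← Int.cast_smul_eq_zsmul ℝ m, smul_smul, hm]⟩
  refine ⟨s • v, ⟨(hsH s).2 ⟨1, by simp⟩, smul_ne_zero hs.ne' hv0, (hmul s hs).1, (hmul s hs).2, hall⟩, ?_⟩
  rintro w ⟨hwL, hw0, hwψ, hwM, hwall⟩
  obtain ⟨a, ha⟩ := hall w hwL hw0 hwψ hwM
  obtain ⟨c, hc⟩ := hwall (s • v) ((hsH s).2 ⟨1, by simp⟩) (smul_ne_zero hs.ne' hv0) (hmul s hs).1 (hmul s hs).2
  rw [ha, smul_smul] at hc
  have hca : c * a = 1 := by
    by_contra hne
    have h0 : ((c * a - 1 : ℤ) : ℝ) • (s • v) = 0 := by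
      rw [Int.cast_smul_eq_zsmul, sub_smul, one_smul, ← hc, sub_self]
    rcases smul_eq_zero.1 h0 with h | h
    · exact sub_ne_zero.2 hne (by exact_mod_cast h)
    · exact smul_ne_zero hs.ne' hv0 h
  have hapos : 0 < a := by
    have h1 : (0 : ℝ) < φ w := by
      rw [div_eq_iff (norm_pos_iff.2 hw0).ne'] at hwM
      rw [show φ w = _ from hwM]
      exact mul_pos hM (norm_pos_iff.2 hw0)
    by_contra hneg
    push Not at hneg
    obtain ⟨g, hg⟩ := hG
    have h2 : φ w ≤ g w := Finset.inf'_le (fun g => g w) hg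
    have h3 : (0 : ℝ) ≤ g (s • v) := by
      rw [map_smul, smul_eq_mul]
      exact mul_nonneg hs.le (zero_le_one.trans (hvφ.ge.trans (Finset.inf'_le (fun g => g v) hg)))
    rw [ha, map_zsmul, zsmul_eq_mul] at h2
    rw [← ha] at h2
    nlinarith [mul_nonpos_of_nonpos_of_nonneg (show (a : ℝ) ≤ 0 by exact_mod_cast hneg) h3]
  rcases Int.eq_one_or_neg_one_of_mul_eq_one' hca with ⟨-, ha1⟩ | ⟨-, ha1⟩
  · rw [ha, ha1, one_smul]
  · lia

end Groth.Agent.GITLib.LatticeMax
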