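import Groth.Agent.GITLib.LineTotal
import Groth.Agent.GITLib.Orbit
import Groth.Prelude.Def_GLinSh

/-!
# The linearised line bundle pulled back along an invariant morphism
-/

set_option autoImplicit false
set_option linter.style.haveILetI false
set_option backward.isDefEq.respectTransparency false

universe u

open CategoryTheory CategoryTheory.Limits MonoidalCategory CartesianMonoidalCategory MonObj AlgebraicGeometry
  TopologicalSpace Opposite
open Groth.Agent.QCoh Groth.Agent.Props.GenLocus Groth.Agent.AmpleLib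

noncomputable section

namespace Groth.Agent.GITLib.LinBunPullback

open LineTotal (alg fn)

theorem appLE_congr_hom {A B : Scheme.{u}} {f g : A ⟶ B} (h : f = g) {U : B.Opens} {V : A.Opens}
    (e : V ≤ f ⁻¹ᵁ U) : f.appLE U V e = g.appLE U V (h ▸ e) := by subst h; rfl

variable {S : Scheme.{u}} {G X Y : Over S} [GrpObj G] (a : AlgGrp.Action G X) (φ : X ⟶ Y)
  (E : Y.left.Modules) [E.IsQuasicoherent]

/-- The total space on the base. -/
abbrev Vy : Over S := Over.mk ((alg E).π ≫ Y.hom)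

/-- The projection on the base. -/
def πy : Vy E ⟶ Y := Over.homMk (alg E).π rfl

/-- The pulled back total space. -/
abbrev V : Over S := Over.mk (pullback.fst φ.left (alg E).π ≫ X.hom)

/-- Its projection. -/
def π : V φ E ⟶ X := Over.homMk (pullback.fst φ.left (alg E).π) rfl

/-- Its map to the total space on the base. -/
def pr : V φ E ⟶ Vy E := Over.homMk (pullback.snd φ.left (alg E).π) (by
  show pullback.snd φ.left (alg E).π ≫ (alg E).π ≫ Y.hom = pullback.fst φ.left (alg E).π ≫ X.hom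
  rw [← pullback.condition_assoc, Over.w φ])

lemma pr_comp : pr φ E ≫ πy E = π φ E ≫ φ := Over.OverMorphism.ext pullback.condition.symm

/-- The underlying map to the total space on the base. -/
abbrev prl : (V φ E).left ⟶ (alg E).spec := pullback.snd φ.left (alg E).π

theorem le_pr {U₀ : Y.left.Opens} {U : X.left.Opens} (h : U ≤ φ.left ⁻¹ᵁ U₀) :
    (π φ E).left ⁻¹ᵁ U ≤ (prl φ E) ⁻¹ᵁ ((alg E).π ⁻¹ᵁ U₀) := by
  refine le_trans ((π φ E).left.preimage_mono h) (le_of_eq ?_)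
  show ((π φ E).left ≫ φ.left) ⁻¹ᵁ U₀ = ((prl φ E) ≫ (alg E).π) ⁻¹ᵁ U₀
  rw [show (π φ E).left ≫ φ.left = (prl φ E) ≫ (alg E).π from pullback.condition]

/-- Charts: pullbacks of generators on affine opens. -/
def chart (U : X.left.Opens) : Set Γ((V φ E).left, (π φ E).left ⁻¹ᵁ U) :=
  {y | ∃ (U₀ : Y.left.Opens) (b : Γ(E, U₀)) (h : U = φ.left ⁻¹ᵁ U₀),
    IsAffineOpen U₀ ∧ IsGen E U₀ b ∧
    y = (prl φ E).appLE ((alg E).π ⁻¹ᵁ U₀) ((π φ E).left ⁻¹ᵁ U) (le_pr φ E h.le) (fn E U₀ b)}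

theorem coord {U : X.left.Opens} {y : Γ((V φ E).left, (π φ E).left ⁻¹ᵁ U)} (hy : y ∈ chart φ E U) :
    GLinSh.IsFibreCoord (π φ E) U y := by
  obtain ⟨U₀, b, rfl, hU₀, hb, rfl⟩ := hy
  intro W hW hWU
  have hO : IsAffineOpen ((alg E).π ⁻¹ᵁ U₀) := hU₀.preimage (alg E).π
  have H : IsPullback (prl φ E) (π φ E).left (alg E).π φ.left :=
    (IsPullback.of_hasPullback φ.left (alg E).π).flip
  have hUY : (π φ E).left ⁻¹ᵁ W = (prl φ E) ⁻¹ᵁ ((alg E).π ⁻¹ᵁ U₀) ⊓ (π φ E).left ⁻¹ᵁ W :=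
    (inf_eq_right.2 (le_pr φ E hWU)).symm
  have hp := (isIso_pushoutSection_iff H (UX := (alg E).π ⁻¹ᵁ U₀) hWU le_rfl hUY).1
    (isIso_pushoutSection_of_isAffineOpen H hWU le_rfl hUY hU₀ hW hO)
  let Φ := RingEquiv.ofBijective _ (LineTotal.bijective_eval₂ E hU₀ hb)
  let ev := Polynomial.eval₂RingHom ((π φ E).left.app W).hom
    (GLinSh.res (π φ E) hWU ((prl φ E).appLE ((alg E).π ⁻¹ᵁ U₀) ((π φ E).left ⁻¹ᵁ (φ.left ⁻¹ᵁ U₀))
      (le_pr φ E le_rfl) (fn E U₀ b)))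
  have hres : GLinSh.res (π φ E) hWU ((prl φ E).appLE ((alg E).π ⁻¹ᵁ U₀) ((π φ E).left ⁻¹ᵁ (φ.left ⁻¹ᵁ U₀))
      (le_pr φ E le_rfl) (fn E U₀ b)) =
      (prl φ E).appLE ((alg E).π ⁻¹ᵁ U₀) ((π φ E).left ⁻¹ᵁ W) (le_pr φ E hWU) (fn E U₀ b) := by
    show (V φ E).left.presheaf.map _ _ = _
    rw [← CommRingCat.comp_apply, Scheme.Hom.appLE_map]
  let r₁ : Γ((alg E).spec, (alg E).π ⁻¹ᵁ U₀) ⟶ CommRingCat.of (Polynomial Γ(X.left, W)) :=
    CommRingCat.ofHom ((Polynomial.mapRingHom (φ.left.appLE U₀ W hWU).hom).comp Φ.symm.toRingHom)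
  let r₂ : Γ(X.left, W) ⟶ CommRingCat.of (Polynomial Γ(X.left, W)) := CommRingCat.ofHom Polynomial.C
  have hcond : (alg E).π.appLE U₀ ((alg E).π ⁻¹ᵁ U₀) le_rfl ≫ r₁ = φ.left.appLE U₀ W hWU ≫ r₂ := by
    refine CommRingCat.hom_ext (RingHom.ext fun r => ?_)
    show Polynomial.mapRingHom _ (Φ.symm ((alg E).π.appLE U₀ _ le_rfl r)) = Polynomial.C (φ.left.appLE U₀ W hWU r)
    rw [← Scheme.Hom.app_eq_appLE,
      show (alg E).π.app U₀ r = Φ (Polynomial.C r) from (Polynomial.eval₂_C _ _).symm, RingEquiv.symm_apply_apply]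
    simp
  let ρ := hp.desc r₁ r₂ hcond
  have hev : ev.comp (Polynomial.mapRingHom (φ.left.appLE U₀ W hWU).hom) =
      ((prl φ E).appLE ((alg E).π ⁻¹ᵁ U₀) ((π φ E).left ⁻¹ᵁ W) (le_pr φ E hWU)).hom.comp Φ.toRingHom := by
    refine Polynomial.ringHom_ext (fun r => ?_) ?_
    · show ev (Polynomial.mapRingHom _ (Polynomial.C r)) = (prl φ E).appLE _ _ _ (Φ (Polynomial.C r))
      rw [show Φ (Polynomial.C r) = (alg E).π.app U₀ r from Polynomial.eval₂_C _ _]
      simp only [Polynomial.coe_mapRingHom, Polynomial.map_C, ev, Polynomial.coe_eval₂RingHom, Polynomial.eval₂_C]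
      have hw := congr(($(hp.w)).hom r)
      rw [Scheme.Hom.app_eq_appLE, Scheme.Hom.app_eq_appLE]
      exact hw.symm
    · show ev (Polynomial.mapRingHom _ Polynomial.X) = (prl φ E).appLE _ _ _ (Φ Polynomial.X)
      rw [show Φ Polynomial.X = fn E U₀ b from Polynomial.eval₂_X _ _]
      simp only [Polynomial.coe_mapRingHom, Polynomial.map_X, ev, Polynomial.coe_eval₂RingHom, Polynomial.eval₂_X]
      exact hres
  have e1 : ρ ≫ CommRingCat.ofHom ev = 𝟙 _ := by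
    apply hp.hom_ext
    · rw [hp.inl_desc_assoc, Category.comp_id]
      refine CommRingCat.hom_ext (RingHom.ext fun z => ?_)
      show ev (Polynomial.mapRingHom _ (Φ.symm z)) = _
      refine (congr($hev (Φ.symm z))).trans ?_
      show (prl φ E).appLE _ _ _ (Φ (Φ.symm z)) = _
      rw [RingEquiv.apply_symm_apply]
    · rw [hp.inr_desc_assoc, Category.comp_id]
      refine CommRingCat.hom_ext (RingHom.ext fun z => ?_)
      show ev (Polynomial.C z) = _
      simp only [ev, Polynomial.coe_eval₂RingHom, Polynomial.eval₂_C, Scheme.Hom.app_eq_appLE]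
  have e2 : ρ.hom.comp ev = RingHom.id _ := by
    refine Polynomial.ringHom_ext (fun r => ?_) ?_
    · show ρ.hom (ev (Polynomial.C r)) = Polynomial.C r
      simp only [ev, Polynomial.coe_eval₂RingHom, Polynomial.eval₂_C, Scheme.Hom.app_eq_appLE]
      exact congr(($(hp.inr_desc r₁ r₂ hcond)).hom r)
    · show ρ.hom (ev Polynomial.X) = Polynomial.X
      simp only [ev, Polynomial.coe_eval₂RingHom, Polynomial.eval₂_X]
      rw [hres]
      refine (congr(($(hp.inl_desc r₁ r₂ hcond)).hom (fn E U₀ b))).trans ?_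
      show Polynomial.mapRingHom _ (Φ.symm (fn E U₀ b)) = Polynomial.X
      rw [show fn E U₀ b = Φ Polynomial.X from (Polynomial.eval₂_X _ _).symm, RingEquiv.symm_apply_apply]
      simp
  exact Function.bijective_iff_has_inverse.2
    ⟨ρ.hom, fun x => congr($e2 x), fun x => congr(($e1).hom x)⟩

theorem exists_transition {U₀ U₀' : Y.left.Opens} {b : Γ(E, U₀)} (hb : IsGen E U₀ b) {b' : Γ(E, U₀')}
    (hb' : IsGen E U₀' b') :
    ∃ c : Γ(Y.left, U₀ ⊓ U₀'), IsUnit c ∧ (alg E).spec.presheaf.map (homOfLE ((alg E).π.preimage_mono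
        (inf_le_right : U₀ ⊓ U₀' ≤ U₀'))).op (fn E U₀' b') =
      (alg E).π.app (U₀ ⊓ U₀') c * (alg E).spec.presheaf.map (homOfLE ((alg E).π.preimage_mono
        (inf_le_left : U₀ ⊓ U₀' ≤ U₀))).op (fn E U₀ b) := by
  obtain ⟨c, hc, -⟩ := hb.exists_eq (inf_le_left : U₀ ⊓ U₀' ≤ U₀) (res E inf_le_right b')
  obtain ⟨d, hd, -⟩ := hb'.exists_eq (inf_le_right : U₀ ⊓ U₀' ≤ U₀') (res E inf_le_left b)
  refine ⟨c, ?_, ?_⟩
  · refine IsUnit.of_mul_eq_one d (hb'.injective (inf_le_right : U₀ ⊓ U₀' ≤ U₀') ?_)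
    rw [one_smul, ← smul_smul, ← hd, ← hc]
  · rw [LineTotal.fn_res E (h := inf_le_right), LineTotal.fn_res E (h := inf_le_left), hc, LineTotal.fn_smul]

/-- The atlas. -/
def atlas (hE : PicF.IsInvertible E) : GLinSh.LinAtlas (π φ E) where
  affine := MorphismProperty.pullback_fst (P := @IsAffineHom) φ.left (alg E).π (alg E).isAffineHom_π
  chart := chart φ E
  cover x := by
    obtain ⟨U, e, hxU, he⟩ := exists_isGen hE (φ.left x)
    obtain ⟨W, hW, hxW, hWU⟩ := exists_isAffineOpen_mem_and_subset (X := Y.left) (x := φ.left x) (U := U) hxU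
    exact ⟨φ.left ⁻¹ᵁ W, hxW, _, W, _, rfl, hW, he.restrict hWU, rfl⟩
  coord _ _ hy := coord φ E hy
  linear U U' y y' hy hy' := by
    obtain ⟨U₀, b, rfl, hU₀, hb, rfl⟩ := hy
    obtain ⟨U₀', b', rfl, hU₀', hb', rfl⟩ := hy'
    obtain ⟨c, hcu, hc⟩ := exists_transition E hb hb'
    refine ⟨φ.left.appLE (U₀ ⊓ U₀') (φ.left ⁻¹ᵁ U₀ ⊓ φ.left ⁻¹ᵁ U₀') le_rfl c, hcu.map _, ?_⟩
    have hle := le_pr φ E (U₀ := U₀ ⊓ U₀') (U := φ.left ⁻¹ᵁ U₀ ⊓ φ.left ⁻¹ᵁ U₀') le_rfl
    have h3 := congrArg (fun z => (ConcreteCategory.hom ((prl φ E).appLE ((alg E).π ⁻¹ᵁ (U₀ ⊓ U₀'))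
      ((π φ E).left ⁻¹ᵁ (φ.left ⁻¹ᵁ U₀ ⊓ φ.left ⁻¹ᵁ U₀')) hle)) z) hc
    simp only [map_mul, GLinSh.res, Scheme.Hom.app_eq_appLE] at h3 ⊢
    simp only [← CommRingCat.comp_apply, Scheme.Hom.map_appLE, Scheme.Hom.appLE_map,
      Scheme.Hom.appLE_comp_appLE] at h3 ⊢
    rw [appLE_congr_hom (show (π φ E).left ≫ φ.left = (prl φ E) ≫ (alg E).π from pullback.condition)]
    exact h3

variable {a φ}

/-- The lifted action. -/
def act (hφ : GIT.IsInvariant a φ) : G ⊗ V φ E ⟶ V φ E :=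
  Over.homMk (pullback.lift ((G ◁ π φ E) ≫ a.act).left (snd G (V φ E) ≫ pr φ E).left (by
    show (((G ◁ π φ E) ≫ a.act) ≫ φ).left = ((snd G (V φ E) ≫ pr φ E) ≫ πy E).left
    rw [Category.assoc, show a.act ≫ φ = snd G X ≫ φ from hφ, Category.assoc, pr_comp, whiskerLeft_snd_assoc])) (by
    show _ ≫ pullback.fst φ.left (alg E).π ≫ X.hom = _
    rw [pullback.lift_fst_assoc, Over.w])

lemma act_π (hφ : GIT.IsInvariant a φ) : act E hφ ≫ π φ E = (G ◁ π φ E) ≫ a.act :=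
  Over.OverMorphism.ext (pullback.lift_fst _ _ _)

lemma act_pr (hφ : GIT.IsInvariant a φ) : act E hφ ≫ pr φ E = snd G (V φ E) ≫ pr φ E :=
  Over.OverMorphism.ext (pullback.lift_snd _ _ _)

lemma hom_ext_V {T : Over S} {v v' : T ⟶ V φ E} (h₁ : v ≫ π φ E = v' ≫ π φ E) (h₂ : v ≫ pr φ E = v' ≫ pr φ E) :
    v = v' :=
  Over.OverMorphism.ext (pullback.hom_ext (congrArg CommaMorphism.left h₁) (congrArg CommaMorphism.left h₂))

/-- The lifted action as an action. -/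
def action (hφ : GIT.IsInvariant a φ) : AlgGrp.Action G (V φ E) where
  act := act E hφ
  one_act := by
    refine hom_ext_V E ?_ ?_
    · rw [Category.assoc, act_π, ← whisker_exchange_assoc, a.one_act, leftUnitor_naturality]
    · rw [Category.assoc, act_pr, whiskerRight_snd_assoc, leftUnitor_hom]
  mul_act := by
    refine hom_ext_V E ?_ ?_
    · simp only [Category.assoc, act_π]
      rw [← whisker_exchange_assoc, a.mul_act, associator_naturality_right_assoc, ← whiskerLeft_comp_assoc,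
        ← whiskerLeft_comp_assoc, act_π]
    · simp only [Category.assoc, act_pr, whiskerRight_snd_assoc, whiskerLeft_snd_assoc]
      simp

/-- The linearised line bundle. -/
def linBun (hφ : GIT.IsInvariant a φ) (hE : PicF.IsInvertible E) : GLinSh.LinBun G a where
  V := V φ E
  π := π φ E
  atlas := atlas φ E hE
  lift := action E hφ
  lift_π := act_π E hφ
  lift_linear U U' y y' hy hy' := by
    obtain ⟨U₀, b, rfl, hU₀, hb, rfl⟩ := hy
    obtain ⟨U₀', b', rfl, hU₀', hb', rfl⟩ := hy'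
    obtain ⟨c, -, hc⟩ := exists_transition E hb hb'
    have hB : a.act.left ⁻¹ᵁ (φ.left ⁻¹ᵁ U₀') ⊓ (snd G X).left ⁻¹ᵁ (φ.left ⁻¹ᵁ U₀) ≤
        (snd G X ≫ φ).left ⁻¹ᵁ (U₀ ⊓ U₀') := by
      have e : a.act.left ⁻¹ᵁ (φ.left ⁻¹ᵁ U₀') = (snd G X ≫ φ).left ⁻¹ᵁ U₀' := by
        rw [← show a.act ≫ φ = snd G X ≫ φ from hφ]; rfl
      rw [e]
      intro z hz
      exact ⟨hz.2, hz.1⟩
    refine ⟨(snd G X ≫ φ).left.appLE (U₀ ⊓ U₀') _ hB c, ?_⟩
    let L := GLinSh.liftOpen a (π φ E) (φ.left ⁻¹ᵁ U₀) (φ.left ⁻¹ᵁ U₀')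
    have eη : (snd G (V φ E) ≫ pr φ E) ≫ πy E = (G ◁ π φ E) ≫ snd G X ≫ φ := by
      rw [Category.assoc, pr_comp, whiskerLeft_snd_assoc]
    have hL : L ≤ ((snd G (V φ E)).left ≫ prl φ E) ⁻¹ᵁ ((alg E).π ⁻¹ᵁ (U₀ ⊓ U₀')) := by
      refine le_trans (GLinSh.liftOpen_le_base a (π φ E)) ?_
      exact le_trans ((G ◁ π φ E).left.preimage_mono hB)
        (le_of_eq (congrArg (fun m : G ⊗ V φ E ⟶ Y => m.left ⁻¹ᵁ (U₀ ⊓ U₀')) eη.symm))
    have h3 := congrArg (fun z =>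
      (ConcreteCategory.hom (((snd G (V φ E)).left ≫ prl φ E).appLE ((alg E).π ⁻¹ᵁ (U₀ ⊓ U₀')) L hL)) z) hc
    simp only [map_mul, Scheme.Hom.app_eq_appLE] at h3 ⊢
    simp only [← CommRingCat.comp_apply, Scheme.Hom.map_appLE, Scheme.Hom.appLE_map,
      Scheme.Hom.appLE_comp_appLE] at h3 ⊢
    rw [appLE_congr_hom (show (action E hφ).act.left ≫ (prl φ E) = (snd G (V φ E)).left ≫ prl φ E from
        congrArg CommaMorphism.left (act_pr E hφ)),
      appLE_congr_hom (show (G ◁ π φ E).left ≫ (snd G X ≫ φ).left = ((snd G (V φ E)).left ≫ prl φ E) ≫ (alg E).π from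
        congrArg CommaMorphism.left eη.symm)]
    exact h3

variable (hφ : GIT.IsInvariant a φ) (hE : PicF.IsInvertible E)

/-- The global function of a global section. -/
def topFn (σ : Γ(E, ⊤)) : Γ((alg E).spec, ⊤) := fn E ⊤ σ

lemma topFn_res (W : Y.left.Opens) (σ : Γ(E, ⊤)) :
    (alg E).spec.presheaf.map (homOfLE (le_top : (alg E).π ⁻¹ᵁ W ≤ ⊤)).op (topFn E σ) =
      fn E W (res E le_top σ) :=
  LineTotal.fn_res E (h := (le_top : W ≤ ⊤)) σ

/-- A global section gives an invariant function of weight one. -/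
theorem isInvSection_one (σ : Γ(E, ⊤)) :
    (linBun E hφ hE).IsInvSection 1 ((prl φ E).appTop (topFn E σ)) := by
  refine ⟨fun U y hy => ?_, ?_⟩
  · obtain ⟨U₀, b, rfl, hU₀, hb, rfl⟩ := hy
    obtain ⟨c, hc, -⟩ := hb.exists_eq le_rfl (res E le_top σ)
    rw [res_self] at hc
    have h1 := topFn_res E U₀ σ
    rw [hc, LineTotal.fn_smul] at h1
    refine ⟨φ.left.appLE U₀ (φ.left ⁻¹ᵁ U₀) le_rfl c, ?_⟩
    have h3 := congrArg (fun z => (ConcreteCategory.hom ((prl φ E).appLE ((alg E).π ⁻¹ᵁ U₀)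
      ((π φ E).left ⁻¹ᵁ (φ.left ⁻¹ᵁ U₀)) (le_pr φ E le_rfl))) z) h1
    rw [pow_one]
    simp only [linBun, map_mul, GLinSh.resTop, Scheme.Hom.appTop, Scheme.Hom.app_eq_appLE] at h3 ⊢
    simp only [← CommRingCat.comp_apply, Scheme.Hom.map_appLE, Scheme.Hom.appLE_map,
      Scheme.Hom.appLE_comp_appLE] at h3 ⊢
    rw [appLE_congr_hom (show (π φ E).left ≫ φ.left = (prl φ E) ≫ (alg E).π from pullback.condition)]
    exact h3
  · show (act E hφ).left.appTop _ = (snd G (V φ E)).left.appTop _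
    rw [← CommRingCat.comp_apply, ← CommRingCat.comp_apply, ← Scheme.Hom.comp_appTop, ← Scheme.Hom.comp_appTop,
      show (act E hφ).left ≫ (prl φ E) = (snd G (V φ E)).left ≫ (prl φ E) from
        congrArg CommaMorphism.left (act_pr E hφ)]

/-- Its non-vanishing locus. -/
theorem nonvanishing_eq (σ : Γ(E, ⊤)) :
    GLinSh.nonvanishing (linBun E hφ hE).π ((prl φ E).appTop (topFn E σ)) =
      φ.left.base ⁻¹' (locus σ : Set Y.left) := by
  rw [← LineTotal.image_basicOpen E hE σ]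
  show (π φ E).left.base '' _ = _
  have hD : (V φ E).left.basicOpen ((prl φ E).appTop (topFn E σ)) =
      (prl φ E) ⁻¹ᵁ (alg E).spec.basicOpen (topFn E σ) := (Scheme.preimage_basicOpen_top (prl φ E) (topFn E σ)).symm
  refine (congrArg (fun O : (V φ E).left.Opens => (π φ E).left.base '' (O : Set (V φ E).left)) hD).trans ?_
  ext x
  constructor
  · rintro ⟨v, hv, rfl⟩
    exact ⟨(prl φ E) v, hv, congrArg (fun m : V φ E ⟶ Y => m.left v) (pr_comp φ E)⟩
  · rintro ⟨w, hw, hwx⟩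
    obtain ⟨v, hv₁, hv₂⟩ := Scheme.Pullback.exists_preimage_pullback (f := φ.left) (g := (alg E).π) x w hwx.symm
    refine ⟨v, ?_, hv₁⟩
    show (prl φ E) v ∈ (alg E).spec.basicOpen (topFn E σ)
    rw [show (prl φ E) v = w from hv₂]
    exact hw

end Groth.Agent.GITLib.LinBunPullback
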