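import Groth.Agent.SymLib.Sheaf
import Groth.Agent.SymLib.Affine
import Groth.Agent.Omega.VectorBundle
import Groth.Agent.AmpleLib.Locus

/-!
# The total space of an invertible module: functions of weight one
-/

set_option autoImplicit false
set_option linter.style.haveILetI false
set_option backward.isDefEq.respectTransparency false

universe u

open CategoryTheory CategoryTheory.Limits AlgebraicGeometry TopologicalSpace Opposite
open Groth.Agent.QCoh Groth.Agent.Props.GenLocus Groth.Agent.AmpleLib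
open scoped Polynomial

noncomputable section

namespace Groth.Agent.GITLib.LineTotal

variable {Y : Scheme.{u}} (E : Y.Modules) [E.IsQuasicoherent]

/-- The algebra of the total space. -/
abbrev alg : RelSpec.QCAlg Y := SymLib.symAlg E

lemma isIso_gammaRestrict (A : RelSpec.QCAlg Y) : IsIso A.gammaRestrict :=
  haveI : ∀ U, IsIso (A.gammaRestrict.app U) := fun U => Omega.VectorBundle.isIso_gammaAff U.unop.1 U.unop.2
  NatIso.isIso_of_isIso_app _

/-- Elements of the algebra as functions on the total space. -/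
def toFn : (alg E).presheaf ⟶ (alg E).π.base _* (alg E).spec.presheaf :=
  haveI := isIso_gammaRestrict (alg E)
  Functor.IsCoverDense.restrictHomEquivHom (G := Scheme.AffineZariskiSite.toOpensFunctor Y)
    (K := Opens.grothendieckTopology Y) (ℱ := (alg E).presheaf)
    (ℱ' := (⟨(alg E).π.base _* (alg E).spec.presheaf,
      TopCat.Sheaf.pushforward_sheaf_of_sheaf (alg E).π.base (alg E).spec.IsSheaf⟩ :
        TopCat.Sheaf CommRingCat.{u} Y.carrier)) (CategoryTheory.inv (alg E).gammaRestrict)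

lemma toFn_app (U : Y.Opens) (hU : IsAffineOpen U) :
    (toFn E).app (op U) ≫ (alg E).gammaAff U hU = 𝟙 _ := by
  haveI := isIso_gammaRestrict (alg E)
  have h : (Scheme.AffineZariskiSite.toOpensFunctor Y).op.whiskerLeft (toFn E) = CategoryTheory.inv (alg E).gammaRestrict :=
    (Functor.IsCoverDense.restrictHomEquivHom (G := Scheme.AffineZariskiSite.toOpensFunctor Y)
      (K := Opens.grothendieckTopology Y) (ℱ := (alg E).presheaf)
      (ℱ' := (⟨(alg E).π.base _* (alg E).spec.presheaf,
        TopCat.Sheaf.pushforward_sheaf_of_sheaf (alg E).π.base (alg E).spec.IsSheaf⟩ :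
          TopCat.Sheaf CommRingCat.{u} Y.carrier))).symm_apply_apply _
  have h2 := NatTrans.congr_app h (op ⟨U, hU⟩)
  have h3 := congrArg (fun t => t.app (op ⟨U, hU⟩)) (IsIso.inv_hom_id (alg E).gammaRestrict)
  rw [← h] at h3
  exact h3

lemma str_toFn : (alg E).str ≫ toFn E = (alg E).π.c := by
  apply (Functor.IsCoverDense.restrictHomEquivHom (G := Scheme.AffineZariskiSite.toOpensFunctor Y)
    (K := Opens.grothendieckTopology Y) (ℱ := Y.presheaf)
    (ℱ' := (⟨(alg E).π.base _* (alg E).spec.presheaf,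
      TopCat.Sheaf.pushforward_sheaf_of_sheaf (alg E).π.base (alg E).spec.IsSheaf⟩ :
        TopCat.Sheaf CommRingCat.{u} Y.carrier))).symm.injective
  ext U : 2
  change (alg E).str.app (op U.unop.1) ≫ (toFn E).app (op U.unop.1) = (alg E).π.app U.unop.1
  haveI : IsIso ((alg E).gammaAff U.unop.1 U.unop.2) := Omega.VectorBundle.isIso_gammaAff _ _
  rw [← cancel_mono ((alg E).gammaAff U.unop.1 U.unop.2), Category.assoc, toFn_app, Category.comp_id,
    RelSpec.QCAlg.π_app_gammaAff]

/-- The function of weight one of a section. -/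
def fn (U : Y.Opens) (σ : Γ(E, U)) : Γ((alg E).spec, (alg E).π ⁻¹ᵁ U) :=
  ((toFn E).app (op U)).hom ((SymLib.jSym E).app U σ)

lemma fn_res {U W : Y.Opens} (h : W ≤ U) (σ : Γ(E, U)) :
    (alg E).spec.presheaf.map (homOfLE ((alg E).π.preimage_mono h)).op (fn E U σ) = fn E W (res E h σ) := by
  have h1 := congr(($((toFn E).naturality (homOfLE h).op)).hom ((SymLib.jSym E).app U σ))
  simp only [CommRingCat.hom_comp, RingHom.comp_apply] at h1
  refine h1.symm.trans ?_
  show ((toFn E).app (op W)).hom _ = ((toFn E).app (op W)).hom _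
  congr 1
  exact congr(($((SymLib.jSym E).mapPresheaf.naturality (homOfLE h).op)).hom σ).symm

lemma fn_smul (U : Y.Opens) (c : Γ(Y, U)) (σ : Γ(E, U)) :
    fn E U (c • σ) = ((alg E).π.app U).hom c * fn E U σ := by
  show ((toFn E).app (op U)).hom ((SymLib.jSym E).app U (c • σ)) = _
  rw [(SymLib.jSym E).app_smul c σ]
  change ((toFn E).app (op U)).hom (((alg E).str.app (op U)).hom c * _) = _
  rw [map_mul]
  congr 1
  exact congr(($(NatTrans.congr_app (str_toFn E) (op U))).hom c)

/-- Over an affine open with a generator the functions form a polynomial ring. -/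
theorem bijective_eval₂ {W : Y.Opens} (hW : IsAffineOpen W) {b : Γ(E, W)} (hb : IsGen E W b) :
    Function.Bijective (Polynomial.eval₂RingHom ((alg E).π.app W).hom (fn E W b)) := by
  haveI : IsIso ((alg E).gammaAff W hW) := Omega.VectorBundle.isIso_gammaAff _ _
  let γ := ((alg E).gammaAff W hW).hom
  have hγ : Function.Bijective γ := ConcreteCategory.bijective_of_isIso ((alg E).gammaAff W hW)
  refine (hγ.of_comp_iff' _).1 ?_
  let S' := SymmetricAlgebra Γ(Y, W) Γ(E, W)
  have hcomp : γ ∘ Polynomial.eval₂RingHom ((alg E).π.app W).hom (fn E W b) =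
      SymLib.affLift (SymLib.jSym E) W ∘ Polynomial.aeval (SymmetricAlgebra.ι Γ(Y, W) Γ(E, W) b) := by
    have h1 : γ.comp (Polynomial.eval₂RingHom ((alg E).π.app W).hom (fn E W b)) =
        (SymLib.affLift (SymLib.jSym E) W).comp
          (Polynomial.aeval (R := Γ(Y, W)) (SymmetricAlgebra.ι Γ(Y, W) Γ(E, W) b)).toRingHom := by
      refine Polynomial.ringHom_ext (fun r => ?_) ?_
      · simp only [RingHom.comp_apply, Polynomial.coe_eval₂RingHom, Polynomial.eval₂_C, AlgHom.toRingHom_eq_coe,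
          RingHom.coe_coe, Polynomial.aeval_C, SymLib.affLift_algebraMap]
        exact congr(($((alg E).π_app_gammaAff W hW)).hom r)
      · simp only [RingHom.comp_apply, Polynomial.coe_eval₂RingHom, Polynomial.eval₂_X, AlgHom.toRingHom_eq_coe,
          RingHom.coe_coe, Polynomial.aeval_X, SymLib.affLift_ι]
        exact congr(($(toFn_app E W hW)).hom ((SymLib.jSym E).app W b))
    exact congrArg DFunLike.coe h1
  rw [hcomp]
  refine (SymLib.affLift_bijective (SymLib.isSymAlg_symAlg E) hW).comp ?_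
  let L : Γ(E, W) →ₗ[Γ(Y, W)] Γ(Y, W)[X] :=
    (LinearMap.toSpanSingleton Γ(Y, W) Γ(Y, W)[X] Polynomial.X).comp
      (LinearEquiv.ofBijective (LinearMap.toSpanSingleton Γ(Y, W) Γ(E, W) b) (by
        have := hb W le_rfl
        convert this using 1
        funext a
        simp [sm, res_self])).symm.toLinearMap
  have hLb : L b = Polynomial.X := by
    have : (LinearEquiv.ofBijective (LinearMap.toSpanSingleton Γ(Y, W) Γ(E, W) b) (by
        have := hb W le_rfl
        convert this using 1
        funext a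
        simp [sm, res_self])).symm b = 1 := by
      rw [LinearEquiv.symm_apply_eq]
      simp
    simp [L, this]
  let ev : Γ(Y, W)[X] →ₐ[Γ(Y, W)] S' := Polynomial.aeval (SymmetricAlgebra.ι Γ(Y, W) Γ(E, W) b)
  let ψ : S' →ₐ[Γ(Y, W)] Γ(Y, W)[X] := SymmetricAlgebra.lift L
  have e1 : ψ.comp ev = AlgHom.id _ _ := Polynomial.algHom_ext (by simp [ψ, ev, S', hLb])
  have e2 : ev.comp ψ = AlgHom.id _ _ := SymmetricAlgebra.algHom_ext (LinearMap.ext fun m => by
    obtain ⟨a, ha, -⟩ := hb.exists_eq le_rfl m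
    rw [res_self] at ha
    subst ha
    simp [ψ, ev, S', hLb])
  exact Function.bijective_iff_has_inverse.2 ⟨ψ, fun x => congr($e1 x), fun x => congr($e2 x)⟩

/-- Points of the total space where a generator does not vanish surject. -/
theorem exists_mem_basicOpen {W : Y.Opens} (hW : IsAffineOpen W) {b : Γ(E, W)} (hb : IsGen E W b) {y : Y}
    (hy : y ∈ W) : ∃ v ∈ (alg E).spec.basicOpen (fn E W b), (alg E).π v = y := by
  let Φ := RingEquiv.ofBijective _ (bijective_eval₂ E hW hb)
  let θ : Γ((alg E).spec, (alg E).π ⁻¹ᵁ W) ⟶ Γ(Y, W) :=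
    CommRingCat.ofHom ((Polynomial.evalRingHom 1).comp Φ.symm.toRingHom)
  have hθy : θ.hom (fn E W b) = 1 := by
    show Polynomial.evalRingHom 1 (Φ.symm (fn E W b)) = 1
    rw [show fn E W b = Φ Polynomial.X from (Polynomial.eval₂_X _ _).symm, RingEquiv.symm_apply_apply]
    simp
  have hθπ : (alg E).π.app W ≫ θ = 𝟙 _ := by
    refine CommRingCat.hom_ext (RingHom.ext fun r => ?_)
    show Polynomial.evalRingHom 1 (Φ.symm ((alg E).π.app W r)) = r
    rw [show (alg E).π.app W r = Φ (Polynomial.C r) from (Polynomial.eval₂_C _ _).symm,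
      RingEquiv.symm_apply_apply]
    simp
  have hO : IsAffineOpen ((alg E).π ⁻¹ᵁ W) := hW.preimage (alg E).π
  let p := hW.primeIdealOf ⟨y, hy⟩
  refine ⟨hO.fromSpec (Spec.map θ p), ?_, ?_⟩
  · have : Spec.map θ p ∈ hO.fromSpec ⁻¹ᵁ (alg E).spec.basicOpen (fn E W b) := by
      rw [hO.fromSpec_preimage_basicOpen]
      show fn E W b ∉ (Spec.map θ p).asIdeal
      intro h
      exact p.isPrime.ne_top ((Ideal.eq_top_iff_one _).2 (hθy ▸ (h : θ.hom (fn E W b) ∈ p.asIdeal)))
    exact this
  · have h1 : Spec.map θ ≫ hO.fromSpec ≫ (alg E).π = hW.fromSpec := by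
      rw [← IsAffineOpen.SpecMap_appLE_fromSpec (alg E).π hW hO le_rfl, ← Scheme.Hom.app_eq_appLE,
        ← Category.assoc, ← Spec.map_comp, hθπ, Spec.map_id, Category.id_comp]
    exact (congrArg (fun m : Spec Γ(Y, W) ⟶ Y => m p) h1).trans (hW.fromSpec_primeIdealOf ⟨y, hy⟩)

/-- The non-vanishing locus of the function of a section is the locus where the section generates. -/
theorem image_basicOpen (hE : PicF.IsInvertible E) (σ : Γ(E, ⊤)) :
    (alg E).π '' ((alg E).spec.basicOpen (fn E ⊤ σ) : Set (alg E).spec) = (locus σ : Set Y) := by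
  ext y
  obtain ⟨U, e, hyU, he⟩ := exists_isGen hE y
  obtain ⟨W, hW, hyW, hWU⟩ := exists_isAffineOpen_mem_and_subset (X := Y) (x := y) (U := U) hyU
  have hb := he.restrict (hWU : W ≤ U)
  obtain ⟨c, hc, -⟩ := hb.exists_eq le_rfl (res E le_top σ)
  rw [res_self] at hc
  have hloc := locus_inf (le_top : W ≤ ⊤) hb σ hc
  have hD : (alg E).spec.basicOpen (fn E ⊤ σ) ⊓ (alg E).π ⁻¹ᵁ W =
      (alg E).π ⁻¹ᵁ Y.basicOpen c ⊓ (alg E).spec.basicOpen (fn E W (res E hWU e)) := by
    rw [inf_comm, ← Scheme.basicOpen_res _ (fn E ⊤ σ) (homOfLE ((alg E).π.preimage_mono (le_top : W ≤ ⊤))).op]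
    rw [fn_res E (h := (le_top : W ≤ ⊤)), hc, fn_smul, Scheme.basicOpen_mul, Scheme.preimage_basicOpen]
  constructor
  · rintro ⟨v, hv, rfl⟩
    have hvW : v ∈ (alg E).spec.basicOpen (fn E ⊤ σ) ⊓ (alg E).π ⁻¹ᵁ W := ⟨hv, hyW⟩
    rw [hD] at hvW
    have : (alg E).π v ∈ locus σ ⊓ W := by rw [hloc]; exact hvW.1
    exact this.1
  · intro hy
    have hyc : y ∈ Y.basicOpen c := by rw [← hloc]; exact ⟨hy, hyW⟩
    obtain ⟨v, hv, rfl⟩ := exists_mem_basicOpen E hW hb hyW
    have : v ∈ (alg E).π ⁻¹ᵁ Y.basicOpen c ⊓ (alg E).spec.basicOpen (fn E W (res E hWU e)) := ⟨hyc, hv⟩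
    rw [← hD] at this
    exact ⟨v, this.1, rfl⟩

end Groth.Agent.GITLib.LineTotal
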