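import Groth.Agent.GITLib.Orbit
import Groth.Agent.AlgSp.FTPoints

/-!
# Orbits through a geometric quotient by a normal subgroup
-/

set_option autoImplicit false

universe u

open CategoryTheory MonoidalCategory CartesianMonoidalCategory MonObj AlgebraicGeometry Topology

namespace Groth.Agent.GITLib

variable {S : Scheme.{u}} {H N Q X Y : Over S} [GrpObj H] [GrpObj N] [GrpObj Q]
  {i : N ⟶ H} {q : H ⟶ Q} {a : AlgGrp.Action H X} {aN : AlgGrp.Action N X} {aQ : AlgGrp.Action Q Y} {π : X ⟶ Y}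

/-- Acting by a product. -/
theorem lift_mul_act {W : Over S} (g h : W ⟶ H) (x : W ⟶ X) :
    lift (lift g h ≫ μ[H]) x ≫ a.act = lift g (lift h x ≫ a.act) ≫ a.act := by
  have e : lift (lift g h) x ≫ (μ[H] ▷ X) = lift (lift g h ≫ μ[H]) x := lift_whiskerRight _ _ _
  rw [← e, Category.assoc, a.mul_act, lift_lift_associator_hom_assoc, lift_whiskerLeft_assoc]

theorem psi_comp_equivariant (hequiv : (q ⊗ₘ π) ≫ aQ.act = a.act ≫ π) {T : Over S} (x : T ⟶ X) :
    GIT.psi a x ≫ π ▷ T = q ▷ T ≫ GIT.psi aQ (x ≫ π) := by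
  refine CartesianMonoidalCategory.hom_ext _ _ ?_ ?_
  · simp only [GIT.psi, Category.assoc, whiskerRight_fst, lift_fst, lift_fst_assoc]
    rw [← hequiv, ← Category.assoc, ← Category.assoc]
    congr 1
    exact CartesianMonoidalCategory.hom_ext _ _ (by simp) (by simp)
  · simp [GIT.psi]

/-- The orbit upstairs is the preimage of the orbit downstairs. -/
theorem range_psi_normal [Surjective q.left] (haN : aN.act = (i ▷ X) ≫ a.act) (hπ : GIT.IsGeomQuot aN π)
    (hequiv : (q ⊗ₘ π) ≫ aQ.act = a.act ≫ π) {T : Over S} (x : T ⟶ X) :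
    Set.range (GIT.psi a x).left.base =
      (π ▷ T).left.base ⁻¹' Set.range (GIT.psi aQ (x ≫ π)).left.base := by
  refine subset_antisymm ?_ ?_
  · rintro _ ⟨g, rfl⟩
    refine ⟨(q ▷ T).left.base g, ?_⟩
    exact (congrArg (fun m : H ⊗ T ⟶ Y ⊗ T => m.left.base g) (psi_comp_equivariant hequiv x)).symm
  · rintro z ⟨t, ht⟩
    obtain ⟨w, hw, -⟩ := Scheme.Pullback.exists_preimage_pullback (f := (π ▷ T).left)
      (g := (GIT.psi aQ (x ≫ π)).left) z t ht.symm
    let P := Over.mk (Limits.pullback.fst (π ▷ T).left (GIT.psi aQ (x ≫ π)).left ≫ (X ⊗ T).hom)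
    let m : P ⟶ X ⊗ T := Over.homMk (Limits.pullback.fst _ _) rfl
    let s : P ⟶ Q ⊗ T := Over.homMk (Limits.pullback.snd _ _) (by
      show Limits.pullback.snd _ _ ≫ (Q ⊗ T).hom = Limits.pullback.fst _ _ ≫ (X ⊗ T).hom
      rw [← Over.w (π ▷ T), ← Over.w (GIT.psi aQ (x ≫ π)), Limits.pullback.condition_assoc])
    have hm : m ≫ π ▷ T = s ≫ GIT.psi aQ (x ≫ π) := Over.OverMorphism.ext Limits.pullback.condition
    let b : P ⟶ T := s ≫ snd Q T
    have hm₁ : (m ≫ fst X T) ≫ π = lift (s ≫ fst Q T) (b ≫ x ≫ π) ≫ aQ.act := by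
      have h1 := congrArg (· ≫ fst Y T) hm
      simp only [GIT.psi, Category.assoc, whiskerRight_fst, lift_fst] at h1
      rw [Category.assoc, h1, ← Category.assoc s]
      congr 1
      exact CartesianMonoidalCategory.hom_ext _ _ (by simp [b]) (by simp [b])
    have hm₂ : m ≫ snd X T = b := by
      have h1 := congrArg (· ≫ snd Y T) hm
      simpa [GIT.psi, b] using h1
    obtain ⟨h₀, hh₀⟩ := q.left.surjective ((s ≫ fst Q T).left.base w)
    obtain ⟨w₂, -, hw₂⟩ := Scheme.Pullback.exists_preimage_pullback (f := q.left)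
      (g := (s ≫ fst Q T).left) h₀ w hh₀
    let P₂ := Over.mk (Limits.pullback.snd q.left (s ≫ fst Q T).left ≫ P.hom)
    let c : P₂ ⟶ P := Over.homMk (Limits.pullback.snd _ _) rfl
    let hp : P₂ ⟶ H := Over.homMk (Limits.pullback.fst _ _) (by
      show Limits.pullback.fst _ _ ≫ H.hom = Limits.pullback.snd _ _ ≫ P.hom
      rw [← Over.w q, ← Over.w (s ≫ fst Q T), Limits.pullback.condition_assoc])
    have hhq : hp ≫ q = c ≫ s ≫ fst Q T := Over.OverMorphism.ext Limits.pullback.condition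
    let x' : P₂ ⟶ X := lift hp (c ≫ b ≫ x) ≫ a.act
    have hx' : x' ≫ π = (c ≫ m ≫ fst X T) ≫ π := by
      have e1 : x' ≫ π = lift (hp ≫ q) ((c ≫ b ≫ x) ≫ π) ≫ aQ.act := by
        rw [← lift_map_assoc, hequiv]
        simp [x']
      rw [e1, hhq, Category.assoc c (m ≫ fst X T) π, hm₁, comp_lift_assoc]
      simp only [Category.assoc]
    let cc : P₂.left ⟶ Limits.pullback π.left π.left :=
      Limits.pullback.lift (c ≫ m ≫ fst X T).left x'.left (congrArg CommaMorphism.left hx'.symm)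
    obtain ⟨n₀, hn₀⟩ := hπ.orbit (cc.base w₂)
    obtain ⟨r, -, hr⟩ := Scheme.Pullback.exists_preimage_pullback (f := GIT.PsiY aN π hπ.inv) (g := cc) n₀ w₂ hn₀
    let R := Over.mk (Limits.pullback.snd (GIT.PsiY aN π hπ.inv) cc ≫ P₂.hom)
    let c' : R ⟶ P₂ := Over.homMk (Limits.pullback.snd _ _) rfl
    have hact : Limits.pullback.fst (GIT.PsiY aN π hπ.inv) cc ≫ aN.act.left = (c' ≫ c ≫ m ≫ fst X T).left := by
      have := congrArg (· ≫ Limits.pullback.fst π.left π.left)
        (Limits.pullback.condition (f := GIT.PsiY aN π hπ.inv) (g := cc))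
      simp only [Category.assoc] at this
      rw [show GIT.PsiY aN π hπ.inv ≫ Limits.pullback.fst π.left π.left = aN.act.left from Limits.pullback.lift_fst _ _ _,
        show cc ≫ Limits.pullback.fst π.left π.left = (c ≫ m ≫ fst X T).left from Limits.pullback.lift_fst _ _ _] at this
      exact this
    have hsnd : Limits.pullback.fst (GIT.PsiY aN π hπ.inv) cc ≫ (snd N X).left = (c' ≫ x').left := by
      have := congrArg (· ≫ Limits.pullback.snd π.left π.left)
        (Limits.pullback.condition (f := GIT.PsiY aN π hπ.inv) (g := cc))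
      simp only [Category.assoc] at this
      rw [show GIT.PsiY aN π hπ.inv ≫ Limits.pullback.snd π.left π.left = (snd N X).left from Limits.pullback.lift_snd _ _ _,
        show cc ≫ Limits.pullback.snd π.left π.left = x'.left from Limits.pullback.lift_snd _ _ _] at this
      exact this
    let g : R ⟶ N ⊗ X := Over.homMk (Limits.pullback.fst _ _) (by
      rw [← Over.w (snd N X), ← Category.assoc, hsnd, Over.w])
    have hg₁ : g ≫ aN.act = c' ≫ c ≫ m ≫ fst X T := Over.OverMorphism.ext hact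
    have hg₂ : g ≫ snd N X = c' ≫ x' := Over.OverMorphism.ext hsnd
    let hh : R ⟶ H ⊗ T := lift (lift (g ≫ fst N X ≫ i) (c' ≫ hp) ≫ μ[H]) (c' ≫ c ≫ b)
    have key : hh ≫ GIT.psi a x = c' ≫ c ≫ m := by
      refine CartesianMonoidalCategory.hom_ext _ _ ?_ ?_
      · simp only [GIT.psi, Category.assoc, lift_fst, hh, lift_whiskerLeft_assoc]
        rw [lift_mul_act]
        have e2 : lift (c' ≫ hp) (c' ≫ c ≫ b ≫ x) ≫ a.act = c' ≫ x' := by
          simp only [x', ← Category.assoc, comp_lift]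
        skip
        rw [e2, ← hg₂, ← hg₁, haN, ← Category.assoc g (i ▷ X)]
        congr 1
        exact CartesianMonoidalCategory.hom_ext _ _ (by simp) (by simp)
      · simp only [GIT.psi, Category.assoc, lift_snd, hm₂]
        simp [hh]
    refine ⟨hh.left.base r, ?_⟩
    rw [← hw, ← hw₂, ← hr]
    exact congrArg (fun k : R ⟶ X ⊗ T => k.left.base r) key

/-- Closedness of orbits passes through a geometric quotient by a normal subgroup. -/
theorem isClosed_range_psi_iff [Surjective q.left] (haN : aN.act = (i ▷ X) ≫ a.act) (hπ : GIT.IsGeomQuot aN π)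
    (hequiv : (q ⊗ₘ π) ≫ aQ.act = a.act ≫ π) {T : Over S} (x : T ⟶ X) :
    IsClosed (Set.range (GIT.psi a x).left.base) ↔ IsClosed (Set.range (GIT.psi aQ (x ≫ π)).left.base) := by
  have hq : IsQuotientMap (π ▷ T).left.base := hπ.subm _ _ _ (isPullback_whiskerRight π T).flip
  rw [range_psi_normal haN hπ hequiv x, hq.isClosed_preimage]

/-- A geometric point of the quotient lifts. -/
theorem exists_lift_geometricPoint (hsurj : Function.Surjective π.left.base) [LocallyOfFiniteType π.left]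
    {Ω : Type u} [Field Ω] [IsAlgClosed Ω] {T : Over S} (e : T.left ≅ Spec (CommRingCat.of Ω)) (y : T ⟶ Y) :
    ∃ x : T ⟶ X, x ≫ π = y := by
  let t₀ : T.left := e.inv.base (IsLocalRing.closedPoint Ω)
  obtain ⟨x₀, hx₀⟩ := hsurj (y.left.base t₀)
  obtain ⟨w, -, -⟩ := Scheme.Pullback.exists_preimage_pullback (f := π.left) (g := y.left) x₀ t₀ hx₀
  have : Nonempty (Limits.pullback π.left y.left : Scheme) := ⟨w⟩
  obtain ⟨σ, hσ⟩ := AlgSp.FTPoints.exists_section_of_isAlgClosed (k := Ω)
    (Limits.pullback.snd π.left y.left ≫ e.hom)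
  have hσ' : (e.hom ≫ σ) ≫ Limits.pullback.snd π.left y.left = 𝟙 _ := by
    rw [← cancel_mono e.hom]
    simp [hσ]
  have hx : (e.hom ≫ σ ≫ Limits.pullback.fst π.left y.left) ≫ π.left = y.left := by
    simp only [Category.assoc, Limits.pullback.condition]
    simp only [← Category.assoc] at hσ' ⊢
    rw [hσ', Category.id_comp]
  refine ⟨Over.homMk (e.hom ≫ σ ≫ Limits.pullback.fst π.left y.left) ?_, Over.OverMorphism.ext hx⟩
  rw [← Over.w π, ← Category.assoc, hx, Over.w]

/-- Closed actions and geometric quotients by normal subgroups. -/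
theorem isClosedAction_iff [Surjective q.left] [LocallyOfFiniteType X.hom] (haN : aN.act = (i ▷ X) ≫ a.act)
    (hπ : GIT.IsGeomQuot aN π) (hequiv : (q ⊗ₘ π) ≫ aQ.act = a.act ≫ π) :
    GIT.IsClosedAction aQ ↔ GIT.IsClosedAction a := by
  refine ⟨fun h Ω _ _ T e x => (isClosed_range_psi_iff haN hπ hequiv x).2 (h Ω T e (x ≫ π)),
    fun h Ω _ _ T e y => ?_⟩
  have : LocallyOfFiniteType (π.left ≫ Y.hom) := by rw [Over.w π]; infer_instance
  have : LocallyOfFiniteType π.left := locallyOfFiniteType_of_comp π.left Y.hom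
  obtain ⟨x, rfl⟩ := exists_lift_geometricPoint hπ.surj e y
  exact (isClosed_range_psi_iff haN hπ hequiv x).1 (h Ω T e x)

end Groth.Agent.GITLib
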