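import Groth.Agent.GITLib.NormalQuotOrbit
import Groth.Prelude.Def_GLinSh
import Mathlib.AlgebraicGeometry.AlgClosed.Basic
import Mathlib.AlgebraicGeometry.Morphisms.QuasiFinite

/-!
# Finite stabilisers through a geometric quotient by a normal subgroup
-/

set_option autoImplicit false
set_option backward.isDefEq.respectTransparency false
set_option linter.style.haveILetI false

universe u

open CategoryTheory MonoidalCategory CartesianMonoidalCategory MonObj AlgebraicGeometry Topology

namespace Groth.Agent.GITLib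

/-- Over an algebraically closed field finite means finitely many rational points. -/
theorem isFinite_iff_finite_sections {Ω : Type u} [Field Ω] [IsAlgClosed Ω] {R T : Scheme.{u}}
    (e : T ≅ Spec (CommRingCat.of Ω)) (s : R ⟶ T) [LocallyOfFiniteType s] [QuasiCompact s] :
    IsFinite s ↔ Finite {σ : T ⟶ R // σ ≫ s = 𝟙 T} := by
  let E : {σ : T ⟶ R // σ ≫ s = 𝟙 T} ≃ {p : Spec (CommRingCat.of Ω) ⟶ R // p ≫ (s ≫ e.hom) = 𝟙 _} :=
    { toFun := fun σ => ⟨e.inv ≫ σ.1, by simp [reassoc_of% σ.2]⟩
      invFun := fun p => ⟨e.hom ≫ p.1, by rw [← cancel_mono e.hom]; simp [p.2]⟩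
      left_inv := fun σ => Subtype.ext (by simp)
      right_inv := fun p => Subtype.ext (by simp) }
  rw [← MorphismProperty.cancel_right_of_respectsIso @IsFinite s e.hom,
    (E.trans (pointEquivClosedPoint (s ≫ e.hom))).finite_iff]
  constructor
  · intro h
    haveI : Finite R := by
      rw [← Set.finite_univ_iff]
      refine ((s ≫ e.hom).finite_preimage_singleton (IsLocalRing.closedPoint Ω)).subset fun x _ => ?_
      exact Subsingleton.elim (α := PrimeSpectrum Ω) _ _
    exact Subtype.finite
  · intro h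
    have : JacobsonSpace R := LocallyOfFiniteType.jacobsonSpace (s ≫ e.hom)
    have hfin : (closedPoints R).Finite := Set.toFinite _
    have hcl : IsClosed (closedPoints R) := by
      rw [← Set.biUnion_of_singleton (closedPoints R)]
      exact hfin.isClosed_biUnion fun x hx => hx
    have hall : (Set.univ : Set R) = closedPoints R := by rw [← closure_closedPoints, hcl.closure_eq]
    haveI : Finite R := Set.finite_univ_iff.1 (hall ▸ hfin)
    haveI : LocallyQuasiFinite (s ≫ e.hom) := .of_finite_preimage_singleton _ fun x => Set.toFinite _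
    exact IsFinite.of_locallyQuasiFinite _

variable {S : Scheme.{u}} {G X T : Over S} [GrpObj G]

/-- Sections of the stabiliser are group elements fixing the point. -/
noncomputable def stabSectionEquiv (a : AlgGrp.Action G X) (f : T ⟶ X) :
    {σ : T.left ⟶ GLinSh.stab a f // σ ≫ GLinSh.stabTo a f = 𝟙 T.left} ≃ {h : T ⟶ G // lift h f ≫ a.act = f} := by
  have hsnd : Limits.pullback.fst (GIT.psi a f).left (lift f (𝟙 T)).left ≫ (snd G T).left =
      GLinSh.stabTo a f := by
    have := congrArg (· ≫ (snd X T).left) (Limits.pullback.condition (f := (GIT.psi a f).left) (g := (lift f (𝟙 T)).left))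
    simp only [Category.assoc, ← Over.comp_left] at this
    rw [show GIT.psi a f ≫ snd X T = snd G T from lift_snd _ _, lift_snd, Over.id_left, Category.comp_id] at this
    exact this
  let hom : ∀ σ : {σ : T.left ⟶ GLinSh.stab a f // σ ≫ GLinSh.stabTo a f = 𝟙 T.left}, T ⟶ G ⊗ T := fun σ =>
    Over.homMk (σ.1 ≫ Limits.pullback.fst _ _) (by
      rw [← Over.w (snd G T), Category.assoc, reassoc_of% hsnd, reassoc_of% σ.2])
  have h2 : ∀ σ, hom σ ≫ snd G T = 𝟙 T := fun σ => by
    apply Over.OverMorphism.ext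
    show (σ.1 ≫ Limits.pullback.fst _ _) ≫ (snd G T).left = 𝟙 _
    rw [Category.assoc, hsnd, σ.2]
  have h1 : ∀ σ, hom σ ≫ GIT.psi a f = lift f (𝟙 T) := fun σ => by
    apply Over.OverMorphism.ext
    show (σ.1 ≫ Limits.pullback.fst _ _) ≫ (GIT.psi a f).left = _
    rw [Category.assoc, Limits.pullback.condition, ← Category.assoc,
      show σ.1 ≫ Limits.pullback.snd _ _ = 𝟙 T.left from σ.2, Category.id_comp]
  refine
    { toFun := fun σ => ⟨hom σ ≫ fst G T, ?_⟩
      invFun := fun h => ⟨Limits.pullback.lift (lift h.1 (𝟙 T)).left (𝟙 T.left) ?_, Limits.pullback.lift_snd _ _ _⟩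
      left_inv := fun σ => ?_
      right_inv := fun h => ?_ }
  · have e1 := congrArg (· ≫ fst X T) (h1 σ)
    simp only [GIT.psi, Category.assoc, lift_fst] at e1
    conv_rhs => rw [← e1]
    rw [← Category.assoc (hom σ) (G ◁ f)]
    congr 1
    refine CartesianMonoidalCategory.hom_ext _ _ (by simp) ?_
    simp [reassoc_of% (h2 σ)]
  · rw [Category.id_comp, ← Over.comp_left]
    congr 1
    refine CartesianMonoidalCategory.hom_ext _ _ ?_ (by simp [GIT.psi])
    simp [GIT.psi, lift_whiskerLeft_assoc, h.2]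
  · refine Subtype.ext (Limits.pullback.hom_ext ?_ ?_)
    · rw [Limits.pullback.lift_fst]
      have : lift (hom σ ≫ fst G T) (𝟙 T) = hom σ :=
        CartesianMonoidalCategory.hom_ext _ _ (by simp) (by simp [h2 σ])
      rw [this]; rfl
    · rw [Limits.pullback.lift_snd]
      exact σ.2.symm
  · refine Subtype.ext (Over.OverMorphism.ext ?_)
    show ((Limits.pullback.lift _ _ _) ≫ Limits.pullback.fst _ _) ≫ (fst G T).left = _
    rw [Limits.pullback.lift_fst, ← Over.comp_left, lift_fst]

variable {k : Type u} [Field k]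

/-- The stabiliser of a geometric point is finite iff it has finitely many points. -/
theorem isFinite_stabTo_iff {G X T : Over (Spec (CommRingCat.of k))} [GrpObj G] [IsAffine G.left]
    [LocallyOfFiniteType G.hom] [IsSeparated X.hom] (a : AlgGrp.Action G X) {Ω : Type u} [Field Ω] [IsAlgClosed Ω]
    (e : T.left ≅ Spec (CommRingCat.of Ω)) (f : T ⟶ X) :
    IsFinite (GLinSh.stabTo a f) ↔ Finite {h : T ⟶ G // lift h f ≫ a.act = f} := by
  haveI : IsAffine T.left := .of_isIso e.hom
  haveI : IsSeparated (snd X T).left := inferInstanceAs (IsSeparated (Limits.pullback.snd X.hom T.hom))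
  haveI : IsClosedImmersion ((lift f (𝟙 T)).left ≫ (snd X T).left) := by
    rw [← Over.comp_left, lift_snd]; exact inferInstanceAs (IsClosedImmersion (𝟙 T.left))
  haveI : IsClosedImmersion (lift f (𝟙 T)).left := IsClosedImmersion.of_comp _ (snd X T).left
  haveI : IsClosedImmersion (Limits.pullback.fst (GIT.psi a f).left (lift f (𝟙 T)).left) := inferInstance
  haveI : IsAffineHom G.hom := inferInstance
  haveI : IsAffineHom (snd G T).left := inferInstanceAs (IsAffineHom (Limits.pullback.snd G.hom T.hom))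
  haveI : LocallyOfFiniteType (snd G T).left :=
    inferInstanceAs (LocallyOfFiniteType (Limits.pullback.snd G.hom T.hom))
  have hfac : GLinSh.stabTo a f = Limits.pullback.fst (GIT.psi a f).left (lift f (𝟙 T)).left ≫ (snd G T).left := by
    have := congrArg (· ≫ (snd X T).left) (Limits.pullback.condition (f := (GIT.psi a f).left) (g := (lift f (𝟙 T)).left))
    simp only [Category.assoc, ← Over.comp_left] at this
    rw [show GIT.psi a f ≫ snd X T = snd G T from lift_snd _ _, lift_snd, Over.id_left, Category.comp_id] at this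
    exact this.symm
  haveI : LocallyOfFiniteType (GLinSh.stabTo a f) := by rw [hfac]; infer_instance
  haveI : QuasiCompact (GLinSh.stabTo a f) := by rw [hfac]; infer_instance
  rw [isFinite_iff_finite_sections e (GLinSh.stabTo a f), (stabSectionEquiv a f).finite_iff]

/-- Finite stabilisers through a geometric quotient by a normal subgroup. -/
theorem isFinite_stabTo_normal {H N Q X Y T : Over (Spec (CommRingCat.of k))} [GrpObj H] [GrpObj N] [GrpObj Q]
    [IsAffine H.left] [LocallyOfFiniteType H.hom] [IsAffine N.left] [LocallyOfFiniteType N.hom]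
    [IsAffine Q.left] [LocallyOfFiniteType Q.hom] [LocallyOfFiniteType X.hom] [IsSeparated X.hom]
    [IsSeparated Y.hom]
    {i : N ⟶ H} [IsMonHom i] {q : H ⟶ Q} [IsMonHom q] [Surjective q.left] (hker : AlgGrp.IsKernel i q)
    {a : AlgGrp.Action H X} {aN : AlgGrp.Action N X} (haN : aN.act = (i ▷ X) ≫ a.act)
    {π : X ⟶ Y} (hπ : GIT.IsGeomQuot aN π)
    {aQ : AlgGrp.Action Q Y} (hequiv : (q ⊗ₘ π) ≫ aQ.act = a.act ≫ π)
    {Ω : Type u} [Field Ω] [IsAlgClosed Ω] (e : T.left ≅ Spec (CommRingCat.of Ω)) (x : T ⟶ X)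
    (hfin : IsFinite (GLinSh.stabTo aN x)) :
    IsFinite (GLinSh.stabTo aQ (x ≫ π)) ↔ IsFinite (GLinSh.stabTo a x) := by
  rw [isFinite_stabTo_iff aN e x] at hfin
  rw [isFinite_stabTo_iff a e x, isFinite_stabTo_iff aQ e (x ≫ π)]
  have hN : ∀ n : T ⟶ N, lift n x ≫ aN.act = lift (n ≫ i) x ≫ a.act := fun n => by
    rw [haN, lift_whiskerRight_assoc]
  have heq : ∀ (h : T ⟶ H) (z : T ⟶ X), (lift h z ≫ a.act) ≫ π = lift (h ≫ q) (z ≫ π) ≫ aQ.act := fun h z => by
    rw [Category.assoc, ← hequiv, lift_map_assoc]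
  have hnq : ∀ n : T ⟶ N, (n ≫ i) ≫ q = 1 := fun n => by
    rw [Category.assoc, hker.w, ← Category.assoc, Hom.one_def]
    congr 1
    exact toUnit_unique _ _
  let F : {h : T ⟶ H // lift h x ≫ a.act = x} → {s : T ⟶ Q // lift s (x ≫ π) ≫ aQ.act = x ≫ π} :=
    fun h => ⟨h.1 ≫ q, by rw [← heq, h.2]⟩
  have hsurj : Function.Surjective F := by
    rintro ⟨s, hs⟩
    haveI : LocallyOfFiniteType (q.left ≫ Q.hom) := by rw [Over.w q]; infer_instance
    haveI : LocallyOfFiniteType q.left := locallyOfFiniteType_of_comp q.left Q.hom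
    obtain ⟨h₀, hh₀⟩ := exists_lift_geometricPoint (π := q) q.left.surjective e s
    let x₁ := lift h₀ x ≫ a.act
    have hx₁ : x₁ ≫ π = x ≫ π := by rw [heq, hh₀, hs]
    let W := Over.mk (Limits.pullback.fst π.left π.left ≫ X.hom)
    let Ψ : N ⊗ X ⟶ W := Over.homMk (GIT.PsiY aN π hπ.inv) (by
      show GIT.PsiY aN π hπ.inv ≫ Limits.pullback.fst π.left π.left ≫ X.hom = _
      rw [show GIT.PsiY aN π hπ.inv ≫ Limits.pullback.fst π.left π.left ≫ X.hom = aN.act.left ≫ X.hom from
        Limits.pullback.lift_fst_assoc _ _ _ _, Over.w])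
    haveI : LocallyOfFiniteType (N ⊗ X).hom := by
      rw [← Over.w (snd N X)]
      haveI : LocallyOfFiniteType (snd N X).left :=
        inferInstanceAs (LocallyOfFiniteType (Limits.pullback.snd N.hom X.hom))
      infer_instance
    haveI : LocallyOfFiniteType (Ψ.left ≫ W.hom) := by rw [Over.w Ψ]; infer_instance
    haveI : LocallyOfFiniteType Ψ.left := locallyOfFiniteType_of_comp Ψ.left W.hom
    let y : T ⟶ W := Over.homMk (Limits.pullback.lift x.left x₁.left (congrArg CommaMorphism.left hx₁.symm)) (by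
      show _ ≫ Limits.pullback.fst π.left π.left ≫ X.hom = _
      rw [Limits.pullback.lift_fst_assoc, Over.w])
    obtain ⟨g, hg⟩ := exists_lift_geometricPoint (π := Ψ) hπ.orbit e y
    have hg' : g.left ≫ GIT.PsiY aN π hπ.inv =
        Limits.pullback.lift x.left x₁.left (congrArg CommaMorphism.left hx₁.symm) := congrArg CommaMorphism.left hg
    have hg₁ : g ≫ aN.act = x := Over.OverMorphism.ext (by
      have := congrArg (· ≫ Limits.pullback.fst π.left π.left) hg'
      simp only [GIT.PsiY, Category.assoc, Limits.pullback.lift_fst] at this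
      exact this)
    have hg₂ : g ≫ snd N X = x₁ := Over.OverMorphism.ext (by
      have := congrArg (· ≫ Limits.pullback.snd π.left π.left) hg'
      simp only [GIT.PsiY, Category.assoc, Limits.pullback.lift_snd] at this
      exact this)
    refine ⟨⟨((g ≫ fst N X) ≫ i) * h₀, ?_⟩, Subtype.ext ?_⟩
    · rw [Hom.mul_def, lift_mul_act, show lift h₀ x ≫ a.act = x₁ from rfl, ← hg₂,
        ← lift_whiskerRight_assoc, ← haN, lift_comp_fst_snd]
      exact hg₁
    · show (((g ≫ fst N X) ≫ i) * h₀) ≫ q = s
      rw [MonObj.mul_comp, hnq, _root_.one_mul, hh₀]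
  refine ⟨fun hQ => ?_, fun hH => Finite.of_surjective F hsurj⟩
  refine Finite.of_injective
    (fun h : {h : T ⟶ H // lift h x ≫ a.act = x} => ((F h, (⟨hker.lift (h.1 * (Function.surjInv hsurj (F h)).1⁻¹)
      (toUnit T) ?_, ?_⟩ : {n : T ⟶ N // lift n x ≫ aN.act = x})))) ?_
  · have := congrArg Subtype.val (Function.surjInv_eq hsurj (F h))
    change (Function.surjInv hsurj (F h)).1 ≫ q = h.1 ≫ q at this
    rw [MonObj.mul_comp, GrpObj.inv_comp, this, mul_inv_cancel, Hom.one_def]
  · rw [hN, hker.lift_fst, Hom.mul_def, lift_mul_act]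
    have h' := (Function.surjInv hsurj (F h)).2
    have hinv : lift (Function.surjInv hsurj (F h)).1⁻¹ x ≫ a.act = x := by
      conv_lhs => arg 1; arg 2; rw [← h']
      rw [← lift_mul_act, ← Hom.mul_def, inv_mul_cancel, Hom.one_def]
      have : lift (toUnit T ≫ η[H]) x = lift (toUnit T) x ≫ (η[H] ▷ X) := (lift_whiskerRight _ _ _).symm
      rw [this, Category.assoc, a.one_act, lift_leftUnitor_hom]
    rw [hinv, h.2]
  · intro h h' hh
    simp only [Prod.mk.injEq, Subtype.mk.injEq] at hh
    obtain ⟨hF, hn⟩ := hh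
    have := congrArg (· ≫ i) hn
    simp only [hker.lift_fst, hF, mul_left_inj] at this
    exact Subtype.ext this

end Groth.Agent.GITLib
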