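import Mathlib

/-!
# Local rings of the integral closure of a Dedekind domain in an algebraic extension are valuation rings
-/

set_option autoImplicit false

open Polynomial

namespace Groth.Agent.GITLib

/-- In an integrally closed local domain with fraction field `L`, a root `x` of a polynomial with a unit
coefficient is integral or has integral inverse. -/
theorem isInteger_or_isInteger_of_root {A L : Type*} [CommRing A] [IsDomain A] [IsLocalRing A] [Field L]
    [Algebra A L] [IsFractionRing A L] [IsIntegrallyClosed A] (x : L) (f : A[X])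
    (hu : ∃ i, IsUnit (f.coeff i)) (hx : aeval x f = 0) :
    IsLocalization.IsInteger A x ∨ IsLocalization.IsInteger A x⁻¹ := by
  induction hd : f.natDegree using Nat.strong_induction_on generalizing f with
  | _ d ih =>
  rcases eq_or_ne x 0 with rfl | hx0
  · exact Or.inl ⟨0, map_zero _⟩
  obtain ⟨i, hi⟩ := hu
  obtain ⟨b, hb⟩ := IsIntegrallyClosed.isIntegral_iff.mp (isIntegral_leadingCoeff_smul f x hx)
  rw [Algebra.smul_def] at hb
  rcases d with _ | n
  · exfalso
    rw [eq_C_of_natDegree_eq_zero hd] at hx
    simp only [aeval_C] at hx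
    have hi0 : i = 0 := by
      by_contra h
      exact hi.ne_zero (coeff_eq_zero_of_natDegree_lt (by omega))
    subst hi0
    exact hi.ne_zero (IsFractionRing.injective A L (by rw [hx, map_zero]))
  by_cases hn : IsUnit f.leadingCoeff
  · obtain ⟨u, hu'⟩ := hn
    refine Or.inl ⟨(↑u⁻¹ : A) * b, ?_⟩
    rw [map_mul, hb, ← mul_assoc, ← map_mul, ← hu', Units.inv_mul, map_one, one_mul]
  let g : A[X] := f.eraseLead + C b * X ^ n
  have hg : aeval x g = 0 := by
    have h1 := congrArg (aeval x) (eraseLead_add_C_mul_X_pow f)
    rw [hx, map_add, map_mul, aeval_C, aeval_X_pow, hd, pow_succ'] at h1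
    simp only [g, map_add, map_mul, aeval_C, aeval_X_pow, hb]
    linear_combination h1
  have hgd : g.natDegree < n + 1 := by
    refine Nat.lt_succ_of_le ((natDegree_add_le _ _).trans (max_le ?_ (natDegree_C_mul_X_pow_le _ _)))
    have := eraseLead_natDegree_le f
    omega
  by_cases hgu : ∃ j, IsUnit (g.coeff j)
  · exact ih _ hgd g hgu hg rfl
  push Not at hgu
  have hin : i ≠ n + 1 := fun h => hn (by rw [leadingCoeff, hd, ← h]; exact hi)
  have hgi := hgu i
  simp only [g, coeff_add, coeff_C_mul_X_pow, eraseLead_coeff, hd, if_neg hin] at hgi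
  split_ifs at hgi with h
  · have hbu : IsUnit b := by
      by_contra hbu
      have h1 : f.coeff i ∈ nonunits A → False := fun h1 => h1 hi
      refine h1 ?_
      have h2 : f.coeff i + b + (-b) ∈ IsLocalRing.maximalIdeal A :=
        add_mem ((IsLocalRing.mem_maximalIdeal _).mpr hgi) (neg_mem ((IsLocalRing.mem_maximalIdeal _).mpr hbu))
      simpa using h2
    obtain ⟨u, hu'⟩ := hbu
    refine Or.inr ⟨f.leadingCoeff * (↑u⁻¹ : A), ?_⟩
    refine eq_inv_of_mul_eq_one_left ?_
    rw [map_mul, mul_assoc, mul_comm (algebraMap A L (↑u⁻¹ : A)) x, ← mul_assoc, ← hb, ← map_mul, ← hu',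
      Units.mul_inv, map_one]
  · rw [add_zero] at hgi
    exact absurd hi hgi

/-- The local rings of an integrally closed domain algebraic over a Dedekind domain are valuation rings. -/
theorem valuationRing_localization {R B : Type*} [CommRing R] [IsDedekindDomain R] [CommRing B] [IsDomain B]
    [IsIntegrallyClosed B] [Algebra R B] [FaithfulSMul R B] [Algebra.IsAlgebraic R B]
    (p : Ideal B) [p.IsPrime] : ValuationRing (Localization.AtPrime p) := by
  let A := Localization.AtPrime p
  let L := FractionRing B
  have : IsIntegrallyClosed A := isIntegrallyClosed_of_isLocalization A p.primeCompl p.primeCompl_le_nonZeroDivisors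
  let q := p.comap (algebraMap R B)
  have hq : q.primeCompl ≤ p.primeCompl.comap (algebraMap R B) := fun r hr => hr
  let Rq := Localization.AtPrime q
  let φ : Rq →+* A := Localization.localRingHom q p (algebraMap R B) rfl
  have hVq : ValuationRing Rq := by
    rcases eq_or_ne q ⊥ with h | h
    · have : IsFractionRing R Rq := by
        have : IsLocalization.AtPrime Rq q := inferInstance
        have hc : q.primeCompl = nonZeroDivisors R := by
          ext r
          simp [h, Ideal.primeCompl]
        rw [IsFractionRing, ← hc]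
        exact this
      let := IsFractionRing.toField R (K := Rq)
      exact ValuationRing.of_field Rq
    · have := IsLocalization.AtPrime.isDiscreteValuationRing_of_dedekind_domain R h Rq
      infer_instance
  let : Algebra A L := (IsLocalization.lift (M := p.primeCompl) (g := algebraMap B L) fun y =>
    isUnit_iff_ne_zero.mpr (map_ne_zero_of_mem_nonZeroDivisors _ (IsFractionRing.injective B L)
      (p.primeCompl_le_nonZeroDivisors y.2))).toAlgebra
  have : IsScalarTower B A L := IsScalarTower.of_algebraMap_eq fun b => by
    rw [RingHom.algebraMap_toAlgebra, IsLocalization.lift_eq]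
  have : IsFractionRing A L := IsFractionRing.isFractionRing_of_isDomain_of_isLocalization p.primeCompl A L
  rw [ValuationRing.iff_isInteger_or_isInteger A L]
  intro x
  have : IsScalarTower R B L := inferInstance
  obtain ⟨a, s, hs, rfl⟩ := IsFractionRing.div_surjective B x
  have halg : IsAlgebraic R (algebraMap B L a / algebraMap B L s) := by
    rw [div_eq_mul_inv]
    exact ((Algebra.IsAlgebraic.isAlgebraic a).algebraMap).mul
      ((Algebra.IsAlgebraic.isAlgebraic s).algebraMap.inv)
  obtain ⟨f, hf0, hf⟩ := halg
  set x := algebraMap B L a / algebraMap B L s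
  let f' : Rq[X] := f.map (algebraMap R Rq)
  have hf'0 : f' ≠ 0 := by
    rwa [Ne, Polynomial.map_eq_zero_iff (IsLocalization.injective Rq q.primeCompl_le_nonZeroDivisors)]
  obtain ⟨j, hj, hdvd⟩ : ∃ j ∈ f'.support, ∀ i ∈ f'.support, f'.coeff j ∣ f'.coeff i := by
    have : ∀ t : Finset ℕ, t.Nonempty → ∃ j ∈ t, ∀ i ∈ t, f'.coeff j ∣ f'.coeff i := by
      intro t ht
      induction ht using Finset.Nonempty.cons_induction with
      | singleton a => exact ⟨a, by simp, by simp⟩
      | cons a t ha _ h =>
        obtain ⟨j, hj, hd⟩ := h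
        rcases ValuationRing.dvd_total (f'.coeff a) (f'.coeff j) with h1 | h1
        · exact ⟨a, by simp, fun i hi => by
            rcases Finset.mem_cons.mp hi with rfl | hi
            exacts [dvd_rfl, h1.trans (hd i hi)]⟩
        · exact ⟨j, Finset.mem_cons.mpr (Or.inr hj), fun i hi => by
            rcases Finset.mem_cons.mp hi with rfl | hi
            exacts [h1, hd i hi]⟩
    exact this _ (support_nonempty.mpr hf'0)
  have hcd : C (f'.coeff j) ∣ f' := C_dvd_iff_dvd_coeff _ _ |>.mpr fun i => by
    by_cases hi : i ∈ f'.support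
    · exact hdvd i hi
    · rw [notMem_support_iff.mp hi]; exact dvd_zero _
  obtain ⟨g, hg⟩ := hcd
  have hcj : f'.coeff j ≠ 0 := mem_support_iff.mp hj
  have hgj : g.coeff j = 1 := mul_left_cancel₀ hcj (by rw [mul_one, ← coeff_C_mul, ← hg])
  refine isInteger_or_isInteger_of_root x (g.map φ) ⟨j, by rw [coeff_map, hgj, map_one]; exact isUnit_one⟩ ?_
  let ψ : Rq →+* L := (algebraMap A L).comp φ
  have hcomp : ψ.comp (algebraMap R Rq) = algebraMap R L := by
    ext r
    show algebraMap A L (φ (algebraMap R Rq r)) = _
    rw [Localization.localRingHom_to_map, ← IsScalarTower.algebraMap_apply, ← IsScalarTower.algebraMap_apply]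
  have hinj : Function.Injective (ψ.comp (algebraMap R Rq)) := by
    rw [hcomp, IsScalarTower.algebraMap_eq R B L]
    exact (IsFractionRing.injective B L).comp (FaithfulSMul.algebraMap_injective R B)
  have hψ : Function.Injective ψ := (injective_iff_map_eq_zero ψ).mpr fun z hz => by
    obtain ⟨⟨r, t⟩, rfl⟩ := IsLocalization.mk'_surjective q.primeCompl z
    have h1 := congrArg ψ (IsLocalization.mk'_spec Rq r t)
    rw [map_mul, hz, zero_mul] at h1
    have : r = 0 := hinj (by rw [RingHom.comp_apply, ← h1, RingHom.comp_apply, map_zero, map_zero])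
    show IsLocalization.mk' Rq r t = 0
    rw [this, IsLocalization.mk'_zero]
  have h0 : eval₂ ψ x f' = 0 := by rw [eval₂_map, hcomp]; exact hf
  rw [hg, eval₂_mul, eval₂_C] at h0
  rw [aeval_def, eval₂_map]
  exact (mul_eq_zero.mp h0).resolve_left fun h => hcj (hψ (h.trans (map_zero ψ).symm))

end Groth.Agent.GITLib
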