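import Groth.Agent.GITLib.PushforwardGen
import Groth.Agent.GITLib.TorsorSchMore

/-!
# Universal property of push forwards of torsors
-/

set_option autoImplicit false
set_option linter.style.haveILetI false
set_option backward.isDefEq.respectTransparency false

universe u

open CategoryTheory CategoryTheory.Limits MonoidalCategory CartesianMonoidalCategory MonObj AlgebraicGeometry

namespace Groth.Agent.GITLib

/-- An equivariant map along a composite factors through the push forward along the first map. -/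
theorem exists_factor_pushforward {S : Scheme.{u}} {J J' J'' P P' P'' : Over S} [GrpObj J] [GrpObj J'] [GrpObj J'']
    (e : J ⟶ J') (j : J' ⟶ J'') [IsMonHom e] [IsMonHom j]
    {a : AlgGrp.Action J P} {a' : AlgGrp.Action J' P'} {a'' : AlgGrp.Action J'' P''}
    (ha : NonAbH1.IsTorsorFor Scheme.fpqcPrecoverage a) (ha' : NonAbH1.IsPseudoTorsorSch a')
    (f : P ⟶ P') (hf : a.act ≫ f = lift (fst J P ≫ e) (snd J P ≫ f) ≫ a'.act)
    (h : P ⟶ P'') (hh : a.act ≫ h = lift (fst J P ≫ e ≫ j) (snd J P ≫ h) ≫ a''.act) :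
    ∃ g : P' ⟶ P'', a'.act ≫ g = lift (fst J' P' ≫ j) (snd J' P' ≫ g) ≫ a''.act := by
  obtain ⟨κ, V, c, hc, hσ⟩ := exists_affine_family ha.2
  let σ : ∀ i, Over.mk (c i) ⟶ P := fun i => (hσ i).some
  choose dif hdif huni using fun (T : Over S) (x y : T ⟶ P') => existsUnique_diff ha' x y
  have natd : ∀ {T T' : Over S} (k : T' ⟶ T) (x y : T ⟶ P'), k ≫ dif T x y = dif T' (k ≫ x) (k ≫ y) :=
    fun {T T'} k x y => huni _ _ _ _ (by
      show lift (k ≫ dif T x y) (k ≫ x) ≫ a'.act = k ≫ y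
      rw [← comp_lift_assoc, hdif])
  let val : ∀ {T : Over S} (_ : T ⟶ P') (_ : T ⟶ P), (T ⟶ P'') := fun {T} x p =>
    lift (dif T (p ≫ f) x ≫ j) (p ≫ h) ≫ a''.act
  have natv : ∀ {T T' : Over S} (k : T' ⟶ T) (x : T ⟶ P') (p : T ⟶ P), k ≫ val x p = val (k ≫ x) (k ≫ p) :=
    fun k x p => by
      show k ≫ lift _ _ ≫ a''.act = _
      simp only [val, comp_lift_assoc, Category.assoc]
      rw [← Category.assoc, natd]
  have indv : ∀ {T : Over S} (x : T ⟶ P') (p q : T ⟶ P), val x p = val x q := by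
    intro T x p q
    obtain ⟨g, hg, -⟩ := existsUnique_diff ha.1 p q
    have hgf : q ≫ f = lift (g ≫ e) (p ≫ f) ≫ a'.act := by
      rw [← hg, Category.assoc, hf, comp_lift_assoc, lift_fst_assoc, lift_snd_assoc]
    have hgh : q ≫ h = lift (g ≫ e ≫ j) (p ≫ h) ≫ a''.act := by
      rw [← hg, Category.assoc, hh, comp_lift_assoc, lift_fst_assoc, lift_snd_assoc]
    have hd : dif T (p ≫ f) x = dif T (q ≫ f) x * (g ≫ e) := (huni _ _ _ _ (by
      show lift (dif T (q ≫ f) x * (g ≫ e)) (p ≫ f) ≫ a'.act = x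
      rw [a'.lift_mul_act, ← hgf, hdif])).symm
    show lift (dif T (p ≫ f) x ≫ j) (p ≫ h) ≫ a''.act = lift (dif T (q ≫ f) x ≫ j) (q ≫ h) ≫ a''.act
    rw [hd, MonObj.mul_comp, a''.lift_mul_act, Category.assoc g e j, hgh]
  obtain ⟨g, hg⟩ := exists_desc_fam hc (T := P') (Z := P'') (fun {T' i} x p => val x (p ≫ σ i))
    (fun k x p => by rw [natv, Category.assoc])
    (fun x p p' => indv x _ _)
  refine ⟨g, hom_ext_famMk hc _ _ fun {T' i} m p => ?_⟩
  obtain ⟨g₀, x, rfl⟩ : ∃ g₀ x, m = lift g₀ x := ⟨m ≫ fst _ _, m ≫ snd _ _, (lift_comp_fst_snd m).symm⟩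
  rw [← Category.assoc, hg _ p, comp_lift_assoc, lift_fst_assoc, lift_snd_assoc, hg _ p]
  show lift (dif T' _ (lift g₀ x ≫ a'.act) ≫ j) _ ≫ a''.act = _
  have hd : dif T' ((p ≫ σ i) ≫ f) (lift g₀ x ≫ a'.act) = g₀ * dif T' ((p ≫ σ i) ≫ f) x :=
    (huni _ _ _ _ (by
      show lift (g₀ * dif T' ((p ≫ σ i) ≫ f) x) ((p ≫ σ i) ≫ f) ≫ a'.act = _
      rw [a'.lift_mul_act, hdif])).symm
  rw [hd, MonObj.mul_comp, a''.lift_mul_act]

end Groth.Agent.GITLib
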