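import Groth.Agent.GrpQuot50.Orbit
import Groth.Agent.GrpScheme.SubgroupObj
import Groth.Prelude.Def_W4bk4git07Quot
import Groth.Prelude.Def_ChGrp

/-!
# Orbits and stabilisers of rational points of schemes that need not be separated
-/

set_option autoImplicit false
set_option linter.style.haveILetI false
set_option backward.isDefEq.respectTransparency false

universe u

open CategoryTheory CategoryTheory.Limits MonoidalCategory CartesianMonoidalCategory MonObj GrpObj
  AlgebraicGeometry TopologicalSpace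

namespace Groth.Agent.GITLib.RatOrbit

open GrpQuot50.Orbit Groth.Agent.GrpScheme

/-- A rational point is a closed immersion. -/
theorem isClosedImmersion_rat {k : Type u} [Field k] {X : Over (Spec (CommRingCat.of k))}
    [LocallyOfFiniteType X.hom] (x : 𝟙_ (Over (Spec (CommRingCat.of k))) ⟶ X) :
    IsClosedImmersion x.left := by
  haveI : IsImmersion (x.left ≫ X.hom) := by
    rw [Over.w]
    exact inferInstanceAs (IsImmersion (𝟙 (Spec (CommRingCat.of k))))
  haveI : IsImmersion x.left := IsImmersion.of_comp x.left X.hom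
  haveI : JacobsonSpace X.left := LocallyOfFiniteType.jacobsonSpace X.hom
  haveI : Unique (𝟙_ (Over (Spec (CommRingCat.of k)))).left := inferInstanceAs (Unique (Spec (CommRingCat.of k)))
  have h : IsLocallyClosed (Set.range x.left) := x.left.isLocallyClosed_range
  refine IsClosedImmersion.of_isPreimmersion _ ?_
  rw [Set.range_unique] at h ⊢
  exact isClosed_singleton_of_isLocallyClosed_singleton h

section

variable {K : Type u} [Field K] {G X Y : Over (Spec (CommRingCat.of K))} [GrpObj G]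

/-- The quotient by the stabilizer of a rational point exists and is immersed in the ambient scheme. -/
theorem exists_quotient_orbit {Go : Over (Spec (CommRingCat.of K))} [GrpObj Go]
    [LocallyOfFiniteType G.hom] [QuasiCompact G.hom] [LocallyOfFiniteType X.hom]
    (a : AlgGrp.Action G X) (o : 𝟙_ (Over (Spec (CommRingCat.of K))) ⟶ X) (i : Go ⟶ G) [IsMonHom i]
    (hGo : IsPullback i (toUnit Go) (a.orbitMap o) o) [IsClosedImmersion o.left] :
    ∃ (Z : Over (Spec (CommRingCat.of K))) (b : AlgGrp.Action G Z) (y : 𝟙_ _ ⟶ Z) (f : Z ⟶ X),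
      AGF.IsQuotient i Z b y ∧ (G ◁ f) ≫ a.act = b.act ≫ f ∧ y ≫ f = o ∧
        b.orbitMap y ≫ f = a.orbitMap o ∧ IsImmersion f.left := by
  have : IsClosedImmersion i.left :=
    MorphismProperty.of_isPullback (GrpdLib.GrpOver.isPullback_left hGo).flip ‹_›
  have : Mono i.left := inferInstance
  have : Mono i := Over.mono_of_mono_left i
  have : LocallyOfFiniteType Go.hom := by rw [← Over.w i]; infer_instance
  obtain ⟨Z, p, hpf, hps, hpl, hsq⟩ := GrpQuot19.Field.exists_quotient_of_closedSubgroup i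
  have hc : AGFQuot.Basic.IsCover p := ⟨hps, hpf, hpl⟩
  have hq := hsq.flip
  have : LocallyOfFiniteType (p.left ≫ Z.hom) := by rw [Over.w p]; infer_instance
  have : LocallyOfFiniteType Z.hom :=
    GrpdLib.FppfSourceDescent.locallyOfFiniteType_of_comp_fppf p.left Z.hom
  have : QuasiCompact Z.hom := by
    have : QuasiCompact (p.left ≫ Z.hom) := by rw [Over.w p]; infer_instance
    have : CompactSpace G.left := (quasiCompact_iff_compactSpace G.hom).1 inferInstance
    have : CompactSpace Z.left := p.left.surjective.compactSpace p.left.continuous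
    exact (quasiCompact_iff_compactSpace Z.hom).2 inferInstance
  have : EffectiveEpi (G ◁ p).left := (hc.whiskerLeft G).effectiveEpi
  have hmulfix : ∀ {T : Over (Spec (CommRingCat.of K))} (g g' : T ⟶ G),
      g ≫ p = g' ≫ p → ∀ c : T ⟶ G, (c * g) ≫ p = (c * g') ≫ p := fun g g' e c => by
    obtain ⟨t, rfl⟩ := (AGFQuot.Basic.comp_eq_iff hq g g').mp e
    rw [AGFQuot.Basic.comp_eq_iff hq]
    exact ⟨t, _root_.mul_assoc _ _ _⟩
  have hμ : ∀ {T : Over (Spec (CommRingCat.of K))} (w : T ⟶ G ⊗ G),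
      w ≫ μ[G] = (w ≫ fst G G) * (w ≫ snd G G) := fun w => by
    rw [MonObj.mul_eq_mul, MonObj.comp_mul]
  obtain ⟨act, hact, -⟩ := GrpdLib.GrpOver.existsUnique_desc (G ◁ p) (μ[G] ≫ p) fun T u v e => by
    have e1 := e =≫ fst G Z
    have e2 := e =≫ snd G Z
    simp only [Category.assoc, whiskerLeft_fst, whiskerLeft_snd] at e1 e2
    rw [← Category.assoc, ← Category.assoc, hμ, hμ, e1]
    refine hmulfix _ _ ?_ _
    simpa only [Category.assoc] using e2
  have hact' : ∀ {T : Over (Spec (CommRingCat.of K))} (c g : T ⟶ G),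
      lift c (g ≫ p) ≫ act = (c * g) ≫ p := fun c g => by
    rw [← lift_whiskerLeft_assoc, hact, ← Category.assoc, hμ, lift_fst, lift_snd]
  have hone : (η[G] ▷ Z) ≫ act = (λ_ Z).hom := by
    refine (hc.whiskerLeft _).cancel ?_
    refine Eq.trans (?_ : _ = lift (toUnit _ ≫ η[G]) (snd (𝟙_ _) G ≫ p) ≫ act) ?_
    · rw [← Category.assoc]
      congr 1
      exact CartesianMonoidalCategory.hom_ext _ _ (by simp [toUnit_unique (fst (𝟙_ _) G) (toUnit _)])
        (by simp [CartesianMonoidalCategory.leftUnitor_hom])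
    · rw [hact', ← Hom.one_def, _root_.one_mul]
      simp [CartesianMonoidalCategory.leftUnitor_hom]
  have hmul : (μ[G] ▷ Z) ≫ act = (α_ G G Z).hom ≫ (G ◁ act) ≫ act := by
    refine (hc.whiskerLeft _).cancel ?_
    have e1 : ((G ⊗ G) ◁ p) ≫ (μ[G] ▷ Z) =
        lift (fst (G ⊗ G) G ≫ fst G G * (fst (G ⊗ G) G ≫ snd G G)) (snd (G ⊗ G) G ≫ p) :=
      CartesianMonoidalCategory.hom_ext _ _ (by rw [Category.assoc, whiskerRight_fst, lift_fst,
        whiskerLeft_fst_assoc, hμ]) (by simp)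
    have e2 : ((G ⊗ G) ◁ p) ≫ (α_ G G Z).hom =
        lift (fst (G ⊗ G) G ≫ fst G G) (lift (fst (G ⊗ G) G ≫ snd G G) (snd (G ⊗ G) G ≫ p)) :=
      CartesianMonoidalCategory.hom_ext _ _ (by simp)
        (CartesianMonoidalCategory.hom_ext _ _ (by simp) (by simp))
    rw [reassoc_of% e1, reassoc_of% e2, hact', lift_whiskerLeft_assoc, hact', hact',
      _root_.mul_assoc]
  let b : AlgGrp.Action G Z := ⟨act, hone, hmul⟩
  let y : 𝟙_ _ ⟶ Z := η[G] ≫ p
  have horb : b.orbitMap y = p := by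
    show lift (𝟙 G) (toUnit G ≫ η[G] ≫ p) ≫ act = p
    rw [← Category.assoc (toUnit G), hact', ← Hom.one_def, _root_.mul_one, Category.id_comp]
  have hfix : ∀ {T : Over (Spec (CommRingCat.of K))} (g : T ⟶ G),
      g ≫ a.orbitMap o = toUnit T ≫ o ↔ ∃ t : T ⟶ Go, t ≫ i = g := fun {T} g =>
    ⟨fun e => ⟨hGo.lift g (toUnit T) e, hGo.lift_fst _ _ _⟩, fun ⟨t, ht⟩ => by
      rw [← ht, Category.assoc, hGo.w, ← Category.assoc, toUnit_unique (t ≫ toUnit Go) (toUnit T)]⟩
  obtain ⟨f, hf, -⟩ := AGFQuot.Basic.existsUnique_desc hc hq (a.orbitMap o) fun T g t => by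
    rw [AGFQuot.Basic.orbitMap_comp, AGFQuot.Basic.orbitMap_comp, Basic.mul_smul']
    congr 1
    rw [← AGFQuot.Basic.orbitMap_comp]
    exact (hfix _).2 ⟨t, rfl⟩
  have hequiv : (G ◁ f) ≫ a.act = b.act ≫ f := by
    refine (hc.whiskerLeft G).cancel ?_
    rw [← MonoidalCategory.whiskerLeft_comp_assoc, hf, ← Category.assoc (G ◁ p), hact,
      Category.assoc, hf]
    have e : G ◁ a.orbitMap o = lift (fst G G) (snd G G ≫ a.orbitMap o) :=
      CartesianMonoidalCategory.hom_ext _ _ (by simp) (by simp)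
    rw [e, AGFQuot.Basic.orbitMap_comp, AGFQuot.Basic.orbitMap_comp, MonObj.mul_eq_mul,
      Basic.mul_smul']
    rfl
  have hyf : y ≫ f = o := by
    show (η[G] ≫ p) ≫ f = o
    rw [Category.assoc, hf]
    refine ((hfix _).2 ⟨η[Go], IsMonHom.one_hom i⟩).trans ?_
    rw [toUnit_unique (toUnit _) (𝟙 (𝟙_ _)), Category.id_comp]
  have : Mono f := by
    refine ⟨fun {T} s s' e => ?_⟩
    obtain ⟨T₁, c₁, g, hc₁, hg⟩ := hc.exists_lift s
    obtain ⟨T₂, c₂, g', hc₂, hg'⟩ := hc.exists_lift (c₁ ≫ s')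
    refine (hc₂.comp hc₁).cancel ?_
    rw [Category.assoc, Category.assoc, ← hg, ← hg', ← Category.assoc]
    have e' : (c₂ ≫ g) ≫ a.orbitMap o = g' ≫ a.orbitMap o := by
      rw [← hf, ← Category.assoc, ← Category.assoc g', Category.assoc c₂ g p, hg, hg']
      simp only [Category.assoc, e]
    rw [AGFQuot.Basic.comp_eq_iff hq]
    obtain ⟨t, ht⟩ := (hfix ((c₂ ≫ g)⁻¹ * g')).1 (by
      rw [AGFQuot.Basic.orbitMap_comp, Basic.mul_smul', ← AGFQuot.Basic.orbitMap_comp, ← e',
        AGFQuot.Basic.orbitMap_comp, Basic.inv_smul_smul'])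
    exact ⟨t, by rw [ht, _root_.mul_inv_cancel_left]⟩
  have : QuasiCompact f.left := GrpdLib.GrpOver.quasiCompact_left f
  have : Surjective (b.orbitMap y).left := horb ▸ hps
  exact ⟨Z, b, y, f, ⟨‹_›, horb ▸ hpf, horb ▸ hps, horb ▸ hq⟩, hequiv, hyf, by rw [horb, hf],
    isImmersion_of_equivariant_mono a b f hequiv y⟩

end

section

variable {k : Type u} [Field k]

/-- The stabiliser of a rational point (closed immersion) is a closed subgroup. -/
theorem exists_stab_grp {G Q : Over (Spec (CommRingCat.of k))} [GrpObj G]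
    (aQ : AlgGrp.Action G Q) (q₀ : 𝟙_ (Over (Spec (CommRingCat.of k))) ⟶ Q)
    [IsClosedImmersion q₀.left] :
    ∃ (N : Over (Spec (CommRingCat.of k))) (_ : GrpObj N) (i : N ⟶ G),
      IsMonHom i ∧ IsClosedImmersion i.left ∧
      ∀ {T : Over (Spec (CommRingCat.of k))} (g : T ⟶ G),
        lift g (toUnit T ≫ q₀) ≫ aQ.act = toUnit T ≫ q₀ ↔ ∃ z, z ≫ i = g := by
  let o : G ⟶ Q := aQ.orbitMap q₀
  have ho : ∀ {T : Over (Spec (CommRingCat.of k))} (g : T ⟶ G),
      g ≫ o = lift g (toUnit T ≫ q₀) ≫ aQ.act := fun g => by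
    show g ≫ lift (𝟙 G) (toUnit G ≫ q₀) ≫ aQ.act = _
    rw [comp_lift_assoc, Category.comp_id, comp_toUnit_assoc]
  let N := pullback o q₀
  let i : N ⟶ G := pullback.fst o q₀
  haveI hi : IsClosedImmersion i.left :=
    MorphismProperty.of_isPullback ((IsPullback.of_hasPullback o q₀).map (Over.forget _)).flip ‹_›
  haveI : Mono i.left := inferInstance
  haveI : Mono i := Over.mono_of_mono_left i
  have hiff : ∀ {T : Over (Spec (CommRingCat.of k))} (g : T ⟶ G),
      lift g (toUnit T ≫ q₀) ≫ aQ.act = toUnit T ≫ q₀ ↔ ∃ z, z ≫ i = g := fun {T} g => by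
    rw [← ho]
    refine ⟨fun h => ⟨pullback.lift g (toUnit T) h, pullback.lift_fst _ _ _⟩, ?_⟩
    rintro ⟨z, rfl⟩
    rw [Category.assoc, pullback.condition, ← Category.assoc]
    congr 1
    exact toUnit_unique _ _
  have hfix : lift i (toUnit N ≫ q₀) ≫ aQ.act = toUnit N ≫ q₀ := (hiff i).mpr ⟨𝟙 N, Category.id_comp _⟩
  have hfix' : ∀ {T : Over (Spec (CommRingCat.of k))} (z : T ⟶ N),
      lift (z ≫ i) (toUnit T ≫ q₀) ≫ aQ.act = toUnit T ≫ q₀ := fun z => (hiff _).mpr ⟨z, rfl⟩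
  obtain ⟨m, hm⟩ := (hiff ((fst N N ≫ i) * (snd N N ≫ i))).mp (by
    rw [aQ.lift_mul_act, hfix', hfix'])
  obtain ⟨e, he⟩ := (hiff (1 : 𝟙_ (Over (Spec (CommRingCat.of k))) ⟶ G)).mp (by rw [aQ.lift_one_act])
  obtain ⟨v, hv⟩ := (hiff i⁻¹).mp (by
    conv_lhs => rw [← hfix]
    rw [← aQ.lift_mul_act, inv_mul_cancel, aQ.lift_one_act])
  obtain ⟨g, hg⟩ := GrpScheme.SubgroupObj.exists_grpObj i
    ⟨m, hm.trans (by
      rw [Hom.mul_def]
      refine congrArg (· ≫ μ[G]) (CartesianMonoidalCategory.hom_ext _ _ ?_ ?_) <;> simp)⟩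
    ⟨e, he.trans (by rw [Hom.one_def, toUnit_unique (toUnit _) (𝟙 _), Category.id_comp])⟩
    ⟨v, hv.trans (Hom.inv_def i)⟩
  exact ⟨N, g, i, hg, hi, fun {T} g => hiff g⟩

end

end Groth.Agent.GITLib.RatOrbit
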