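import Groth.Agent.GITLib.Orbit
import Mathlib.AlgebraicGeometry.AffineSpace
import Mathlib.CategoryTheory.Limits.Constructions.Over.Connected

/-!
# Universal categorical quotients
-/

set_option autoImplicit false

universe u

open CategoryTheory MonoidalCategory CartesianMonoidalCategory MonObj AlgebraicGeometry Topology

namespace Groth.Agent.GITLib

variable {S : Scheme.{u}} {G X Y : Over S} [GrpObj G] {a : AlgGrp.Action G X} {φ : X ⟶ Y}

/-- A square in `Over S` is cartesian as soon as it is cartesian on underlying schemes. -/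
theorem isPullback_of_left {P A B C : Over S} {f : P ⟶ A} {g : P ⟶ B} {h : A ⟶ C} {k : B ⟶ C}
    (H : IsPullback f.left g.left h.left k.left) : IsPullback f g h k :=
  IsPullback.of_map (Over.forget S) (Over.OverMorphism.ext H.w) H

theorem isPullback_left {P A B C : Over S} {f : P ⟶ A} {g : P ⟶ B} {h : A ⟶ C} {k : B ⟶ C}
    (H : IsPullback f g h k) : IsPullback f.left g.left h.left k.left :=
  H.map (Over.forget S)

variable {X' Y' : Over S} {pr : X' ⟶ X} {φ' : X' ⟶ Y'} {g : Y' ⟶ Y}

/-- The action on the base change of an invariant morphism. -/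
noncomputable def pullbackAction (a : AlgGrp.Action G X) (hi : GIT.IsInvariant a φ)
    (H : IsPullback pr φ' φ g) : AlgGrp.Action G X' where
  act := H.lift ((G ◁ pr) ≫ a.act) (snd G X' ≫ φ') (by
    rw [Category.assoc, show a.act ≫ φ = snd G X ≫ φ from hi, whiskerLeft_snd_assoc, Category.assoc, H.w])
  one_act := by
    refine H.hom_ext ?_ ?_
    · rw [Category.assoc, H.lift_fst, ← whisker_exchange_assoc, a.one_act]
      simp
    · rw [Category.assoc, H.lift_snd, whiskerRight_snd_assoc, leftUnitor_hom]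
  mul_act := by
    refine H.hom_ext ?_ ?_
    · simp only [Category.assoc]
      rw [H.lift_fst, ← whisker_exchange_assoc, a.mul_act, ← MonoidalCategory.whiskerLeft_comp_assoc,
        H.lift_fst, MonoidalCategory.whiskerLeft_comp_assoc, associator_naturality_right_assoc]
    · simp only [Category.assoc]
      rw [H.lift_snd, whiskerRight_snd_assoc, whiskerLeft_snd_assoc, H.lift_snd]
      simp

theorem pullbackAction_pr (hi : GIT.IsInvariant a φ) (H : IsPullback pr φ' φ g) :
    (pullbackAction a hi H).act ≫ pr = (G ◁ pr) ≫ a.act := H.lift_fst _ _ _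

theorem pullbackAction_inv (hi : GIT.IsInvariant a φ) (H : IsPullback pr φ' φ g) :
    GIT.IsInvariant (pullbackAction a hi H) φ' := H.lift_snd _ _ _

/-- Base change of a universal categorical quotient. -/
theorem isUnivCatQuot_baseChange (h : GIT.IsUnivCatQuot a φ) (H : IsPullback pr φ' φ g)
    (a' : AlgGrp.Action G X') (ha : a'.act ≫ pr = (G ◁ pr) ≫ a.act) (hi : GIT.IsInvariant a' φ') :
    GIT.IsUnivCatQuot a' φ' := by
  refine ⟨h.2 pr φ' g trivial H a' ha hi, fun X'' Y'' pr' φ'' g' _ H' a'' ha'' hi'' => ?_⟩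
  refine h.2 (pr' ≫ pr) φ'' (g' ≫ g) trivial (H'.paste_horiz H) a'' ?_ hi''
  rw [← Category.assoc, ha'', Category.assoc, ha, ← Category.assoc, ← MonoidalCategory.whiskerLeft_comp]

/-- A universal categorical quotient is surjective. -/
theorem surjective_of_isUnivCatQuot (h : GIT.IsUnivCatQuot a φ) : Function.Surjective φ.left.base := by
  intro y
  let Y₀ : Over S := Over.mk (Y.left.fromSpecResidueField y ≫ Y.hom)
  let g : Y₀ ⟶ Y := Over.homMk (Y.left.fromSpecResidueField y) rfl
  let X₀ : Over S := Over.mk (Limits.pullback.fst φ.left g.left ≫ X.hom)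
  let pr : X₀ ⟶ X := Over.homMk (Limits.pullback.fst φ.left g.left) rfl
  let φ' : X₀ ⟶ Y₀ := Over.homMk (Limits.pullback.snd φ.left g.left) (by
    show Limits.pullback.snd φ.left g.left ≫ Y₀.hom = Limits.pullback.fst φ.left g.left ≫ X.hom
    rw [← Over.w g, ← Over.w φ, Limits.pullback.condition_assoc])
  have H : IsPullback pr φ' φ g := isPullback_of_left (IsPullback.of_hasPullback φ.left g.left)
  have hcat := h.2 pr φ' g trivial H (pullbackAction a h.1.1 H) (pullbackAction_pr h.1.1 H)
    (pullbackAction_inv h.1.1 H)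
  by_contra hy
  have key : ∀ p : (Limits.pullback φ.left g.left : Scheme.{u}), False := fun p => by
    apply hy
    refine ⟨(Limits.pullback.fst φ.left g.left).base p, ?_⟩
    calc φ.left.base ((Limits.pullback.fst φ.left g.left).base p)
        = (Limits.pullback.fst φ.left g.left ≫ φ.left).base p := rfl
      _ = (Limits.pullback.snd φ.left g.left ≫ g.left).base p := by rw [Limits.pullback.condition]
      _ = (Y.left.fromSpecResidueField y).base ((Limits.pullback.snd φ.left g.left).base p) := rfl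
      _ = y := Scheme.fromSpecResidueField_apply _ _
  let Z : Over S := Over.mk (Scheme.emptyTo S)
  have : IsEmpty X₀.left := ⟨key⟩
  let ψ : X₀ ⟶ Z := Over.homMk (isInitialOfIsEmpty.to _) (isInitialOfIsEmpty.hom_ext _ _)
  have : IsEmpty (G ⊗ X₀).left := ⟨fun p => IsEmpty.false ((snd G X₀).left.base p)⟩
  obtain ⟨χ, -, -⟩ := hcat.2 Z ψ (Over.OverMorphism.ext (isInitialOfIsEmpty.hom_ext _ _))
  have pt : Y₀.left := IsLocalRing.closedPoint (Y.left.residueField y)
  exact PEmpty.elim (χ.left.base pt)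

/-- A universal categorical quotient has the invariant functions as functions. -/
theorem sections_of_isUnivCatQuot (h : GIT.IsUnivCatQuot a φ) (U : Y.left.Opens) :
    Function.Injective (φ.left.app U) ∧ Set.range (φ.left.app U) = {f | GIT.IsInvSection a φ U f} := by
  let V := φ.left ⁻¹ᵁ U
  let Y₀ : Over S := Over.mk (U.ι ≫ Y.hom)
  let g : Y₀ ⟶ Y := Over.homMk U.ι rfl
  let X₀ : Over S := Over.mk (V.ι ≫ X.hom)
  let pr : X₀ ⟶ X := Over.homMk V.ι rfl
  let φ' : X₀ ⟶ Y₀ := Over.homMk (φ.left ∣_ U) (by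
    show φ.left ∣_ U ≫ U.ι ≫ Y.hom = V.ι ≫ X.hom
    rw [morphismRestrict_ι_assoc, Over.w])
  have H : IsPullback pr φ' φ g := isPullback_of_left (isPullback_morphismRestrict φ.left U).flip
  let a' := pullbackAction a h.1.1 H
  have hcat := h.2 pr φ' g trivial H a' (pullbackAction_pr h.1.1 H) (pullbackAction_inv h.1.1 H)
  let Z : Over S := Over.mk (𝔸(PUnit.{u + 1}; S) ↘ S)
  let mk : ∀ W : Over S, Γ(W.left, ⊤) → (W ⟶ Z) := fun W s =>
    Over.homMk (AffineSpace.homOfVector W.hom fun _ => s) (AffineSpace.homOfVector_over _ _)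
  have mk_comp : ∀ {W W' : Over S} (k : W ⟶ W') (s : Γ(W'.left, ⊤)),
      k ≫ mk W' s = mk W (k.left.appTop s) := by
    intro W W' k s
    refine Over.OverMorphism.ext ?_
    show k.left ≫ AffineSpace.homOfVector W'.hom _ = AffineSpace.homOfVector W.hom _
    rw [AffineSpace.comp_homOfVector, Over.w]
    rfl
  have mk_inj : ∀ (W : Over S) (s t : Γ(W.left, ⊤)), mk W s = mk W t → s = t := fun W s t e => by
    have := congrArg (fun m : W ⟶ Z => m.left.appTop (AffineSpace.coord S PUnit.unit)) e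
    exact (AffineSpace.homOfVector_appTop_coord _ _ _).symm.trans
      (this.trans (AffineSpace.homOfVector_appTop_coord _ _ _))
  have mk_surj : ∀ (W : Over S) (m : W ⟶ Z), mk W (m.left.appTop (AffineSpace.coord S PUnit.unit)) = m := by
    intro W m
    refine Over.OverMorphism.ext (AffineSpace.hom_ext ?_ fun i => ?_)
    · exact (AffineSpace.homOfVector_over _ _).trans (Over.w m).symm
    · exact AffineSpace.homOfVector_appTop_coord _ _ i
  -- sections over `U` and over `V` as global sections of the open subschemes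
  let eU : Γ(Y.left, U) → Γ(Y₀.left, ⊤) := fun s => U.topIso.inv s
  let eV : Γ(X.left, V) → Γ(X₀.left, ⊤) := fun s => V.topIso.inv s
  have eV_inj : Function.Injective eV := (ConcreteCategory.bijective_of_isIso V.topIso.inv).1
  have hsq : ∀ s, φ'.left.appTop (eU s) = eV (φ.left.app U s) := by
    intro s
    show (φ.left ∣_ U).appTop (U.topIso.inv s) = V.topIso.inv (φ.left.app U s)
    rw [← Scheme.Hom.resLE_eq_morphismRestrict, Scheme.Hom.appTop, Scheme.Hom.resLE_app_top]
    simp only [ConcreteCategory.comp_apply, Scheme.Hom.appLE_eq_app]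
    congr 2
    exact congrArg (fun m : Γ(Y.left, U) ⟶ Γ(Y.left, U) => m s) U.topIso.inv_hom_id
  have hV : ⊤ ≤ pr.left ⁻¹ᵁ V := fun x _ => x.2
  have hW : ∀ p, pr.left.appLE V ⊤ hV p = eV p := by
    intro p
    refine congrArg (fun m : Γ(X.left, V) ⟶ Γ((V : Scheme.{u}), ⊤) => m p) ?_
    exact (Scheme.Opens.ι_appLE (U := V) _ _ _).trans (Scheme.Opens.topIso_inv V).symm
  let W := a.act.left ⁻¹ᵁ V ⊓ (snd G X).left ⁻¹ᵁ V
  have hle : ⊤ ≤ (G ◁ pr).left ⁻¹ᵁ W := by
    intro p _
    have h2 : (snd G X).left.base ((G ◁ pr).left.base p) ∈ V := by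
      have := congrArg (fun m : G ⊗ X₀ ⟶ X => m.left.base p) (whiskerLeft_snd G pr)
      show (snd G X).left.base ((G ◁ pr).left.base p) ∈ V
      rw [show (snd G X).left.base ((G ◁ pr).left.base p) = V.ι.base ((snd G X₀).left.base p) from this]
      exact ((snd G X₀).left.base p).2
    refine ⟨?_, h2⟩
    have := congrArg (fun m : G ⊗ X₀ ⟶ X => m.left.base p) (pullbackAction_pr h.1.1 H)
    show a.act.left.base ((G ◁ pr).left.base p) ∈ V
    rw [show a.act.left.base ((G ◁ pr).left.base p) = V.ι.base (a'.act.left.base p) from this.symm]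
    exact (a'.act.left.base p).2
  have : IsOpenImmersion pr.left := inferInstanceAs (IsOpenImmersion V.ι)
  have : IsOpenImmersion (G ◁ pr).left :=
    MorphismProperty.of_isPullback (isPullback_whiskerLeft G pr) this
  have hrange : W ≤ (G ◁ pr).left.opensRange := by
    intro p hp
    obtain ⟨w, -, hw⟩ := Scheme.Pullback.exists_preimage_pullback (f := pr.left) (g := (snd G X).left)
      ⟨(snd G X).left.base p, hp.2⟩ p rfl
    let e := (isPullback_whiskerLeft G pr).isoPullback
    exact ⟨e.inv.base w, by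
      rw [← hw, ← Scheme.Hom.comp_apply, IsPullback.isoPullback_inv_snd]⟩
  have hinj : Function.Injective ((G ◁ pr).left.appLE W ⊤ hle) := by
    have hiso : IsIso ((G ◁ pr).left.app W) := Scheme.Hom.isIso_app _ W hrange
    intro s t e
    refine (ConcreteCategory.bijective_of_isIso ((G ◁ pr).left.app W)).1 ?_
    have e2 : (G ◁ pr).left ⁻¹ᵁ W = ⊤ := top_le_iff.1 hle
    refine (ConcreteCategory.bijective_of_isIso ((G ⊗ X₀).left.presheaf.map (eqToHom e2.symm).op)).1 ?_
    exact e
  have hiff : ∀ f : Γ(X.left, V), GIT.IsInvariant a' (mk X₀ (eV f)) ↔ GIT.IsInvSection a φ U f := by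
    intro f
    have hl : ∀ (k : G ⊗ X ⟶ X) (k' : G ⊗ X₀ ⟶ X₀) (hk : k' ≫ pr = (G ◁ pr) ≫ k) (e : W ≤ k.left ⁻¹ᵁ V),
        (G ◁ pr).left.appLE W ⊤ hle (k.left.appLE V W e f) = k'.left.appTop (eV f) := by
      intro k k' hk e
      rw [← hW f, ← ConcreteCategory.comp_apply, ← ConcreteCategory.comp_apply, Scheme.Hom.appLE_comp_appLE,
        Scheme.Hom.appTop, Scheme.Hom.app_eq_appLE]
      erw [Scheme.Hom.appLE_comp_appLE]
      simp only [show k'.left ≫ pr.left = (G ◁ pr).left ≫ k.left from congrArg CommaMorphism.left hk]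
      rfl
    have h1 := hl a.act a'.act (pullbackAction_pr h.1.1 H) inf_le_left
    have h2 := hl (snd G X) (snd G X₀) (whiskerLeft_snd G pr).symm inf_le_right
    show a'.act ≫ mk X₀ (eV f) = snd G X₀ ≫ mk X₀ (eV f) ↔ _
    rw [mk_comp, mk_comp]
    constructor
    · intro e
      refine hinj ?_
      exact h1.trans ((mk_inj _ _ _ e).trans h2.symm)
    · intro e
      have e' := congrArg ((G ◁ pr).left.appLE W ⊤ hle) e
      exact congrArg _ (h1.symm.trans (e'.trans h2))
  refine ⟨fun s t e => ?_, Set.ext fun f => ⟨?_, fun hf => ?_⟩⟩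
  · have e1 : φ' ≫ mk Y₀ (eU s) = φ' ≫ mk Y₀ (eU t) := by rw [mk_comp, mk_comp, hsq, hsq, e]
    obtain ⟨χ, -, hu⟩ := hcat.2 Z (φ' ≫ mk Y₀ (eU t)) (by
      show a'.act ≫ φ' ≫ _ = snd G X₀ ≫ φ' ≫ _
      rw [← Category.assoc, show a'.act ≫ φ' = snd G X₀ ≫ φ' from pullbackAction_inv h.1.1 H, Category.assoc])
    exact (ConcreteCategory.bijective_of_isIso U.topIso.inv).1
      (mk_inj _ _ _ ((hu _ e1).trans (hu _ rfl).symm))
  · rintro ⟨s, rfl⟩
    show GIT.IsInvSection a φ U _
    rw [← hiff, ← hsq, ← mk_comp]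
    show a'.act ≫ φ' ≫ _ = snd G X₀ ≫ φ' ≫ _
    rw [← Category.assoc, show a'.act ≫ φ' = snd G X₀ ≫ φ' from pullbackAction_inv h.1.1 H, Category.assoc]
  · obtain ⟨χ, hχ, -⟩ := hcat.2 Z (mk X₀ (eV f)) ((hiff f).2 hf)
    refine ⟨U.topIso.hom (χ.left.appTop (AffineSpace.coord S PUnit.unit)), eV_inj ?_⟩
    rw [← hsq]
    refine mk_inj _ _ _ ?_
    rw [← mk_comp]
    have : eU (U.topIso.hom (χ.left.appTop (AffineSpace.coord S PUnit.unit))) =
        χ.left.appTop (AffineSpace.coord S PUnit.unit) :=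
      congrArg (fun m : Γ((U : Scheme.{u}), ⊤) ⟶ Γ((U : Scheme.{u}), ⊤) => m _) U.topIso.hom_inv_id
    rw [this, mk_surj, hχ]

end Groth.Agent.GITLib
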