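import Groth.Agent.GITLib.TorsorSchMore
import Groth.Agent.GITLib.Univ

/-!
# Reduction of the structure group
-/

set_option autoImplicit false

universe u

open CategoryTheory MonoidalCategory CartesianMonoidalCategory MonObj AlgebraicGeometry

namespace Groth.Agent.GITLib

variable {S : Scheme.{u}} {G F Q : Over S} [GrpObj G] {a : AlgGrp.Action G F} {π : F ⟶ Q}

/-- The fibre of a quotient over a section is a pseudo-torsor. -/
theorem isPseudoTorsor_fibre (hsq : IsPullback a.act (snd G F) π π) {E : Over S} {φ : E ⟶ F}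
    {σ : 𝟙_ (Over S) ⟶ Q} (H : IsPullback φ (toUnit E) π σ) :
    NonAbH1.IsPseudoTorsorSch (pullbackAction a hsq.w H) := by
  let b := pullbackAction a hsq.w H
  have hw : (fst E E ≫ φ) ≫ π = (snd E E ≫ φ) ≫ π := by
    rw [Category.assoc, Category.assoc, H.w, comp_toUnit_assoc, comp_toUnit_assoc]
  let l := hsq.lift (fst E E ≫ φ) (snd E E ≫ φ) hw
  have hb : b.act ≫ φ = (G ◁ φ) ≫ a.act := pullbackAction_pr hsq.w H
  refine ⟨lift (l ≫ fst G F) (snd E E), ?_, ?_⟩
  · refine CartesianMonoidalCategory.hom_ext _ _ ?_ (by simp)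
    rw [Category.assoc, lift_fst, Category.id_comp]
    have : lift b.act (snd G E) ≫ l = G ◁ φ := hsq.hom_ext
      (by rw [Category.assoc, hsq.lift_fst, lift_fst_assoc, hb])
      (by rw [Category.assoc, hsq.lift_snd, lift_snd_assoc, whiskerLeft_snd])
    rw [← Category.assoc, this, whiskerLeft_fst]
  · refine CartesianMonoidalCategory.hom_ext _ _ ?_ (by simp)
    rw [Category.assoc, lift_fst, Category.id_comp]
    refine H.hom_ext ?_ (toUnit_unique _ _)
    rw [Category.assoc, hb, lift_whiskerLeft_assoc]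
    have : lift (l ≫ fst G F) (snd E E ≫ φ) = l :=
      CartesianMonoidalCategory.hom_ext _ _ (by simp) (by simp [l])
    rw [this, hsq.lift_fst]

/-- It acquires sections where the quotient map does. -/
theorem isLocallyTrivial_fibre {K : Precoverage Scheme.{u}} [K.IsStableUnderBaseChange]
    (hloc : NonAbH1.IsLocallyTrivialFor K (Over.mk π.left : Over Q.left)) {E : Over S} {φ : E ⟶ F}
    {σ : 𝟙_ (Over S) ⟶ Q} (H : IsPullback φ (toUnit E) π σ) : NonAbH1.IsLocallyTrivialFor K E := by
  obtain ⟨R, hR, hs⟩ := hloc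
  refine ⟨R.pullbackArrows σ.left, Precoverage.pullbackArrows_mem σ.left hR, ?_⟩
  rintro T g ⟨Z, u, hu⟩
  obtain ⟨s, hs'⟩ := hs u hu
  let T₀ : Over S := Over.mk (Limits.pullback.snd u σ.left)
  let x : T₀ ⟶ F := Over.homMk (Limits.pullback.fst u σ.left ≫ s) (by
    show (Limits.pullback.fst u σ.left ≫ s) ≫ F.hom = Limits.pullback.snd u σ.left
    rw [← Over.w π, Category.assoc, reassoc_of% (show s ≫ π.left = u from hs'), Limits.pullback.condition_assoc,
      Over.w σ]
    simp)
  have hx : x ≫ π = toUnit T₀ ≫ σ := by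
    refine Over.OverMorphism.ext ?_
    show (Limits.pullback.fst u σ.left ≫ s) ≫ π.left = (toUnit T₀).left ≫ σ.left
    rw [Category.assoc, show s ≫ π.left = u from hs', Limits.pullback.condition]
    congr 1
  exact ⟨(H.lift x (toUnit T₀) hx).left, Over.w _⟩

end Groth.Agent.GITLib
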