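import Groth.Agent.GITLib.RigidCore
import Mathlib.AlgebraicGeometry.Morphisms.Separated
import Mathlib.AlgebraicGeometry.Morphisms.UniversallyOpen
import Mathlib.AlgebraicGeometry.Morphisms.Proper
import Mathlib.AlgebraicGeometry.Sites.Fpqc
import Mathlib.AlgebraicGeometry.Fiber

/-!
# Rigidity for flat families with only constant functions on the fibres
-/

set_option autoImplicit false

universe u

open CategoryTheory CategoryTheory.Limits AlgebraicGeometry Topology Opposite TopologicalSpace

namespace Groth.Agent.GITLib.Rigid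

variable {S X Y : Scheme.{u}} (p : X ⟶ S) (q : Y ⟶ S) (f : X ⟶ Y)

/-- `f` sends the fibre of `p` over `s` to at most one point. -/
def Collapsed (s : S) : Prop := ∀ x x' : X, p.base x = s → p.base x' = s → f.base x = f.base x'

/-- The fibres of `p` have only constant functions. -/
def ConstFibres : Prop := ∀ s : S, Function.Bijective (pullback.snd p (S.fromSpecResidueField s)).appTop

/-- In a locally noetherian scheme an open subset stable under specialisation is closed. -/
theorem isClosed_of_isOpen_stableUnderSpecialization [IsLocallyNoetherian S] {C : Set S} (ho : IsOpen C)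
    (hs : StableUnderSpecialization C) : IsClosed C := by
  refine closure_subset_iff_isClosed.1 fun x hx => ?_
  obtain ⟨W, hW, hxW, -⟩ := exists_isAffineOpen_mem_and_subset (x := x) (U := (⊤ : S.Opens)) trivial
  obtain ⟨z, rfl⟩ : x ∈ Set.range hW.fromSpec := by rw [hW.range_fromSpec]; exact hxW
  have : IsNoetherianRing Γ(S, W) := IsLocallyNoetherian.component_noetherian ⟨W, hW⟩
  have hc : IsClosed (hW.fromSpec.base ⁻¹' C) := by
    refine PrimeSpectrum.isClosed_of_stableUnderSpecialization_of_isConstructible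
      (hs.preimage hW.fromSpec.base.hom.continuous) ?_
    refine IsRetrocompact.isConstructible (ho.preimage hW.fromSpec.base.hom.continuous) ?_
    intro K _ _
    exact TopologicalSpace.NoetherianSpace.isCompact (α := PrimeSpectrum Γ(S, W)) _
  have hz : z ∈ closure (hW.fromSpec.base ⁻¹' C) := by
    rw [← hW.fromSpec.isOpenEmbedding.isOpenMap.preimage_closure_eq_closure_preimage
      hW.fromSpec.base.hom.continuous]
    exact hx
  rwa [hc.closure_eq] at hz

variable [Flat p] [IsLocallyNoetherian X] [IsLocallyNoetherian S] [IsSeparated q]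

theorem agree_near (hf : f ≫ q = p) (h0 : ConstFibres p) (e : S ⟶ X) (he : e ≫ p = 𝟙 S) {s : S}
    (hs : Collapsed p f s) {x : X} (hx : p.base x = s) :
    ∃ U : X.Opens, x ∈ U ∧ U.ι ≫ f = U.ι ≫ p ≫ e ≫ f := by
  let g := p ≫ e ≫ f
  have heg : e ≫ g = e ≫ f := by simp [g, reassoc_of% he]
  obtain ⟨V, hV, hyV, -⟩ :=
    exists_isAffineOpen_mem_and_subset (x := f.base (e.base s)) (U := (⊤ : Y.Opens)) trivial
  let U₀ : X.Opens := f ⁻¹ᵁ V ⊓ g ⁻¹ᵁ V
  have hU₀ : ∀ z, p.base z = s → z ∈ U₀ := fun z hz => by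
    refine ⟨?_, ?_⟩
    · show f.base z ∈ V
      rw [hs z (e.base s) hz (base_section e he s)]
      exact hyV
    · show f.base (e.base (p.base z)) ∈ V
      rw [hz]
      exact hyV
  let δ : Γ(Y, V) → Γ(X, U₀) := fun r => f.appLE V U₀ inf_le_left r - g.appLE V U₀ inf_le_right r
  have hδ : ∀ r h, e.stalkMap s (X.presheaf.germ U₀ (e.base s) h (δ r)) = 0 := by
    intro r h
    rw [Scheme.Hom.germ_stalkMap_apply]
    simp only [δ, map_sub, Scheme.Hom.app_eq_appLE]
    rw [sub_eq_zero]
    refine congrArg _ ?_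
    rw [← ConcreteCategory.comp_apply, ← ConcreteCategory.comp_apply,
      Scheme.Hom.appLE_comp_appLE, Scheme.Hom.appLE_comp_appLE]
    simp only [heg]
  have hzero : ∀ r, X.presheaf.germ U₀ x (hU₀ x hx) (δ r) = 0 := fun r =>
    germ_eq_zero (h0 s).2 e he hU₀ (δ r) (hδ r) x hx
  obtain ⟨W, hW, hxW, hWU⟩ := exists_isAffineOpen_mem_and_subset (x := x) (U := U₀) (hU₀ x hx)
  have : IsNoetherianRing Γ(X, W) := IsLocallyNoetherian.component_noetherian ⟨W, hW⟩
  let J : Ideal Γ(X, W) := Ideal.span (Set.range fun r => X.presheaf.map (homOfLE hWU).op (δ r))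
  have hJ : ∀ a ∈ J, X.presheaf.germ W x hxW a = 0 := by
    intro a ha
    induction ha using Submodule.span_induction with
    | mem a ha =>
      obtain ⟨r, rfl⟩ := ha
      rw [TopCat.Presheaf.germ_res_apply']
      exact hzero r
    | zero => simp
    | add a b _ _ ha hb => rw [map_add, ha, hb, add_zero]
    | smul c a _ ha => rw [smul_eq_mul, map_mul, ha, mul_zero]
  obtain ⟨G, hG⟩ := IsNoetherian.noetherian J
  have hfin : ∀ T : Finset Γ(X, W), (∀ a ∈ T, X.presheaf.germ W x hxW a = 0) →
      ∃ (U : X.Opens) (hUW : U ≤ W), x ∈ U ∧ ∀ a ∈ T, X.presheaf.map (homOfLE hUW).op a = 0 := by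
    classical
    intro T
    induction T using Finset.induction with
    | empty => intro _; exact ⟨W, le_rfl, hxW, by simp⟩
    | insert a T _ ih =>
      intro h
      obtain ⟨U, hUW, hxU, hU⟩ := ih fun b hb => h b (Finset.mem_insert_of_mem hb)
      obtain ⟨U', hxU', i, j, hij⟩ := X.presheaf.germ_eq x hxW hxW a 0
        (by rw [h a (Finset.mem_insert_self _ _), map_zero])
      refine ⟨U ⊓ U', inf_le_left.trans hUW, ⟨hxU, hxU'⟩, fun b hb => ?_⟩
      rcases Finset.mem_insert.1 hb with rfl | hb
      · rw [Subsingleton.elim (homOfLE (inf_le_left.trans hUW)) (homOfLE (inf_le_right : U ⊓ U' ≤ U') ≫ i),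
          op_comp, Functor.map_comp, ConcreteCategory.comp_apply, hij, map_zero, map_zero]
      · rw [Subsingleton.elim (homOfLE (inf_le_left.trans hUW)) (homOfLE (inf_le_left : U ⊓ U' ≤ U) ≫ homOfLE hUW),
          op_comp, Functor.map_comp, ConcreteCategory.comp_apply, hU b hb, map_zero]
  obtain ⟨U, hUW, hxU, hU⟩ := hfin G fun a ha => hJ a (hG ▸ Submodule.subset_span ha)
  have hker : ∀ a ∈ J, X.presheaf.map (homOfLE hUW).op a = 0 := by
    intro a ha
    rw [← hG] at ha
    induction ha using Submodule.span_induction with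
    | mem a ha => exact hU a ha
    | zero => simp
    | add a b _ _ ha hb => rw [map_add, ha, hb, add_zero]
    | smul c a _ ha => rw [smul_eq_mul, map_mul, ha, mul_zero]
  refine ⟨U, hxU, ?_⟩
  have hUf : U ≤ f ⁻¹ᵁ V := hUW.trans (hWU.trans inf_le_left)
  have hUg : U ≤ g ⁻¹ᵁ V := hUW.trans (hWU.trans inf_le_right)
  have hsec : f.appLE V U hUf = g.appLE V U hUg := by
    ext r
    have hr := hker _ (Ideal.subset_span ⟨r, rfl⟩)
    simp only [δ, map_sub, sub_eq_zero, ← ConcreteCategory.comp_apply, Category.assoc,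
      Scheme.Hom.appLE_map] at hr
    exact hr
  have hlift : ∀ (k : X ⟶ Y) (hk : U ≤ k ⁻¹ᵁ V),
      U.ι ≫ k = k.resLE V U hk ≫ V.ι := fun k hk => (Scheme.Hom.resLE_comp_ι k hk).symm
  show U.ι ≫ f = U.ι ≫ g
  rw [hlift f hUf, hlift g hUg]
  congr 1
  have : IsAffine V := hV
  refine ext_of_isAffine ?_
  simp only [Scheme.Hom.appTop, Scheme.Hom.resLE_app_top, hsec]

/-- Rigidity in the presence of a section. -/
theorem isClopen_collapsed (hf : f ≫ q = p) (h0 : ConstFibres p) (hc : IsClosedMap p.base) (e : S ⟶ X)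
    (he : e ≫ p = 𝟙 S) :
    IsClopen {s | Collapsed p f s} ∧ ((∀ s, Collapsed p f s) → f = p ≫ e ≫ f) := by
  let g := p ≫ e ≫ f
  let Wset : Set X := {x | ∃ U : X.Opens, x ∈ U ∧ U.ι ≫ f = U.ι ≫ g}
  have hWo : IsOpen Wset := isOpen_iff_forall_mem_open.2 fun x ⟨U, hxU, hU⟩ =>
    ⟨U, fun z hz => ⟨U, hz, hU⟩, U.isOpen, hxU⟩
  have hgq : g ≫ q = p := by simp only [g, Category.assoc, hf, he, Category.comp_id]
  let d : X ⟶ pullback q q := pullback.lift f g (hf.trans hgq.symm)
  let E : Set X := Set.range (pullback.fst d (pullback.diagonal q)).base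
  have hEc : IsClosed E :=
    (pullback.fst d (pullback.diagonal q)).isClosedEmbedding.isClosed_range
  have hWE : Wset ⊆ E := by
    rintro x ⟨U, hxU, hU⟩
    have h : U.ι ≫ d = (U.ι ≫ f) ≫ pullback.diagonal q := by
      refine pullback.hom_ext ?_ ?_
      · rw [Category.assoc, Category.assoc, pullback.diagonal_fst, Category.comp_id]
        exact congrArg (U.ι ≫ ·) (pullback.lift_fst _ _ _)
      · rw [Category.assoc, Category.assoc, pullback.diagonal_snd, Category.comp_id]
        exact (congrArg (U.ι ≫ ·) (pullback.lift_snd _ _ _)).trans hU.symm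
    exact ⟨(pullback.lift U.ι (U.ι ≫ f) h).base ⟨x, hxU⟩, by
      rw [← Scheme.Hom.comp_apply, pullback.lift_fst]; rfl⟩
  have hEeq : ∀ x ∈ E, f.base x = g.base x := by
    rintro _ ⟨w, rfl⟩
    have h := pullback.condition (f := d) (g := pullback.diagonal q)
    have h1 := congrArg (· ≫ pullback.fst q q) h
    have h2 := congrArg (· ≫ pullback.snd q q) h
    simp only [Category.assoc, d, pullback.lift_fst, pullback.lift_snd, pullback.diagonal_fst,
      pullback.diagonal_snd, Category.comp_id] at h1 h2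
    rw [← Scheme.Hom.comp_apply, ← Scheme.Hom.comp_apply, h1, h2]
  have hiff : ∀ s, Collapsed p f s ↔ ∀ x, p.base x = s → x ∈ Wset := by
    intro s
    refine ⟨fun h x hx => agree_near p q f hf h0 e he h hx, fun h x x' hx hx' => ?_⟩
    rw [hEeq x (hWE (h x hx)), hEeq x' (hWE (h x' hx'))]
    show f.base (e.base (p.base x)) = f.base (e.base (p.base x'))
    rw [hx, hx']
  have hCo : IsOpen {s | Collapsed p f s} := by
    have : {s | Collapsed p f s} = (p.base '' Wsetᶜ)ᶜ := by
      ext s
      simp only [Set.mem_setOf_eq, hiff, Set.mem_compl_iff, Set.mem_image, not_exists, not_and]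
      exact ⟨fun h x hxW hx => hxW (h x hx), fun h x hx => not_not.1 fun hxW => h x hxW hx⟩
    rw [this]
    exact (hc _ hWo.isClosed_compl).isOpen_compl
  refine ⟨⟨isClosed_of_isOpen_stableUnderSpecialization hCo ?_, hCo⟩, fun hall => ?_⟩
  · intro ξ s hξs hξ x x' hx hx'
    have hgen : ∀ z, p.base z = s → f.base z = g.base z := fun z hz => by
      obtain ⟨z', hz', hpz'⟩ := Flat.generalizingMap p (show ξ ⤳ p.base z by rw [hz]; exact hξs)
      exact hEeq z (hz'.mem_closed hEc (hWE ((hiff ξ).1 hξ z' hpz')))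
    rw [hgen x hx, hgen x' hx']
    show f.base (e.base (p.base x)) = f.base (e.base (p.base x'))
    rw [hx, hx']
  · exact Scheme.hom_ext_of_forall _ _ fun x => (hiff _).1 (hall _) x rfl

omit [Flat p] [IsLocallyNoetherian X] [IsLocallyNoetherian S] in
/-- A morphism with only constant functions on the fibres is surjective. -/
theorem surjective_of_constFibres (h0 : ConstFibres p) : Surjective p := by
  refine ⟨fun s => ?_⟩
  by_contra h
  have : IsEmpty (pullback p (S.fromSpecResidueField s) : Scheme.{u}) := ⟨fun z => h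
    ⟨(pullback.fst p (S.fromSpecResidueField s)).base z, by
      rw [← Scheme.Hom.comp_apply, pullback.condition, Scheme.Hom.comp_apply]
      exact Scheme.fromSpecResidueField_apply _ _⟩⟩
  have hsub : Subsingleton Γ(pullback p (S.fromSpecResidueField s), ⊤) := inferInstance
  have := (h0 s).1.subsingleton
  exact not_subsingleton Γ(Spec (S.residueField s), ⊤) this

end Groth.Agent.GITLib.Rigid
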