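import Groth.Agent.S9501
import Groth.Agent.FamCycArt.Basic
import Mathlib.AlgebraicGeometry.Noetherian
import Mathlib.RingTheory.Filtration
import Mathlib.AlgebraicGeometry.Morphisms.Flat

/-!
# Rigidity: functions near a fibre with only constant functions
-/

set_option autoImplicit false

universe u

open CategoryTheory CategoryTheory.Limits AlgebraicGeometry Topology Opposite TopologicalSpace

namespace Groth.Agent.GITLib.Rigid

variable {X S : Scheme.{u}} (p : X ⟶ S) {s : S}

/-- The map `O_{S,s} → O_{X,x}` for a point `x` above `s`. -/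
noncomputable def phi (x : X) (hx : p.base x = s) : S.presheaf.stalk s ⟶ X.presheaf.stalk x :=
  S.presheaf.stalkSpecializes (specializes_of_eq hx) ≫ p.stalkMap x

theorem phi_rfl (x : X) : phi p x rfl = p.stalkMap x := by
  simp [phi]

theorem phi_germ {x : X} (hx : p.base x = s) (A : S.Opens) (hA : s ∈ A) (a : Γ(S, A)) :
    phi p x hx (S.presheaf.germ A s hA a) =
      X.presheaf.germ (p ⁻¹ᵁ A) x (show p.base x ∈ A by rw [hx]; exact hA) (p.app A a) := by
  subst hx
  rw [phi_rfl]
  exact Scheme.Hom.germ_stalkMap_apply p A x hA a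

theorem flat_phi [Flat p] {x : X} (hx : p.base x = s) : (phi p x hx).hom.Flat := by
  subst hx
  rw [phi_rfl]
  exact Flat.stalkMap p x

theorem fiberι_mem (y : ↥(p.fiber s)) : p.base ((p.fiberι s).base y) = s := by
  have := Set.mem_range_self (f := p.fiberι s) y
  rwa [Scheme.Hom.range_fiberι] at this

theorem map_maximalIdeal_phi {x : X} (hx : p.base x = s) :
    (IsLocalRing.maximalIdeal (S.presheaf.stalk s)).map (phi p x hx).hom =
      (IsLocalRing.maximalIdeal (S.presheaf.stalk (p.base x))).map (p.stalkMap x).hom := by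
  subst hx
  rw [phi_rfl]

theorem mem_map_max_iff (y : ↥(p.fiber s)) (u : X.presheaf.stalk ((p.fiberι s).base y)) :
    (p.fiberι s).stalkMap y u = 0 ↔
      u ∈ (IsLocalRing.maximalIdeal (S.presheaf.stalk s)).map (phi p _ (fiberι_mem p y)).hom := by
  rw [map_maximalIdeal_phi, ← (Groth.Agent.S9501.result p s y).2]
  exact Iff.rfl

variable (s) in
/-- A germ in the extension of an ideal of `O_{S,s}` stays in it along the fibre, near the point. -/
theorem mem_map_spread (K : Ideal (S.presheaf.stalk s)) {x : X} (hx : p.base x = s)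
    {u : X.presheaf.stalk x} (hu : u ∈ K.map (phi p x hx).hom) :
    ∃ (U : X.Opens) (hxU : x ∈ U) (v : Γ(X, U)), X.presheaf.germ U x hxU v = u ∧
      ∀ (x' : X) (hx' : p.base x' = s) (h' : x' ∈ U), X.presheaf.germ U x' h' v ∈ K.map (phi p x' hx').hom := by
  induction hu using Submodule.span_induction with
  | mem u hu =>
    obtain ⟨κ, hκ, rfl⟩ := hu
    obtain ⟨A, hA, a, rfl⟩ := S.presheaf.exists_germ_eq κ
    refine ⟨p ⁻¹ᵁ A, show p.base x ∈ A by rw [hx]; exact hA, p.app A a, (phi_germ p hx A hA a).symm,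
      fun x' hx' h' => ?_⟩
    rw [show X.presheaf.germ (p ⁻¹ᵁ A) x' h' (p.app A a) = _ from (phi_germ p hx' A hA a).symm]
    exact Ideal.mem_map_of_mem _ hκ
  | zero => exact ⟨⊤, trivial, 0, by simp, fun x' hx' h' => by simp⟩
  | add a b _ _ ha hb =>
    obtain ⟨U, hU, v, hv, hv'⟩ := ha
    obtain ⟨U', hU', v', hw, hw'⟩ := hb
    refine ⟨U ⊓ U', ⟨hU, hU'⟩,
      X.presheaf.map (homOfLE inf_le_left).op v + X.presheaf.map (homOfLE inf_le_right).op v', ?_, fun x' hx' h' => ?_⟩
    · rw [map_add, TopCat.Presheaf.germ_res_apply', TopCat.Presheaf.germ_res_apply', hv, hw]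
    · rw [map_add, TopCat.Presheaf.germ_res_apply', TopCat.Presheaf.germ_res_apply']
      exact add_mem (hv' x' hx' h'.1) (hw' x' hx' h'.2)
  | smul c a _ ha =>
    obtain ⟨U, hU, v, hv, hv'⟩ := ha
    obtain ⟨U', hU', w, rfl⟩ := X.presheaf.exists_germ_eq c
    refine ⟨U' ⊓ U, ⟨hU', hU⟩,
      X.presheaf.map (homOfLE inf_le_left).op w * X.presheaf.map (homOfLE inf_le_right).op v, ?_, fun x' hx' h' => ?_⟩
    · rw [map_mul, TopCat.Presheaf.germ_res_apply', TopCat.Presheaf.germ_res_apply', hv]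
      rfl
    · rw [map_mul, TopCat.Presheaf.germ_res_apply', TopCat.Presheaf.germ_res_apply']
      exact Ideal.mul_mem_left _ _ (hv' x' hx' h'.2)

/-- Every global function on the spectrum of the residue field comes from a neighbourhood. -/
theorem exists_section_of_residueField (c : Γ(Spec (S.residueField s), ⊤)) :
    ∃ (A : S.Opens) (hA : s ∈ A) (a : Γ(S, A)) (hle : ⊤ ≤ (S.fromSpecResidueField s) ⁻¹ᵁ A),
      (S.fromSpecResidueField s).appLE A ⊤ hle a = c := by
  let z : Spec (S.residueField s) := IsLocalRing.closedPoint (S.residueField s)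
  have hzs : (S.fromSpecResidueField s).base z = s := Scheme.fromSpecResidueField_apply _ _
  obtain ⟨γ, hγ⟩ := (S.fromSpecResidueField s).stalkMap_surjective z
    ((Spec (S.residueField s)).presheaf.germ ⊤ z trivial c)
  obtain ⟨A, hA, a, rfl⟩ := S.presheaf.exists_germ_eq γ
  have hone : ∀ w : Spec (S.residueField s), w = z :=
    fun w => Subsingleton.elim (α := PrimeSpectrum (S.residueField s)) w z
  have hle : ⊤ ≤ (S.fromSpecResidueField s) ⁻¹ᵁ A := fun w _ => by
    rw [hone w]
    exact hA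
  refine ⟨A, hzs ▸ hA, a, hle, TopCat.Presheaf.section_ext (Spec (S.residueField s)).sheaf ⊤ _ _ fun w hw => ?_⟩
  obtain rfl := hone w
  refine Eq.trans ?_ hγ
  rw [Scheme.Hom.germ_stalkMap_apply]
  exact TopCat.Presheaf.germ_res_apply' _ _ _ _ _

variable {p}
variable [Flat p] [IsLocallyNoetherian S] (hΓ : Function.Surjective (pullback.snd p (S.fromSpecResidueField s)).appTop)
variable (e : S ⟶ X) (he : e ≫ p = 𝟙 S) {U₀ : X.Opens} (hU₀ : ∀ x, p.base x = s → x ∈ U₀)
  (δ : Γ(X, U₀)) (hδ : ∀ h : e.base s ∈ U₀, e.stalkMap s (X.presheaf.germ U₀ (e.base s) h δ) = 0)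

theorem base_section (he : e ≫ p = 𝟙 S) (s : S) : p.base (e.base s) = s := by
  rw [← Scheme.Hom.comp_apply, he]
  rfl

theorem phi_stalkMap (he : e ≫ p = 𝟙 S) (a : S.presheaf.stalk s) :
    e.stalkMap s (phi p (e.base s) (base_section e he s) a) = a := by
  obtain ⟨A, hA, a, rfl⟩ := S.presheaf.exists_germ_eq a
  rw [phi_germ, Scheme.Hom.germ_stalkMap_apply]
  have h := congrArg (fun m => m a) (Scheme.Hom.congr_app he A)
  simp only [Scheme.Hom.id_app, Category.id_comp, Scheme.Hom.comp_app, ConcreteCategory.comp_apply] at h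
  erw [h]
  exact TopCat.Presheaf.germ_res_apply' _ _ _ _ _

include hΓ he hU₀ hδ in
/-- One step: from `δ ∈ (K + (g))` along the fibre to `δ ∈ K` along the fibre. -/
theorem step (K : Ideal (S.presheaf.stalk s)) (g : S.presheaf.stalk s)
    (hg : ∀ a ∈ IsLocalRing.maximalIdeal (S.presheaf.stalk s), a * g ∈ K)
    (H : ∀ (x : X) (hx : p.base x = s),
      X.presheaf.germ U₀ x (hU₀ x hx) δ ∈ (K ⊔ Ideal.span {g}).map (phi p x hx).hom) :
    ∀ (x : X) (hx : p.base x = s), X.presheaf.germ U₀ x (hU₀ x hx) δ ∈ K.map (phi p x hx).hom := by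
  by_cases hgK : g ∈ K
  · rwa [sup_eq_left.2 (Ideal.span_le.2 (Set.singleton_subset_iff.2 hgK))] at H
  -- cancellation of `g`
  have cancel : ∀ (x : X) (hx : p.base x = s) (c : X.presheaf.stalk x),
      phi p x hx g * c ∈ K.map (phi p x hx).hom →
        c ∈ (IsLocalRing.maximalIdeal (S.presheaf.stalk s)).map (phi p x hx).hom := by
    intro x hx c hc
    let := (phi p x hx).hom.toAlgebra
    have : Module.Flat (S.presheaf.stalk s) (X.presheaf.stalk x) := flat_phi p hx
    exact Groth.Agent.FamCycArt.mem_map_maximalIdeal_of_mul_mem hgK hg hc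
  obtain ⟨A₀, hA₀, ĝ, rfl⟩ := S.presheaf.exists_germ_eq g
  -- local decompositions
  have key : ∀ y : ↥(p.fiber s), ∃ (U : X.Opens) (_ : (p.fiberι s).base y ∈ U) (b : Γ(X, U)),
      ∀ (x' : X) (hx' : p.base x' = s) (h' : x' ∈ U),
        X.presheaf.germ U₀ x' (hU₀ x' hx') δ -
          phi p x' hx' (S.presheaf.germ A₀ s hA₀ ĝ) * X.presheaf.germ U x' h' b ∈ K.map (phi p x' hx').hom := by
    intro y
    have hy := fiberι_mem p y
    have hd := H _ hy
    rw [Ideal.map_sup, Ideal.map_span, Set.image_singleton, Submodule.mem_sup] at hd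
    obtain ⟨κ, hκ, _, hw, hsum⟩ := hd
    obtain ⟨c, rfl⟩ := Ideal.mem_span_singleton'.1 hw
    obtain ⟨U₁, hU₁, v, rfl, hv⟩ := mem_map_spread p s K hy hκ
    obtain ⟨U₂, hU₂, b, rfl⟩ := X.presheaf.exists_germ_eq c
    let W₀ : X.Opens := (U₁ ⊓ U₂) ⊓ (U₀ ⊓ p ⁻¹ᵁ A₀)
    have hW₀ : (p.fiberι s).base y ∈ W₀ :=
      ⟨⟨hU₁, hU₂⟩, hU₀ _ hy, show p.base _ ∈ A₀ by rw [hy]; exact hA₀⟩
    let lhs := X.presheaf.map (homOfLE (show W₀ ≤ U₀ from fun z hz => hz.2.1)).op δ
    let rhs := X.presheaf.map (homOfLE (show W₀ ≤ U₁ from fun z hz => hz.1.1)).op v +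
      X.presheaf.map (homOfLE (show W₀ ≤ U₂ from fun z hz => hz.1.2)).op b *
        X.presheaf.map (homOfLE (show W₀ ≤ p ⁻¹ᵁ A₀ from fun z hz => hz.2.2)).op (p.app A₀ ĝ)
    have heq : X.presheaf.germ W₀ _ hW₀ lhs = X.presheaf.germ W₀ _ hW₀ rhs := by
      simp only [lhs, rhs, map_add, map_mul, TopCat.Presheaf.germ_res_apply']
      rw [← hsum, phi_germ p hy A₀ hA₀ ĝ]
    obtain ⟨V, hV, i, j, hij⟩ := X.presheaf.germ_eq _ hW₀ hW₀ _ _ heq
    refine ⟨V, hV, X.presheaf.map (i ≫ homOfLE (show W₀ ≤ U₂ from fun z hz => hz.1.2)).op b, fun x' hx' h' => ?_⟩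
    have h0 : x' ∈ W₀ := i.le h'
    have := congrArg (X.presheaf.germ V x' h') hij
    simp only [lhs, rhs, map_add, map_mul, TopCat.Presheaf.germ_res_apply'] at this
    rw [TopCat.Presheaf.germ_res_apply', this, phi_germ p hx' A₀ hA₀ ĝ]
    simpa [mul_comm] using hv x' hx' h0.1.1
  choose U hU b hb using key
  -- glue on the fibre
  let F := p.fiber s
  let V : ↥F → F.Opens := fun y => p.fiberι s ⁻¹ᵁ U y
  let sf : ∀ y, Γ(F, V y) := fun y => (p.fiberι s).app (U y) (b y)
  have hcompat : TopCat.Presheaf.IsCompatible F.sheaf.1 V sf := by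
    intro y₁ y₂
    refine TopCat.Presheaf.section_ext F.sheaf _ _ _ fun y' hy' => ?_
    erw [TopCat.Presheaf.germ_res_apply', TopCat.Presheaf.germ_res_apply']
    erw [← Scheme.Hom.germ_stalkMap_apply (p.fiberι s) (U y₁) y' hy'.1,
      ← Scheme.Hom.germ_stalkMap_apply (p.fiberι s) (U y₂) y' hy'.2]
    refine sub_eq_zero.1 ((map_sub _ _ _).symm.trans ((mem_map_max_iff p y' _).2 (cancel _ _ _ ?_)))
    have h1 := hb y₁ _ (fiberι_mem p y') hy'.1
    have h2 := hb y₂ _ (fiberι_mem p y') hy'.2
    have h3 := sub_mem h2 h1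
    convert h3 using 1
    ring
  obtain ⟨σ, hσ, -⟩ := TopCat.Sheaf.existsUnique_gluing' F.sheaf V ⊤ (fun y => homOfLE le_top)
    (fun y _ => Opens.mem_iSup.2 ⟨y, hU y⟩) sf hcompat
  obtain ⟨c, hc⟩ := hΓ σ
  obtain ⟨A, hA, a, hle, rfl⟩ := exists_section_of_residueField c
  let γ := S.presheaf.germ A s hA a
  -- the coefficient is the constant `γ`
  have hall : ∀ (x : X) (hx : p.base x = s),
      X.presheaf.germ U₀ x (hU₀ x hx) δ - phi p x hx (S.presheaf.germ A₀ s hA₀ ĝ * γ) ∈ K.map (phi p x hx).hom := by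
    intro x hx
    obtain ⟨y, rfl⟩ : x ∈ Set.range (p.fiberι s) := by rw [Scheme.Hom.range_fiberι]; exact hx
    have hyA : p.base ((p.fiberι s).base y) ∈ A := by rw [hx]; exact hA
    have h1 : (p.fiberι s).stalkMap y (X.presheaf.germ (U y) _ (hU y) (b y)) =
        (p.fiberι s).stalkMap y (phi p _ hx γ) := by
      rw [phi_germ, Scheme.Hom.germ_stalkMap_apply, Scheme.Hom.germ_stalkMap_apply]
      refine (show F.presheaf.germ (V y) y (hU y) (sf y) = F.presheaf.germ ⊤ y trivial σ by
        rw [← hσ y]; exact TopCat.Presheaf.germ_res_apply' _ _ _ _ _).trans ?_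
      rw [← hc, show (pullback.snd p (S.fromSpecResidueField s)).appTop
          ((S.fromSpecResidueField s).appLE A ⊤ hle a) =
        (pullback.snd p (S.fromSpecResidueField s) ≫ S.fromSpecResidueField s).appLE A ⊤
          (fun z _ => hle (show _ ∈ (⊤ : (Spec (S.residueField s)).Opens) from trivial)) a by
        rw [← ConcreteCategory.comp_apply, Scheme.Hom.appTop, Scheme.Hom.app_eq_appLE]
        erw [Scheme.Hom.appLE_comp_appLE]
        rfl]
      simp only [← pullback.condition]
      rw [← ConcreteCategory.comp_apply ((p.app A)), ← Scheme.Hom.comp_app]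
      exact TopCat.Presheaf.germ_res_apply' _ _ _ _ _
    rw [← sub_eq_zero, ← map_sub, mem_map_max_iff] at h1
    have h2 : phi p _ hx (S.presheaf.germ A₀ s hA₀ ĝ) *
        (X.presheaf.germ (U y) _ (hU y) (b y) - phi p _ hx γ) ∈ K.map (phi p _ hx).hom := by
      refine (Ideal.map_mono ?_) (show _ ∈ (Ideal.span {S.presheaf.germ A₀ s hA₀ ĝ} *
        IsLocalRing.maximalIdeal (S.presheaf.stalk s)).map (phi p _ hx).hom from ?_)
      · rw [Ideal.span_singleton_mul_le_iff]
        intro m hm
        rw [mul_comm]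
        exact hg m hm
      · rw [Ideal.map_mul]
        exact Ideal.mul_mem_mul (Ideal.mem_map_of_mem _ (Ideal.mem_span_singleton_self _)) h1
    have h3 := add_mem (hb y _ hx (hU y)) h2
    convert h3 using 1
    rw [map_mul]
    ring
  have hgγ : S.presheaf.germ A₀ s hA₀ ĝ * γ ∈ K := by
    have h := Ideal.mem_map_of_mem (e.stalkMap s).hom (hall (e.base s) (base_section e he s))
    rw [Ideal.map_map] at h
    have hid : (e.stalkMap s).hom.comp (phi p (e.base s) (base_section e he s)).hom = RingHom.id _ :=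
      RingHom.ext fun a => phi_stalkMap e he a
    rw [hid, Ideal.map_id, map_sub] at h
    erw [hδ, phi_stalkMap e he] at h
    simpa using h
  intro x hx
  have := add_mem (hall x hx) (Ideal.mem_map_of_mem (phi p x hx).hom hgγ)
  simpa using this

include hΓ he hU₀ hδ in
/-- A function near the fibre over `s` that vanishes on the section vanishes near the fibre. -/
theorem germ_eq_zero [IsLocallyNoetherian X] (x : X) (hx : p.base x = s) :
    X.presheaf.germ U₀ x (hU₀ x hx) δ = 0 := by
  classical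
  let m := IsLocalRing.maximalIdeal (S.presheaf.stalk s)
  have main : ∀ n : ℕ, ∀ (x : X) (hx : p.base x = s),
      X.presheaf.germ U₀ x (hU₀ x hx) δ ∈ (m ^ n).map (phi p x hx).hom := by
    intro n
    induction n with
    | zero => intro x hx; rw [pow_zero, Ideal.one_eq_top, Ideal.map_top]; exact Submodule.mem_top
    | succ n ih =>
      obtain ⟨G, hG⟩ := (inferInstance : IsNoetherianRing (S.presheaf.stalk s)).noetherian (m ^ n)
      have : ∀ T : Finset (S.presheaf.stalk s), T ⊆ G →
          (∀ (x : X) (hx : p.base x = s),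
            X.presheaf.germ U₀ x (hU₀ x hx) δ ∈ (m ^ (n + 1) ⊔ Ideal.span (T : Set (S.presheaf.stalk s))).map (phi p x hx).hom) →
          ∀ (x : X) (hx : p.base x = s), X.presheaf.germ U₀ x (hU₀ x hx) δ ∈ (m ^ (n + 1)).map (phi p x hx).hom := by
        intro T
        induction T using Finset.induction with
        | empty => intro _ h; simpa using h
        | insert g T hgT ihT =>
          intro hsub h
          refine ihT ((Finset.subset_insert g T).trans hsub) ?_
          refine step hΓ e he hU₀ δ hδ _ g (fun a ha => Ideal.mem_sup_left ?_) ?_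
          · rw [pow_succ']
            exact Ideal.mul_mem_mul ha (by
              rw [← hG]; exact Submodule.subset_span (hsub (Finset.mem_insert_self g T)))
          · intro x hx
            rw [sup_assoc, ← Ideal.span_union, Set.union_singleton, ← Finset.coe_insert]
            exact h x hx
      refine this G subset_rfl fun x hx => ?_
      rw [sup_eq_right.2 (show m ^ (n + 1) ≤ Ideal.span (G : Set (S.presheaf.stalk s)) from
        (Ideal.pow_le_pow_right n.le_succ).trans hG.ge), show Ideal.span (G : Set (S.presheaf.stalk s)) = m ^ n from hG]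
      exact ih x hx
  have hle : ∀ n, X.presheaf.germ U₀ x (hU₀ x hx) δ ∈ IsLocalRing.maximalIdeal (X.presheaf.stalk x) ^ n := by
    intro n
    refine Ideal.pow_right_mono ?_ n ((Ideal.map_pow (phi p x hx).hom m n) ▸ main n x hx)
    subst hx
    rw [phi_rfl]
    have htf := (IsLocalRing.local_hom_TFAE (p.stalkMap x).hom).out 0 2
    exact htf.1 inferInstance
  have : X.presheaf.germ U₀ x (hU₀ x hx) δ ∈ (⊥ : Ideal (X.presheaf.stalk x)) := by
    rw [← Ideal.iInf_pow_eq_bot_of_isLocalRing (IsLocalRing.maximalIdeal (X.presheaf.stalk x))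
      (IsLocalRing.maximalIdeal.isMaximal _).ne_top]
    exact Ideal.mem_iInf.2 hle
  simpa using this

end Groth.Agent.GITLib.Rigid
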