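import Groth.Agent.GITLib.TrivFibres
import Groth.Agent.GrpScheme.Cartier
import Groth.Agent.GrpScheme.SubgroupObj
import Groth.Agent.S7494
import Groth.Prelude.Def_ActBC
import Groth.Prelude.Def_W4bk4git07Quot
import Mathlib.AlgebraicGeometry.Morphisms.UniversallyInjective
import Mathlib.AlgebraicGeometry.Morphisms.FormallyUnramified
import Groth.Agent.GrpScheme.HomFlat
import Groth.Agent.GrpdLib.GrpOver

/-!
# Set-theoretically free actions in characteristic zero, and of étale groups
-/

set_option autoImplicit false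

universe u

open CategoryTheory Limits MonoidalCategory CartesianMonoidalCategory MonObj GrpObj AlgebraicGeometry

namespace Groth.Agent.GITLib

variable {S : Scheme.{u}} {G X : Over S} [GrpObj G] (a : AlgGrp.Action G X)

/-- The structure map of the stabiliser scheme. -/
noncomputable abbrev stabHom : pullback (GIT.psi a (𝟙 X)).left (lift (𝟙 X) (𝟙 X)).left ⟶ X.left :=
  pullback.snd _ _

theorem psi_eq : GIT.psi a (𝟙 X) = lift a.act (snd G X) := by
  rw [GIT.psi, MonoidalCategory.whiskerLeft_id, Category.id_comp]

theorem stabHom_eq : stabHom a =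
    pullback.fst (GIT.psi a (𝟙 X)).left (lift (𝟙 X) (𝟙 X)).left ≫ (snd G X).left := by
  have h := congrArg (fun m => m ≫ (snd X X).left)
    (pullback.condition (f := (GIT.psi a (𝟙 X)).left) (g := (lift (𝟙 X) (𝟙 X)).left))
  simp only [Category.assoc, ← Over.comp_left, psi_eq, lift_snd] at h
  simpa [stabHom, psi_eq] using h.symm

/-- The unit section of the stabiliser. -/
noncomputable def stabOne : X.left ⟶ pullback (GIT.psi a (𝟙 X)).left (lift (𝟙 X) (𝟙 X)).left :=
  pullback.lift (lift (1 : X ⟶ G) (𝟙 X)).left (𝟙 _) (by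
    rw [← Over.comp_left, psi_eq, comp_lift, lift_snd, Groth.Agent.S7494.one_act]
    simp)

theorem stabOne_stabHom : stabOne a ≫ stabHom a = 𝟙 _ := pullback.lift_snd _ _ _

/-- An unramified universally injective map with a section is an isomorphism. -/
theorem isIso_of_formallyUnramified {Z W : Scheme.{u}} (h : Z ⟶ W) (e : W ⟶ Z) (he : e ≫ h = 𝟙 W)
    [FormallyUnramified h] [LocallyOfFiniteType h] [UniversallyInjective h] : IsIso h := by
  have : Surjective (pullback.diagonal h) := (UniversallyInjective.iff_diagonal h).1 ‹_›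
  have : IsOpenImmersion (pullback.diagonal h) := inferInstance
  have : IsIso (pullback.diagonal h) := by
    have : Epi (pullback.diagonal h).base :=
      (TopCat.epi_iff_surjective _).2 (pullback.diagonal h).surjective
    exact IsOpenImmersion.isIso _
  have : Mono h := (pullback.isIso_diagonal_iff h).1 this
  exact ⟨e, by rw [← cancel_mono h, Category.assoc, he, Category.comp_id, Category.id_comp], he⟩

/-- Trivial fibres give universal injectivity. -/
theorem universallyInjective_of_trivFibres {Z W : Scheme.{u}} (h : Z ⟶ W) (H : TrivFibres h) :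
    UniversallyInjective h := by
  refine ((tfae_universallyInjective h).out 1 0 rfl rfl).1 fun K _ g₁ g₂ e => ?_
  have := H K (g₂ ≫ h)
  have h2 : pullback.lift g₁ (𝟙 _) (by simpa using e) =
      pullback.lift g₂ (𝟙 _) (by simp : g₂ ≫ h = 𝟙 _ ≫ g₂ ≫ h) := by
    rw [← cancel_mono (pullback.snd h (g₂ ≫ h)), pullback.lift_snd, pullback.lift_snd]
  simpa only [pullback.lift_fst] using congrArg (fun m => m ≫ pullback.fst h (g₂ ≫ h)) h2

/-- A group with unramified structure map: the stabiliser is trivial as soon as it is radicial. -/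
theorem isIso_stabHom_of_unramified [FormallyUnramified G.hom] [LocallyOfFiniteType G.hom]
    [UniversallyInjective (stabHom a)] [LocallyOfFiniteType (lift (𝟙 X) (𝟙 X)).left] :
    IsIso (stabHom a) := by
  have hs : (lift (𝟙 X) (𝟙 X)).left ≫ (snd X X).left = 𝟙 _ := by
    rw [← Over.comp_left, lift_snd]; rfl
  have : Mono ((lift (𝟙 X) (𝟙 X)).left ≫ (snd X X).left) := by rw [hs]; infer_instance
  have : Mono (lift (𝟙 X) (𝟙 X)).left := mono_of_mono _ (snd X X).left
  have : FormallyUnramified (snd G X).left := MorphismProperty.pullback_snd (P := @FormallyUnramified) G.hom X.hom ‹_›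
  have : LocallyOfFiniteType (snd G X).left := inferInstanceAs (LocallyOfFiniteType (pullback.snd G.hom X.hom))
  have : IsIso (pullback.diagonal (pullback.fst (GIT.psi a (𝟙 X)).left (lift (𝟙 X) (𝟙 X)).left)) :=
    (pullback.isIso_diagonal_iff _).2 inferInstance
  have : FormallyUnramified (stabHom a) := by
    rw [stabHom_eq]
    exact MorphismProperty.comp_mem @FormallyUnramified _ _ inferInstance inferInstance
  have : LocallyOfFiniteType (stabHom a) := by rw [stabHom_eq]; infer_instance
  exact isIso_of_formallyUnramified _ _ (stabOne_stabHom a)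

section Fibre

variable {k : Type u} [Field k] {G X : Over (Spec (CommRingCat.of k))} [GrpObj G] (a : AlgGrp.Action G X)
  {K : Type u} [Field K] (x : Spec (CommRingCat.of K) ⟶ X.left)

/-- In characteristic zero the radicial fibres of the stabiliser are trivial. -/
theorem isIso_stab_fibre [CharZero K] [LocallyOfFiniteType G.hom] [UniversallyInjective (stabHom a)]
    [LocallyOfFiniteType (lift (𝟙 X) (𝟙 X)).left] :
    IsIso (pullback.snd (stabHom a) x) := by
  let p : Spec (CommRingCat.of K) ⟶ Spec (CommRingCat.of k) := x ≫ X.hom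
  let he := fun (T : Over (Spec (CommRingCat.of K))) => (Over.mapPullbackAdj p).homEquiv T G
  let xT : ∀ T : Over (Spec (CommRingCat.of K)), (Over.map p).obj T ⟶ X :=
    fun T => Over.homMk (T.hom ≫ x) (Category.assoc _ _ _)
  let Fix : ∀ T : Over (Spec (CommRingCat.of K)), ((Over.map p).obj T ⟶ G) → Prop :=
    fun T g => lift g (xT T) ≫ a.act = xT T
  let F : Over (Spec (CommRingCat.of K)) := Over.mk (pullback.snd (stabHom a) x)
  let pr : (Over.map p).obj F ⟶ G ⊗ X :=
    Over.homMk (pullback.fst (stabHom a) x ≫ pullback.fst _ _) (by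
      show (pullback.fst (stabHom a) x ≫ pullback.fst _ _) ≫ (G ⊗ X).hom = pullback.snd (stabHom a) x ≫ x ≫ X.hom
      rw [← Over.w (snd G X), Category.assoc, ← Category.assoc (pullback.fst _ _) (snd G X).left, ← stabHom_eq,
        ← Category.assoc, pullback.condition, Category.assoc])
  have hpr₂ : pr ≫ snd G X = xT F := by
    refine Over.OverMorphism.ext ?_
    show (pullback.fst (stabHom a) x ≫ pullback.fst _ _) ≫ (snd G X).left = pullback.snd (stabHom a) x ≫ x
    rw [Category.assoc, ← stabHom_eq, pullback.condition]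
  have hpr₁ : pr ≫ a.act = xT F := by
    rw [← hpr₂]
    have hc := pullback.condition (f := (GIT.psi a (𝟙 X)).left) (g := (lift (𝟙 X) (𝟙 X)).left)
    have h1 := congrArg (fun m => m ≫ (fst X X).left) hc
    have h2 := congrArg (fun m => m ≫ (snd X X).left) hc
    simp only [Category.assoc, ← Over.comp_left, psi_eq, lift_fst, lift_snd] at h1 h2
    refine Over.OverMorphism.ext ?_
    show (pullback.fst (stabHom a) x ≫ pullback.fst _ _) ≫ a.act.left =
      (pullback.fst (stabHom a) x ≫ pullback.fst _ _) ≫ (snd G X).left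
    simp only [Category.assoc]
    congr 1
    simpa [psi_eq] using h1.trans h2.symm
  let g₀ : (Over.map p).obj F ⟶ G := pr ≫ fst G X
  let incl : F ⟶ (Over.pullback p).obj G := he F g₀
  have hg₀ : Fix F g₀ := by
    show lift g₀ (xT F) ≫ a.act = xT F
    rw [← hpr₂, ← comp_lift_assoc, lift_fst_snd, Category.id_comp, hpr₁, hpr₂]
  have hxT : ∀ {T T' : Over (Spec (CommRingCat.of K))} (t : T' ⟶ T), (Over.map p).map t ≫ xT T = xT T' := by
    intro T T' t
    refine Over.OverMorphism.ext ?_
    show t.left ≫ T.hom ≫ x = T'.hom ≫ x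
    rw [← Category.assoc, Over.w]
  have hnat : ∀ {T : Over (Spec (CommRingCat.of K))} (t : T ⟶ F),
      t ≫ incl = he T ((Over.map p).map t ≫ g₀) :=
    fun t => (Adjunction.homEquiv_naturality_left (Over.mapPullbackAdj p) t g₀).symm
  have hfixed : ∀ {T : Over (Spec (CommRingCat.of K))} (t : T ⟶ F), Fix T ((Over.map p).map t ≫ g₀) := by
    intro T t
    show lift _ (xT T) ≫ a.act = xT T
    rw [← hxT t, ← comp_lift_assoc, show lift g₀ (xT F) ≫ a.act = xT F from hg₀]
  have hsurj : ∀ (T : Over (Spec (CommRingCat.of K))) (g : (Over.map p).obj T ⟶ G), Fix T g →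
      ∃ t : T ⟶ F, t ≫ incl = he T g := by
    intro T g hg
    have hg' : lift g (xT T) ≫ GIT.psi a (𝟙 X) = xT T ≫ lift (𝟙 X) (𝟙 X) := by
      rw [psi_eq, comp_lift, lift_snd, show lift g (xT T) ≫ a.act = xT T from hg, comp_lift, Category.comp_id]
    let l := pullback.lift (f := (GIT.psi a (𝟙 X)).left) (g := (lift (𝟙 X) (𝟙 X)).left)
      (lift g (xT T)).left (xT T).left (congrArg CommaMorphism.left hg')
    let t : T ⟶ F := Over.homMk (pullback.lift l T.hom (pullback.lift_snd _ _ _)) (pullback.lift_snd _ _ _)
    refine ⟨t, ?_⟩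
    rw [hnat]
    congr 1
    have : (Over.map p).map t ≫ pr = lift g (xT T) := by
      refine Over.OverMorphism.ext ?_
      show pullback.lift l T.hom _ ≫ pullback.fst (stabHom a) x ≫ pullback.fst _ _ = _
      rw [pullback.lift_fst_assoc, pullback.lift_fst]
    rw [← Category.assoc, this, lift_fst]
  have hmono : Mono incl := by
    refine ⟨fun {T} t t' e => ?_⟩
    have e' : (Over.map p).map t ≫ g₀ = (Over.map p).map t' ≫ g₀ :=
      (he T).injective (by rw [← hnat, e, hnat])
    have e2 : (Over.map p).map t ≫ pr = (Over.map p).map t' ≫ pr := by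
      refine CartesianMonoidalCategory.hom_ext _ _ ?_ ?_
      · rw [Category.assoc, Category.assoc]; exact e'
      · rw [Category.assoc, Category.assoc, hpr₂, hxT, hxT]
    refine Over.OverMorphism.ext (pullback.hom_ext ?_ ((Over.w t).trans (Over.w t').symm))
    refine pullback.hom_ext ?_ ?_
    · rw [Category.assoc, Category.assoc]
      exact congrArg CommaMorphism.left e2
    · simp only [Category.assoc]
      rw [show pullback.fst (stabHom a) x ≫ pullback.snd _ _ = pullback.snd (stabHom a) x ≫ x from
        pullback.condition, ← Category.assoc, ← Category.assoc]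
      exact congrArg (· ≫ x) ((Over.w t).trans (Over.w t').symm)
  have he1 : ∀ T, he T 1 = 1 := by
    intro T
    have h := AlgGrp.Action.homEquiv_mul p (G := G) (1 : (Over.map p).obj T ⟶ G) 1
    rw [_root_.mul_one] at h
    exact mul_left_cancel (a := he T 1) (h.symm.trans (_root_.mul_one _).symm)
  have heinv : ∀ T (g : (Over.map p).obj T ⟶ G), he T g⁻¹ = (he T g)⁻¹ := by
    intro T g
    refine eq_inv_of_mul_eq_one_left ?_
    rw [← AlgGrp.Action.homEquiv_mul, inv_mul_cancel]
    exact he1 T
  have hop := hsurj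
  obtain ⟨_, _⟩ := GrpScheme.SubgroupObj.exists_grpObj incl (by
      obtain ⟨m, hm⟩ := hop (F ⊗ F) (((Over.map p).map (fst F F) ≫ g₀) * ((Over.map p).map (snd F F) ≫ g₀)) (by
        show lift _ (xT (F ⊗ F)) ≫ a.act = _
        rw [Groth.Agent.S7494.act_mul, show lift _ (xT (F ⊗ F)) ≫ a.act = _ from hfixed (snd F F)]
        exact hfixed (fst F F))
      refine ⟨m, hm.trans ?_⟩
      rw [show he (F ⊗ F) _ = _ from AlgGrp.Action.homEquiv_mul p _ _, ← hnat, ← hnat, Hom.mul_def]
      congr 1)
    (by
      obtain ⟨o, ho⟩ := hop (𝟙_ _) 1 (Groth.Agent.S7494.one_act a _)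
      refine ⟨o, ho.trans ?_⟩
      rw [he1, Hom.one_def, toUnit_unique (toUnit _) (𝟙 _), Category.id_comp])
    (by
      obtain ⟨i, hi⟩ := hop F g₀⁻¹ (by
        show lift g₀⁻¹ (xT F) ≫ a.act = xT F
        conv_lhs => rw [← show lift g₀ (xT F) ≫ a.act = xT F from hg₀]
        rw [← Groth.Agent.S7494.act_mul, inv_mul_cancel, Groth.Agent.S7494.one_act])
      exact ⟨i, hi.trans ((heinv F g₀).trans (Hom.inv_def _))⟩)
  have : LocallyOfFiniteType (stabHom a) := by
    have : LocallyOfFiniteType (snd G X).left := inferInstanceAs (LocallyOfFiniteType (pullback.snd G.hom X.hom))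
    rw [stabHom_eq]; infer_instance
  have : LocallyOfFiniteType F.hom := inferInstanceAs (LocallyOfFiniteType (pullback.snd (stabHom a) x))
  have : Smooth F.hom := GrpScheme.Cartier.smooth_of_charZero F
  have : IsReduced F.left := GrpScheme.HomFlat.isReduced_of_smooth F.hom
  let e : Spec (CommRingCat.of K) ⟶ F.left := pullback.lift (x ≫ stabOne a) (𝟙 _)
    (by rw [Category.assoc, stabOne_stabHom, Category.id_comp, Category.comp_id])
  have hei : e ≫ F.hom = 𝟙 _ := pullback.lift_snd _ _ _
  have : UniversallyInjective F.hom := MorphismProperty.pullback_snd (P := @UniversallyInjective) (stabHom a) x ‹_›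
  have hinj := F.hom.injective
  have : Subsingleton F.left := hinj.subsingleton
  have : IsSeparated F.hom := GrpdLib.GrpOver.isSeparated_hom F
  have : IsClosedImmersion (e ≫ F.hom) := by rw [hei]; infer_instance
  have : IsClosedImmersion e := .of_comp e F.hom
  have : Surjective e := ⟨fun z => ⟨IsLocalRing.closedPoint K, Subsingleton.elim _ _⟩⟩
  have := isIso_of_isClosedImmersion_of_surjective e
  have : IsIso F.hom := IsIso.of_isIso_fac_left hei
  exact this

end Fibre

end Groth.Agent.GITLib
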