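import Groth.Agent.GITLib.StabFree
import Groth.Prelude.Def_GLinSh

/-!
# The stabiliser of an action as a group scheme over the space

* `exists_grpObj_stab` : the stabiliser scheme carries a group structure over the space
* `isPullback_stab` : the stabiliser of a point is the fibre of the stabiliser scheme
* `locallyOfFiniteType_stabHom`
-/

set_option autoImplicit false
set_option linter.style.haveILetI false
set_option backward.isDefEq.respectTransparency false

universe u

open CategoryTheory Limits MonoidalCategory CartesianMonoidalCategory MonObj GrpObj AlgebraicGeometry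

namespace Groth.Agent.GITLib.StabGroup

variable {S : Scheme.{u}} {G X : Over S} [GrpObj G] (a : AlgGrp.Action G X)

/-- The stabiliser scheme is locally of finite type. -/
theorem locallyOfFiniteType_stabHom [LocallyOfFiniteType G.hom] [LocallyOfFiniteType X.hom] :
    LocallyOfFiniteType (stabHom a) := by
  haveI : LocallyOfFiniteType ((lift (𝟙 X) (𝟙 X)).left ≫ (X ⊗ X).hom) := by
    rw [Over.w]; infer_instance
  haveI : LocallyOfFiniteType (lift (𝟙 X) (𝟙 X)).left := locallyOfFiniteType_of_comp _ (X ⊗ X).hom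
  haveI : LocallyOfFiniteType (snd G X).left :=
    inferInstanceAs (LocallyOfFiniteType (pullback.snd G.hom X.hom))
  rw [stabHom_eq]; infer_instance

/-- The stabiliser scheme is a group over the space. -/
theorem exists_grpObj_stab : Nonempty (GrpObj (Over.mk (stabHom a) : Over X.left)) := by
  let p : X.left ⟶ S := X.hom
  let he := fun (T : Over X.left) => (Over.mapPullbackAdj p).homEquiv T G
  let xT : ∀ T : Over X.left, (Over.map p).obj T ⟶ X := fun T => Over.homMk T.hom rfl
  let Fix : ∀ T : Over X.left, ((Over.map p).obj T ⟶ G) → Prop :=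
    fun T g => lift g (xT T) ≫ a.act = xT T
  let F : Over X.left := Over.mk (stabHom a)
  let pr : (Over.map p).obj F ⟶ G ⊗ X :=
    Over.homMk (pullback.fst _ _) (by
      show pullback.fst _ _ ≫ (G ⊗ X).hom = stabHom a ≫ X.hom
      rw [← Over.w (snd G X), ← Category.assoc, ← stabHom_eq])
  have hpr₂ : pr ≫ snd G X = xT F := Over.OverMorphism.ext (stabHom_eq a).symm
  have hpr₁ : pr ≫ a.act = xT F := by
    rw [← hpr₂]
    have hc := pullback.condition (f := (GIT.psi a (𝟙 X)).left) (g := (lift (𝟙 X) (𝟙 X)).left)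
    have h1 := congrArg (fun m => m ≫ (fst X X).left) hc
    have h2 := congrArg (fun m => m ≫ (snd X X).left) hc
    simp only [Category.assoc, ← Over.comp_left, psi_eq, lift_fst, lift_snd] at h1 h2
    refine Over.OverMorphism.ext ?_
    show pullback.fst _ _ ≫ a.act.left = pullback.fst _ _ ≫ (snd G X).left
    simpa [psi_eq] using h1.trans h2.symm
  let g₀ : (Over.map p).obj F ⟶ G := pr ≫ fst G X
  let incl : F ⟶ (Over.pullback p).obj G := he F g₀
  have hg₀ : Fix F g₀ := by
    show lift g₀ (xT F) ≫ a.act = xT F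
    rw [← hpr₂, ← comp_lift_assoc, lift_fst_snd, Category.id_comp, hpr₁, hpr₂]
  have hxT : ∀ {T T' : Over X.left} (t : T' ⟶ T), (Over.map p).map t ≫ xT T = xT T' := fun t =>
    Over.OverMorphism.ext (Over.w t)
  have hnat : ∀ {T : Over X.left} (t : T ⟶ F),
      t ≫ incl = he T ((Over.map p).map t ≫ g₀) :=
    fun t => (Adjunction.homEquiv_naturality_left (Over.mapPullbackAdj p) t g₀).symm
  have hfixed : ∀ {T : Over X.left} (t : T ⟶ F), Fix T ((Over.map p).map t ≫ g₀) := by
    intro T t
    show lift _ (xT T) ≫ a.act = xT T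
    rw [← hxT t, ← comp_lift_assoc, show lift g₀ (xT F) ≫ a.act = xT F from hg₀]
  have hsurj : ∀ (T : Over X.left) (g : (Over.map p).obj T ⟶ G), Fix T g →
      ∃ t : T ⟶ F, t ≫ incl = he T g := by
    intro T g hg
    have hg' : lift g (xT T) ≫ GIT.psi a (𝟙 X) = xT T ≫ lift (𝟙 X) (𝟙 X) := by
      rw [psi_eq, comp_lift, lift_snd, show lift g (xT T) ≫ a.act = xT T from hg, comp_lift, Category.comp_id]
    let t : T ⟶ F := Over.homMk (pullback.lift (f := (GIT.psi a (𝟙 X)).left) (g := (lift (𝟙 X) (𝟙 X)).left)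
      (lift g (xT T)).left (xT T).left (congrArg (fun m => m.left) hg')) (pullback.lift_snd _ _ _)
    refine ⟨t, ?_⟩
    rw [hnat]
    congr 1
    have : (Over.map p).map t ≫ pr = lift g (xT T) := Over.OverMorphism.ext (pullback.lift_fst _ _ _)
    rw [← Category.assoc, this, lift_fst]
  have hmono : Mono incl := by
    refine ⟨fun {T} t t' e => ?_⟩
    have e' : (Over.map p).map t ≫ g₀ = (Over.map p).map t' ≫ g₀ :=
      (he T).injective (by rw [← hnat, e, hnat])
    have e2 : (Over.map p).map t ≫ pr = (Over.map p).map t' ≫ pr := by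
      refine CartesianMonoidalCategory.hom_ext _ _ ?_ ?_
      · rw [Category.assoc, Category.assoc]; exact e'
      · rw [Category.assoc, Category.assoc, hpr₂, hxT, hxT]
    exact Over.OverMorphism.ext (pullback.hom_ext (congrArg (fun m => m.left) e2)
      ((Over.w t).trans (Over.w t').symm))
  have he1 : ∀ T, he T 1 = 1 := by
    intro T
    have h := AlgGrp.Action.homEquiv_mul p (G := G) (1 : (Over.map p).obj T ⟶ G) 1
    rw [_root_.mul_one] at h
    exact mul_left_cancel (a := he T 1) (h.symm.trans (_root_.mul_one _).symm)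
  have heinv : ∀ T (g : (Over.map p).obj T ⟶ G), he T g⁻¹ = (he T g)⁻¹ := by
    intro T g
    refine eq_inv_of_mul_eq_one_left ?_
    rw [← AlgGrp.Action.homEquiv_mul, inv_mul_cancel]
    exact he1 T
  obtain ⟨hgrp, _⟩ := GrpScheme.SubgroupObj.exists_grpObj incl (by
      obtain ⟨m, hm⟩ := hsurj (F ⊗ F) (((Over.map p).map (fst F F) ≫ g₀) * ((Over.map p).map (snd F F) ≫ g₀)) (by
        show lift _ (xT (F ⊗ F)) ≫ a.act = _
        rw [Groth.Agent.S7494.act_mul, show lift _ (xT (F ⊗ F)) ≫ a.act = _ from hfixed (snd F F)]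
        exact hfixed (fst F F))
      refine ⟨m, hm.trans ?_⟩
      rw [show he (F ⊗ F) _ = _ from AlgGrp.Action.homEquiv_mul p _ _, ← hnat, ← hnat, Hom.mul_def]
      congr 1)
    (by
      obtain ⟨o, ho⟩ := hsurj (𝟙_ _) 1 (Groth.Agent.S7494.one_act a _)
      refine ⟨o, ho.trans ?_⟩
      rw [he1, Hom.one_def, toUnit_unique (toUnit _) (𝟙 _), Category.id_comp])
    (by
      obtain ⟨i, hi⟩ := hsurj F g₀⁻¹ (by
        show lift g₀⁻¹ (xT F) ≫ a.act = xT F
        conv_lhs => rw [← show lift g₀ (xT F) ≫ a.act = xT F from hg₀]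
        rw [← Groth.Agent.S7494.act_mul, inv_mul_cancel, Groth.Agent.S7494.one_act])
      exact ⟨i, hi.trans ((heinv F g₀).trans (Hom.inv_def _))⟩)
  exact ⟨hgrp⟩

/-- Base change of a product along a point of the second factor. -/
theorem isPullback_whiskerLeft (M : Over S) {T : Over S} (f : T ⟶ X) :
    IsPullback (M ◁ f).left (snd M T).left (snd M X).left f.left := by
  refine IsPullback.of_right ?_ ?_ (IsPullback.of_hasPullback M.hom X.hom)
  · rw [Over.w f]
    have : (M ◁ f).left ≫ pullback.fst M.hom X.hom = pullback.fst M.hom T.hom := by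
      show (M ◁ f).left ≫ (fst M X).left = (fst M T).left
      rw [← Over.comp_left, whiskerLeft_fst]
    rw [this]
    exact IsPullback.of_hasPullback M.hom T.hom
  · rw [← Over.comp_left, whiskerLeft_snd, Over.comp_left]

/-- The stabiliser of a point is the pullback of the stabiliser scheme. -/
theorem isPullback_stab {T : Over S} (f : T ⟶ X) :
    IsPullback (pullback.lift (f := (GIT.psi a (𝟙 X)).left) (g := (lift (𝟙 X) (𝟙 X)).left)
      (pullback.fst (GIT.psi a f).left (lift f (𝟙 T)).left ≫ (G ◁ f).left) (GLinSh.stabTo a f ≫ f.left)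
      (by
        have e1 : (G ◁ f) ≫ GIT.psi a (𝟙 X) = GIT.psi a f ≫ (X ◁ f) := by
          apply CartesianMonoidalCategory.hom_ext <;> simp [GIT.psi]
        have e2 : lift f (𝟙 T) ≫ (X ◁ f) = f ≫ lift (𝟙 X) (𝟙 X) := by
          apply CartesianMonoidalCategory.hom_ext <;> simp
        rw [Category.assoc, ← Over.comp_left, e1, Over.comp_left, pullback.condition_assoc, ← Over.comp_left, e2,
          Over.comp_left, GLinSh.stabTo, Category.assoc]))
      (GLinSh.stabTo a f) (stabHom a) f.left := by
  have e2 : lift f (𝟙 T) ≫ (X ◁ f) = f ≫ lift (𝟙 X) (𝟙 X) := by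
    apply CartesianMonoidalCategory.hom_ext <;> simp
  have e1 : (G ◁ f) ≫ GIT.psi a (𝟙 X) = GIT.psi a f ≫ (X ◁ f) := by
    apply CartesianMonoidalCategory.hom_ext <;> simp [GIT.psi]
  have h1 : IsPullback (G ◁ f).left (GIT.psi a f).left (GIT.psi a (𝟙 X)).left (X ◁ f).left := by
    refine IsPullback.of_bot ?_ (by rw [← Over.comp_left, e1, Over.comp_left]) (isPullback_whiskerLeft X f)
    have ea : (GIT.psi a f).left ≫ (snd X T).left = (snd G T).left := by
      rw [← Over.comp_left, GIT.psi, lift_snd]
    have eb : (GIT.psi a (𝟙 X)).left ≫ (snd X X).left = (snd G X).left := by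
      rw [← Over.comp_left, GIT.psi, lift_snd]
    rw [ea, eb]
    exact isPullback_whiskerLeft G f
  refine IsPullback.of_right ?_ (pullback.lift_snd _ _ _)
    (IsPullback.of_hasPullback (GIT.psi a (𝟙 X)).left (lift (𝟙 X) (𝟙 X)).left)
  rw [pullback.lift_fst]
  refine ((IsPullback.of_hasPullback (GIT.psi a f).left (lift f (𝟙 T)).left).paste_horiz h1).of_iso
    (Iso.refl _) (Iso.refl _) (Iso.refl _) (Iso.refl _) (by simp) (by simp [GLinSh.stabTo]) (by simp) ?_
  simp only [Iso.refl_hom, Category.comp_id, Category.id_comp]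
  rw [← Over.comp_left, e2, Over.comp_left]

end Groth.Agent.GITLib.StabGroup
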