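import Groth.Agent.GITLib.FppfQuot
import Mathlib.AlgebraicGeometry.Noetherian

/-!
# Torsors are universal geometric quotients
-/

set_option autoImplicit false

universe u

open CategoryTheory MonoidalCategory CartesianMonoidalCategory MonObj AlgebraicGeometry Topology Opposite

namespace Groth.Agent.GITLib

variable {S : Scheme.{u}} {G X Y : Over S} [GrpObj G] {a : AlgGrp.Action G X} {q : X ⟶ Y}

/-- An fppf invariant map along which `(σ, p₂)` is an isomorphism onto the fibre square is a local
quotient. -/
theorem isLocQuot_of_fppf (hi : GIT.IsInvariant a q) [Flat q.left] [Surjective q.left]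
    [LocallyOfFinitePresentation q.left] (hc : IsIso (GIT.PsiY a q hi)) : IsLocQuot a q := by
  refine ⟨hi, fun {T} y => ?_, fun {T} x y e => ?_⟩
  · let P : Over S := Over.mk (Limits.pullback.fst y.left q.left ≫ T.hom)
    let p : P ⟶ T := Over.homMk (Limits.pullback.fst y.left q.left) rfl
    let x : P ⟶ X := Over.homMk (Limits.pullback.snd y.left q.left) (by
      show Limits.pullback.snd y.left q.left ≫ X.hom = Limits.pullback.fst y.left q.left ≫ T.hom
      rw [← Over.w q, ← Limits.pullback.condition_assoc, Over.w y])
    have hx : x ≫ q = p ≫ y := Over.OverMorphism.ext Limits.pullback.condition.symm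
    let Sv : Sieve T :=
      { arrows := fun T' f => ∃ z : T' ⟶ X, z ≫ q = f ≫ y
        downward_closed := by
          rintro T₁ T₂ f ⟨z, hz⟩ k
          exact ⟨k ≫ z, by rw [Category.assoc, hz, Category.assoc]⟩ }
    have : Flat p.left := inferInstanceAs (Flat (Limits.pullback.fst y.left q.left))
    have : Surjective p.left := inferInstanceAs (Surjective (Limits.pullback.fst y.left q.left))
    have : LocallyOfFinitePresentation p.left :=
      inferInstanceAs (LocallyOfFinitePresentation (Limits.pullback.fst y.left q.left))
    exact ⟨Sv, AlgSp.mem_of_fppf p (T := Sv) ⟨x, hx⟩, fun _ _ h => h⟩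
  · refine ⟨⊤, (AlgSp.J S).top_mem T, fun T' f _ => OrbRel.comp f ?_⟩
    let l := Limits.pullback.lift y.left x.left
      (show y.left ≫ q.left = x.left ≫ q.left from (congrArg CommaMorphism.left e).symm) ≫
        inv (GIT.PsiY a q hi)
    have hl : l ≫ GIT.PsiY a q hi = Limits.pullback.lift y.left x.left
        (show y.left ≫ q.left = x.left ≫ q.left from (congrArg CommaMorphism.left e).symm) := by
      rw [Category.assoc, IsIso.inv_hom_id, Category.comp_id]
    have h1 : l ≫ a.act.left = y.left := by
      have := congrArg (· ≫ Limits.pullback.fst q.left q.left) hl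
      simpa only [GIT.PsiY, Category.assoc, Limits.pullback.lift_fst] using this
    have h2 : l ≫ (snd G X).left = x.left := by
      have := congrArg (· ≫ Limits.pullback.snd q.left q.left) hl
      simpa only [GIT.PsiY, Category.assoc, Limits.pullback.lift_snd] using this
    let L : T ⟶ G ⊗ X := Over.homMk l (by rw [← Over.w (snd G X), ← Category.assoc, h2, Over.w])
    have e1 : L ≫ a.act = y := Over.OverMorphism.ext h1
    have e2 : L ≫ snd G X = x := Over.OverMorphism.ext h2
    exact ⟨L ≫ fst G X, by rw [← e2, ← comp_lift_assoc, lift_fst_snd, Category.id_comp, e1]⟩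

/-- Over a field the quotient map between schemes of finite type is lfp. -/
theorem isLocQuot_of_field {k : Type u} [Field k] {G X Y : Over (Spec (CommRingCat.of k))} [GrpObj G]
    [LocallyOfFiniteType X.hom] [LocallyOfFiniteType Y.hom] {a : AlgGrp.Action G X} {q : X ⟶ Y}
    (hi : GIT.IsInvariant a q) [Flat q.left] [Surjective q.left] (hc : IsIso (GIT.PsiY a q hi)) :
    IsLocQuot a q := by
  have : IsLocallyNoetherian Y.left := LocallyOfFiniteType.isLocallyNoetherian Y.hom
  have : LocallyOfFiniteType (q.left ≫ Y.hom) := by rw [Over.w]; infer_instance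
  have := locallyOfFiniteType_of_comp q.left Y.hom
  exact isLocQuot_of_fppf hi hc

/-- If `(σ, p₂)` is a closed immersion into the fibre square of a separated base, so is it into
`X × X`. -/
theorem isClosedImmersion_psi [IsSeparated Y.hom] (hi : GIT.IsInvariant a q)
    [IsClosedImmersion (GIT.PsiY a q hi)] : IsClosedImmersion (GIT.psi a (𝟙 X)).left := by
  let t : Limits.pullback q.left q.left ⟶ (X ⊗ X).left :=
    Limits.pullback.mapDesc q.left q.left Y.hom ≫
      Limits.pullback.map _ _ X.hom X.hom (𝟙 _) (𝟙 _) (𝟙 S) (by simp) (by simp)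
  have : IsClosedImmersion (Limits.pullback.mapDesc q.left q.left Y.hom) :=
    inferInstance
  have : IsIso (Limits.pullback.map (q.left ≫ Y.hom) (q.left ≫ Y.hom) X.hom X.hom (𝟙 _) (𝟙 _) (𝟙 S)
      (by simp) (by simp)) := inferInstance
  have heq : (GIT.psi a (𝟙 X)).left = GIT.PsiY a q hi ≫ t := by
    have e1 : (GIT.psi a (𝟙 X)).left ≫ Limits.pullback.fst X.hom X.hom = a.act.left := by
      have h : GIT.psi a (𝟙 X) ≫ fst X X = a.act := by
        rw [GIT.psi, lift_fst, MonoidalCategory.whiskerLeft_id, Category.id_comp]
      exact congrArg CommaMorphism.left h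
    have e2 : (GIT.psi a (𝟙 X)).left ≫ Limits.pullback.snd X.hom X.hom = (snd G X).left :=
      congrArg CommaMorphism.left (lift_snd ((G ◁ 𝟙 X) ≫ a.act) (snd G X))
    refine Limits.pullback.hom_ext (e1.trans ?_) (e2.trans ?_) <;>
      simp only [GIT.PsiY, t, Limits.pullback.mapDesc, Category.assoc, Limits.pullback.lift_fst,
        Limits.pullback.lift_snd, Limits.pullback.lift_fst_assoc, Limits.pullback.lift_snd_assoc,
        Category.comp_id]
  rw [heq]
  have : IsClosedImmersion t := inferInstanceAs (IsClosedImmersion (_ ≫ _))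
  infer_instance

end Groth.Agent.GITLib
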