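import Groth.Agent.GITLib.Torsor

/-!
# Equivariant maps of torsors are cartesian
-/

set_option autoImplicit false

universe u

open CategoryTheory MonoidalCategory CartesianMonoidalCategory MonObj AlgebraicGeometry Topology Opposite

namespace Groth.Agent.GITLib

variable {S : Scheme.{u}}

/-- A monomorphism with fppf local sections is an isomorphism. -/
theorem isIso_of_mono_of_lifts {X Y : Over S} (ρ : X ⟶ Y) [Mono ρ] {Sv : Sieve Y}
    (hSv : Sv ∈ AlgSp.J S Y) (h : ∀ ⦃T : Over S⦄ (f : T ⟶ Y), Sv.arrows f → ∃ x : T ⟶ X, x ≫ ρ = f) :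
    IsIso ρ := by
  have hX : Presieve.IsSheaf (AlgSp.J S) (yoneda.obj X) :=
    GrothendieckTopology.Subcanonical.isSheaf_of_isRepresentable _
  have hY : Presieve.IsSheaf (AlgSp.J S) (yoneda.obj Y) :=
    GrothendieckTopology.Subcanonical.isSheaf_of_isRepresentable _
  let fam : Presieve.FamilyOfElements (yoneda.obj X) Sv.arrows := fun T f hf => (h f hf).choose
  have hfam : fam.Compatible := by
    intro T₁ T₂ T k₁ k₂ f₁ f₂ h₁ h₂ w
    show k₁ ≫ (h f₁ h₁).choose = k₂ ≫ (h f₂ h₂).choose
    rw [← cancel_mono ρ, Category.assoc, Category.assoc, (h f₁ h₁).choose_spec, (h f₂ h₂).choose_spec, w]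
  let s : Y ⟶ X := (hX Sv hSv).amalgamate fam hfam
  have hs : s ≫ ρ = 𝟙 Y := by
    refine (hY.isSeparated Sv hSv).ext fun T f hf => ?_
    show f ≫ s ≫ ρ = f ≫ 𝟙 Y
    rw [← Category.assoc, show f ≫ s = fam f hf from (hX Sv hSv).valid_glue hfam f hf, Category.comp_id]
    exact (h f hf).choose_spec
  exact ⟨s, by rw [← cancel_mono ρ, Category.assoc, hs, Category.comp_id, Category.id_comp], hs⟩

variable {G X Y : Over S} [GrpObj G]

/-- A point fixing a point is trivial when `(σ, p₂)` into the fibre square is a monomorphism. -/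
theorem eq_one_of_psiY {a : AlgGrp.Action G X} {q : X ⟶ Y} (hi : GIT.IsInvariant a q)
    [Mono (GIT.PsiY a q hi)] {T : Over S} (g : T ⟶ G) (x : T ⟶ X) (e : lift g x ≫ a.act = x) : g = 1 := by
  have : (lift g x).left = (lift (1 : T ⟶ G) x).left := by
    rw [← cancel_mono (GIT.PsiY a q hi)]
    refine Limits.pullback.hom_ext ?_ ?_
    · rw [Category.assoc, Category.assoc, GIT.PsiY, Limits.pullback.lift_fst, ← Over.comp_left,
        ← Over.comp_left, e, lift_act_one]
    · rw [Category.assoc, Category.assoc, GIT.PsiY, Limits.pullback.lift_snd, ← Over.comp_left,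
        ← Over.comp_left, lift_snd, lift_snd]
  have h2 : lift g x = lift (1 : T ⟶ G) x := Over.OverMorphism.ext this
  simpa using congrArg (fun l : T ⟶ G ⊗ X => l ≫ fst G X) h2

/-- An equivariant map between free local quotients gives a cartesian square. -/
theorem isPullback_of_equivariant {XG YG : Over S} {a : AlgGrp.Action G X} {b : AlgGrp.Action G Y}
    {qX : X ⟶ XG} {qY : Y ⟶ YG} {F : X ⟶ Y} {fG : XG ⟶ YG} (hX : IsLocQuot a qX) (hY : IsLocQuot b qY)
    [Mono (GIT.PsiY b qY hY.inv)] (hF : a.act ≫ F = (G ◁ F) ≫ b.act) (e : qX ≫ fG = F ≫ qY) :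
    IsPullback qX F fG qY := by
  let P := Limits.pullback fG qY
  let ρ : X ⟶ P := Limits.pullback.lift qX F e
  have act_F : ∀ {T : Over S} (g : T ⟶ G) (z : T ⟶ X),
      lift g (z ≫ F) ≫ b.act = (lift g z ≫ a.act) ≫ F := by
    intro T g z
    rw [Category.assoc, hF, lift_whiskerLeft_assoc]
  have hX' : Presieve.IsSheaf (AlgSp.J S) (yoneda.obj X) :=
    GrothendieckTopology.Subcanonical.isSheaf_of_isRepresentable _
  have : Mono ρ := by
    refine ⟨fun {T} z z' h => ?_⟩
    have h1 : z ≫ qX = z' ≫ qX := by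
      simpa only [ρ, Category.assoc, Limits.pullback.lift_fst] using congrArg (· ≫ Limits.pullback.fst fG qY) h
    have h2 : z ≫ F = z' ≫ F := by
      simpa only [ρ, Category.assoc, Limits.pullback.lift_snd] using congrArg (· ≫ Limits.pullback.snd fG qY) h
    obtain ⟨Sv, hSv, hr⟩ := hX.rel z z' h1
    refine (hX'.isSeparated Sv hSv).ext fun T' f hf => ?_
    show f ≫ z = f ≫ z'
    obtain ⟨g, hg⟩ := hr f hf
    have : g = 1 := eq_one_of_psiY hY.inv g (f ≫ z ≫ F) (by
      rw [← Category.assoc, act_F, hg, Category.assoc, Category.assoc, h2])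
    rw [← hg, this, lift_act_one]
  let Sv : Sieve P :=
    { arrows := fun T f => ∃ x : T ⟶ X, x ≫ ρ = f
      downward_closed := by
        rintro T T' f ⟨x, rfl⟩ k
        exact ⟨k ≫ x, Category.assoc _ _ _⟩ }
  have hSv : Sv ∈ AlgSp.J S P := by
    obtain ⟨R, hR, hl⟩ := hX.lifts (Limits.pullback.fst fG qY)
    refine GrothendieckTopology.transitive _ hR Sv fun T f hf => ?_
    obtain ⟨z, hz⟩ := hl f hf
    obtain ⟨R', hR', hl'⟩ := hY.rel (z ≫ F) (f ≫ Limits.pullback.snd fG qY) (by
      rw [Category.assoc, ← e, ← Category.assoc, hz, Category.assoc, Category.assoc,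
        Limits.pullback.condition])
    refine GrothendieckTopology.superset_covering _ (fun T' k hk => ?_) hR'
    obtain ⟨g, hg⟩ := hl' k hk
    refine ⟨lift g (k ≫ z) ≫ a.act, Limits.pullback.hom_ext ?_ ?_⟩
    · rw [Category.assoc, Limits.pullback.lift_fst, Category.assoc,
        show a.act ≫ qX = snd G X ≫ qX from hX.inv, lift_snd_assoc, Category.assoc, hz, Category.assoc]
    · rw [Category.assoc, Limits.pullback.lift_snd, ← act_F, Category.assoc, hg, Category.assoc]
  have := isIso_of_mono_of_lifts ρ hSv fun T f hf => hf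
  exact (IsPullback.of_hasPullback fG qY).of_iso (asIso ρ).symm (Iso.refl _) (Iso.refl _) (Iso.refl _)
    (by simpa [ρ] using! Limits.pullback.lift_fst qX F e) (by simpa [ρ] using! Limits.pullback.lift_snd qX F e)
    (by simp) (by simp)

end Groth.Agent.GITLib
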