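import Groth.Agent.S15385
import Groth.Agent.GITLib.EtaleTorsorSections
import Groth.Agent.GITLib.TorsorSchMore
import Groth.Prelude.Def_BigSite

/-!
# Torsor schemes over a field and the fibre of the classifying stack
-/

set_option autoImplicit false
set_option linter.style.haveILetI false
set_option backward.isDefEq.respectTransparency false
set_option synthInstance.maxHeartbeats 400000

universe u

open CategoryTheory CategoryTheory.Limits MonoidalCategory CartesianMonoidalCategory MonObj
  AlgebraicGeometry NonAbH1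

namespace Groth.Agent.GITLib.TorsorMass

open Groth.Agent.GalCohAux Groth.Agent.GalCohAux.StackTorsor

variable {k : Type u} [Field k]

theorem pt_hom_eq : Spec.map (CommRingCat.ofHom (algebraMap k k)) = 𝟙 (Spec (CommRingCat.of k)) := by
  rw [Algebra.algebraMap_self, CommRingCat.ofHom_id, Spec.map_id]

/-- The point of `Spec k` is terminal. -/
theorem pt_ext {Y : Over (Spec (CommRingCat.of k))} (f g : Y ⟶ SGA7.pt (K := k) k) : f = g := by
  apply Over.OverMorphism.ext
  have hf := Over.w f
  have hg := Over.w g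
  simp only [SGA7.pt, Over.mk_hom, pt_hom_eq] at hf hg
  exact hf.trans hg.symm

/-- The structure map to the point. -/
noncomputable def toPt (Y : Over (Spec (CommRingCat.of k))) : Y ⟶ SGA7.pt (K := k) k :=
  Over.homMk Y.hom (by simp [SGA7.pt, pt_hom_eq])

variable {G : Over (Spec (CommRingCat.of k))} [GrpObj G]

theorem cart_of_pseudo {X : Over (Spec (CommRingCat.of k))} (a : AlgGrp.Action G X)
    (h : IsPseudoTorsorSch a) : IsPullback a.act (snd G X) (toPt X) (toPt X) := by
  have : IsIso (lift a.act (snd G X)) := h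
  refine ⟨⟨pt_ext _ _⟩, ⟨PullbackCone.IsLimit.mk _
    (fun s => lift s.fst s.snd ≫ inv (lift a.act (snd G X)))
    (fun s => ?_) (fun s => ?_) (fun s m h₁ h₂ => ?_)⟩⟩
  · have e : inv (lift a.act (snd G X)) ≫ a.act = fst X X := by
      rw [IsIso.inv_comp_eq, lift_fst]
    rw [Category.assoc, e, lift_fst]
  · have e : inv (lift a.act (snd G X)) ≫ snd G X = snd X X := by
      rw [IsIso.inv_comp_eq, lift_snd]
    rw [Category.assoc, e, lift_snd]
  · rw [IsIso.eq_comp_inv, comp_lift, h₁, h₂]

theorem pseudo_of_cart {X : Over (Spec (CommRingCat.of k))} (a : AlgGrp.Action G X)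
    {π : X ⟶ SGA7.pt (K := k) k} (h : IsPullback a.act (snd G X) π π) : IsPseudoTorsorSch a := by
  refine ⟨h.lift (fst X X) (snd X X) (pt_ext _ _), ?_, ?_⟩
  · refine h.hom_ext ?_ ?_ <;> simp
  · refine CartesianMonoidalCategory.hom_ext _ _ ?_ ?_ <;> simp

variable [IsFinite G.hom] [Etale G.hom]

theorem etale_surjective (P : TorsorSch G Scheme.fppfPrecoverage) : Etale P.X.hom ∧ Surjective P.X.hom := by
  have hq := isTorsorFor_mono Scheme.fppfPrecoverage_le_fpqcPrecoverage P.isTorsor
  haveI : MorphismProperty.DescendsAlong @Etale.{u} AlgSpCov.Fpqc :=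
    inferInstanceAs (MorphismProperty.DescendsAlong @Etale (@Surjective ⊓ @Flat ⊓ @QuasiCompact))
  refine ⟨property_of_torsor @Etale hq inferInstance, ⟨?_⟩⟩
  obtain ⟨R, hR, hs⟩ := P.isTorsor.2
  intro y
  obtain ⟨Y, f, hf, w, -⟩ := (Presieve.mem_comap_jointlySurjectivePrecoverage_iff Scheme.forget).mp hR.1 y
  obtain ⟨s, hs'⟩ := hs f hf
  haveI : Subsingleton ↥(Spec (CommRingCat.of k)) := inferInstanceAs (Subsingleton (PrimeSpectrum k))
  exact ⟨s.base w, Subsingleton.elim _ _⟩

/-- The object of the classifying stack of a torsor scheme. -/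
noncomputable def toFib (P : TorsorSch G Scheme.fppfPrecoverage) : Fib k (AlgSt.trivAction G) :=
  ⟨{ base := SGA7.pt (K := k) k
     P := P.X
     act := P.act
     π := toPt P.X
     cart := cart_of_pseudo P.act P.isTorsor.1
     loc := ⟨Presieve.singleton P.X.hom,
       (Scheme.singleton_mem_precoverage_iff (P := @Etale) P.X.hom).mpr
         ⟨(etale_surjective P).2.surj, (etale_surjective P).1⟩,
       fun S' f hf => by
         obtain ⟨⟩ := hf
         exact ⟨𝟙 _, Category.id_comp _⟩⟩
     φ := toUnit _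
     eqv := toUnit_unique _ _ }, rfl⟩

theorem base_eq {A B : Fib k (AlgSt.trivAction G)} (F F' : A.1 ⟶ B.1) : F.base = F'.base := by
  rcases A with ⟨A, hA⟩
  rcases B with ⟨B, hB⟩
  have hB' : B.base = SGA7.pt (K := k) k := hB
  rw [← cancel_mono (eqToHom hB')]
  exact pt_ext _ _

theorem hom_ext {A B : Fib k (AlgSt.trivAction G)} {f g : A ⟶ B}
    (h : StackHom.top f = StackHom.top g) : f = g :=
  Subtype.ext (AlgSt.QuotObj.hom_ext (base_eq f.1 g.1) h)

/-- A morphism of fibre objects from an equivariant isomorphism. -/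
noncomputable def fibHom {P Q : TorsorSch G Scheme.fppfPrecoverage} (f : P.X ⟶ Q.X) [IsIso f]
    (hf : P.act.act ≫ f = (G ◁ f) ≫ Q.act.act) : toFib P ⟶ toFib Q :=
  ⟨{ base := 𝟙 _, top := f, eqv := hf
     cart := IsPullback.of_horiz_isIso ⟨pt_ext _ _⟩
     wφ := toUnit_unique _ _ },
   IsHomLift.of_fac' _ _ _ rfl rfl (by simp; rfl)⟩

theorem top_fibHom {P Q : TorsorSch G Scheme.fppfPrecoverage} (f : P.X ⟶ Q.X) [IsIso f]
    (hf : P.act.act ≫ f = (G ◁ f) ≫ Q.act.act) : StackHom.top (fibHom f hf) = f := rfl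

/-- Equivariant isomorphisms are isomorphisms in the fibre. -/
noncomputable def isoEquiv (P Q : TorsorSch G Scheme.fppfPrecoverage) :
    EquivIso P.act Q.act ≃ (toFib P ≅ toFib Q) where
  toFun e :=
    { hom := fibHom e.iso.hom e.comm
      inv := fibHom e.iso.inv (by
        rw [← cancel_mono e.iso.hom, Category.assoc, Category.assoc, e.comm,
          Iso.inv_hom_id, Category.comp_id, ← Category.assoc, ← MonoidalCategory.whiskerLeft_comp,
          Iso.inv_hom_id, MonoidalCategory.whiskerLeft_id, Category.id_comp])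
      hom_inv_id := hom_ext e.iso.hom_inv_id
      inv_hom_id := hom_ext e.iso.inv_hom_id }
  invFun f :=
    { iso := ⟨StackHom.top f.hom, StackHom.top f.inv,
        congrArg StackHom.top f.hom_inv_id, congrArg StackHom.top f.inv_hom_id⟩
      comm := StackHom.top_eqv f.hom }
  left_inv e := rfl
  right_inv f := Iso.ext (hom_ext rfl)

theorem exists_toFib_iso (A : Fib k (AlgSt.trivAction G)) :
    ∃ P : TorsorSch G Scheme.fppfPrecoverage, Nonempty (toFib P ≅ A) := by
  obtain ⟨⟨base, P, act, π, cart, loc, φ, eqv⟩, hA⟩ := A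
  have hA' : base = SGA7.pt (K := k) k := hA
  subst hA'
  obtain ⟨R, hR, hs⟩ := loc
  have hπ : π.left = P.hom := congrArg CommaMorphism.left (pt_ext π (toPt P))
  let T : TorsorSch G Scheme.fppfPrecoverage :=
    ⟨P, act, pseudo_of_cart act cart,
      R, BigSite.etalePrecoverage_le_fppfPrecoverage _ hR, fun S' f hf => by
        obtain ⟨s, hs'⟩ := hs f hf
        exact ⟨s, by rw [← hπ]; exact hs'⟩⟩
  refine ⟨T, ⟨eqToIso ?_⟩⟩
  refine Subtype.ext ?_
  obtain rfl : π = toPt P := pt_ext _ _
  obtain rfl : φ = toUnit P := toUnit_unique _ _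
  rfl

/-- Classes of torsor schemes are isomorphism classes of the fibre. -/
noncomputable def clsEquiv : H1Sch G Scheme.fppfPrecoverage ≃ StkCnt.IsoCl (Fib k (AlgSt.trivAction G)) :=
  Equiv.ofBijective
    (Quot.lift (fun P => StkCnt.IsoCl.mk (toFib P)) fun P Q h => Quotient.sound (h.map (isoEquiv P Q)))
    ⟨by
      rintro ⟨P⟩ ⟨Q⟩ h
      exact Quot.sound ((Quotient.exact h).map (isoEquiv P Q).symm),
    fun z => by
      obtain ⟨A, rfl⟩ := Quotient.exists_rep z
      obtain ⟨P, hP⟩ := exists_toFib_iso A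
      exact ⟨Quot.mk _ P, Quotient.sound hP⟩⟩

theorem autCard_clsEquiv (ξ : H1Sch G Scheme.fppfPrecoverage) :
    StkCnt.autCard _ (clsEquiv ξ) = Nat.card (EquivIso (Quot.out ξ).act (Quot.out ξ).act) := by
  conv_lhs => rw [← Quot.out_eq ξ]
  show StkCnt.autCard _ (StkCnt.IsoCl.mk (toFib (Quot.out ξ))) = _
  rw [StkCnt.autCard_mk]
  exact Nat.card_congr (isoEquiv _ _).symm

open StackLevels in
/-- The fibre of the classifying stack over a finite field is essentially finite. -/
theorem isEssFinite [Finite k] : StkCnt.IsEssFinite (Fib k (AlgSt.trivAction G)) := by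
  classical
  letI : MulDistribMulAction (AlgebraicClosure k ≃ₐ[k] AlgebraicClosure k)
      (SGA7.pt (K := k) (AlgebraicClosure k) ⟶ G) := StackFrob.act
  have : IsGalois k (AlgebraicClosure k) := ⟨⟩
  have : LocallyOfFiniteType (𝟙_ (Over (Spec (CommRingCat.of k)))).hom :=
    inferInstanceAs (LocallyOfFiniteType (𝟙 _))
  have := Fintype.ofFinite k
  let π : AlgebraicClosure k ≃ₐ[k] AlgebraicClosure k :=
    FiniteField.frobeniusAlgEquivOfAlgebraic k (AlgebraicClosure k)
  have hπ : ∀ x, π x = x ^ Nat.card k := fun x => by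
    rw [Nat.card_eq_fintype_card]; rfl
  have : Finite (SGA7.pt (K := k) (AlgebraicClosure k) ⟶ G) := StackFrob.finite_points
  choose t L hL hat using fun A : Fib k (AlgSt.trivAction G) => exists_basedPt (kb := AlgebraicClosure k) A
  constructor
  · refine Finite.of_injective
      (fun z : StkCnt.IsoCl (Fib k (AlgSt.trivAction G)) => coc (t z.out) π) fun z z' e => ?_
    let B : Fib k (AlgSt.trivAction G) → GpH1.OneCocycleLC (AlgebraicClosure k ≃ₐ[k] AlgebraicClosure k)
        (SGA7.pt (K := k) (AlgebraicClosure k) ⟶ G) := fun A =>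
      ⟨⟨coc (t A), coc_mul (t A)⟩, (StackCount.isLC_coc _ A (t A)).lc⟩
    have hcl : (B z.out).cl = (B z'.out).cl := by
      rw [FiniteFieldCocycle.cohomologous_iff hπ StackFrob.isOpen_stabilizer]
      refine ⟨1, ?_⟩
      simp only [inv_one, _root_.one_mul, smul_one, _root_.mul_one]
      first | exact e | exact e.symm
    obtain ⟨d, hd⟩ := (GpH1.OneCocycleLC.cl_eq_cl_iff _ _).1 hcl
    rw [← Quotient.out_eq z, ← Quotient.out_eq z']
    refine Quotient.sound ?_
    obtain ⟨f, -⟩ := StackCount.exists_iso (AlgSt.trivAction G) (t z.out)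
      ((t z'.out).translate (AlgebraicClosure k) d⁻¹) (fun σ => by
        have h2 := hd σ
        simp only [B, StackFrob.smul_def] at h2
        rw [coc_translate, GrpObj.comp_inv, _root_.inv_inv]
        exact h2.symm) (toUnit_unique _ _)
    exact ⟨f⟩
  · intro A B
    obtain ⟨L₁, h₁, hat₁⟩ : ∃ L : IntermediateField k (AlgebraicClosure k),
      FiniteDimensional k L ∧ IsAt L (t A).pt := ⟨L A, hL A, hat A⟩
    obtain ⟨L₂, hL₂, hgal, hle, -⟩ := exists_common_level L₁ L₁
    let d : (A ⟶ B) → (SGA7.pt (K := k) (AlgebraicClosure k) ⟶ G) := fun f =>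
      div B.1 ((t A).pt ≫ StackHom.top f) (t B).pt (by
        rw [π_eq_iff, (t B).over]
        exact (StackHom.mapPt f (t A)).over)
    refine Finite.of_injective d fun f f' e => StackHom.hom_ext_level (t A) (isAt_mono hle hat₁) ?_
    rw [← div_sm B.1 ((t A).pt ≫ StackHom.top f) (t B).pt (by
        rw [π_eq_iff, (t B).over]; exact (StackHom.mapPt f (t A)).over),
      ← div_sm B.1 ((t A).pt ≫ StackHom.top f') (t B).pt (by
        rw [π_eq_iff, (t B).over]; exact (StackHom.mapPt f' (t A)).over)]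
    exact congrArg (fun g => sm B.1.act g (t B).pt) e

/-- The mass formula. -/
theorem mass_formula [Finite k] :
    Finite (H1Sch G Scheme.fppfPrecoverage) ∧
      ∑ᶠ ξ : H1Sch G Scheme.fppfPrecoverage,
        ((Nat.card (EquivIso (Quot.out ξ).act (Quot.out ξ).act) : ℚ))⁻¹ = 1 := by
  have h := isEssFinite (G := G)
  have := h.finite_isoCl
  have hfin : Finite (H1Sch G Scheme.fppfPrecoverage) := Finite.of_equiv _ clsEquiv.symm
  refine ⟨hfin, ?_⟩
  letI : Fintype (H1Sch G Scheme.fppfPrecoverage) := Fintype.ofFinite _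
  letI : Fintype (StkCnt.IsoCl (Fib k (AlgSt.trivAction G))) := Fintype.ofFinite _
  have hcount : StkCnt.count (Fib k (AlgSt.trivAction G)) h = 1 := S15385.result k G k h
  rw [StkCnt.count_eq_sum h, ← clsEquiv.sum_comp] at hcount
  rw [finsum_eq_sum_of_fintype]
  simpa only [autCard_clsEquiv] using hcount

end Groth.Agent.GITLib.TorsorMass
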