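import Groth.Agent.GITLib.TorsorSchMore
import Groth.Agent.GITLib.NormalSection
import Groth.Prelude.Def_ActBC

/-!
# Extension of structure group along a generically invertible homomorphism
-/

set_option autoImplicit false

universe u

open CategoryTheory Limits MonoidalCategory CartesianMonoidalCategory MonObj AlgebraicGeometry

namespace Groth.Agent.GITLib

theorem hasSectionOver_of_pushforward {S S' : Scheme.{u}} (f : S' ⟶ S) {G G' P P' : Over S} [GrpObj G] [GrpObj G']
    (g : G ⟶ G') [IsMonHom g] [IsIso ((Over.pullback f).map g)]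
    {a : AlgGrp.Action G P} {a' : AlgGrp.Action G' P'}
    (ha : NonAbH1.IsTorsorFor Scheme.fpqcPrecoverage a) (ha' : NonAbH1.IsTorsorFor Scheme.fpqcPrecoverage a')
    (hpush : NonAbH1.IsPushforwardAlongSch g a a') (h : NonAbH1.HasSectionOver P' f) :
    NonAbH1.HasSectionOver P f := by
  obtain ⟨φ, hφ⟩ := hpush
  have he : AlgGrp.Action.IsEquivariant a (a'.restrict g) φ := by
    show a.act ≫ φ = (G ◁ φ) ≫ (g ▷ P') ≫ a'.act
    rw [hφ, ← Category.assoc (G ◁ φ)]
    congr 1
    ext <;> simp
  have hk := AlgGrp.Action.isEquivariant_bc f he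
  rw [AlgGrp.Action.bc_restrict] at hk
  have hps : NonAbH1.IsPseudoTorsorSch ((a'.bc f).restrict ((Over.pullback f).map g)) := by
    have h1 : IsIso (lift (a'.bc f).act (snd _ _)) := NonAbH1.isPseudoTorsorSch_bc f ha'.1
    show IsIso (lift ((((Over.pullback f).map g) ▷ _) ≫ (a'.bc f).act) (snd _ _))
    rw [show lift ((((Over.pullback f).map g) ▷ _) ≫ (a'.bc f).act) (snd _ _) =
      (((Over.pullback f).map g) ▷ _) ≫ lift (a'.bc f).act (snd _ _) from by simp [comp_lift]]
    infer_instance
  have := isIso_of_equivariant (NonAbH1.isTorsorFor_bc f Scheme.fpqcPrecoverage ha) hps _ hk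
  obtain ⟨s, hs⟩ := h
  let k := inv ((Over.pullback f).map φ)
  let s' : S' ⟶ ((Over.pullback f).obj P').left := pullback.lift s (𝟙 S') (hs.trans (Category.id_comp f).symm)
  refine ⟨s' ≫ k.left ≫ pullback.fst P.hom f, ?_⟩
  have h2 : k.left ≫ pullback.snd P.hom f = pullback.snd P'.hom f := Over.w k
  rw [Category.assoc, Category.assoc, pullback.condition, reassoc_of% h2]
  exact (pullback.lift_snd_assoc _ _ _ _).trans (Category.id_comp f)

/-- Over a normal integral scheme, a finite flat torsor whose extension along a generically invertible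
homomorphism is trivial is trivial. -/
theorem hasSectionOver_of_pushforward_normal {X : Scheme.{u}} [IsIntegral X]
    (hX : ∀ x, IsIntegrallyClosed (X.presheaf.stalk x))
    {G G' P P' : Over X} [GrpObj G] [GrpObj G'] [IsFinite G.hom]
    (g : G ⟶ G') [IsMonHom g] [IsIso ((Over.pullback (X.fromSpecStalk (genericPoint X))).map g)]
    {a : AlgGrp.Action G P} {a' : AlgGrp.Action G' P'}
    (ha : NonAbH1.IsTorsorFor Scheme.fpqcPrecoverage a) (ha' : NonAbH1.IsTorsorFor Scheme.fpqcPrecoverage a')
    (hpush : NonAbH1.IsPushforwardAlongSch g a a') (h : NonAbH1.HasSectionOver P' (𝟙 X)) :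
    NonAbH1.HasSectionOver P (𝟙 X) := by
  have := FpqcDesc.descendsAlong_isFinite.{u}
  have : IsFinite P.hom := property_of_torsor @IsFinite ha inferInstance
  obtain ⟨s, hs⟩ := h
  obtain ⟨z, hz⟩ := hasSectionOver_of_pushforward (X.fromSpecStalk (genericPoint X)) g ha ha' hpush
    ⟨X.fromSpecStalk (genericPoint X) ≫ s, by rw [Category.assoc, hs, Category.comp_id]⟩
  obtain ⟨t, ht, -⟩ := exists_section_of_isIntegralHom hX P.hom z hz
  exact ⟨t, ht⟩

end Groth.Agent.GITLib
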