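import Groth.Agent.GITLib.FpqcLocal
import Groth.Agent.FpqcDesc.Props
import Groth.Prelude.Def_ChGrp
import Groth.Prelude.Def_NonAbH2
import Mathlib.AlgebraicGeometry.Sites.Fpqc
import Mathlib.AlgebraicGeometry.Sites.Etale
import Mathlib.CategoryTheory.Sites.SubcanonicalOver

/-!
# fpqc torsors which are schemes

Local sections, gluing of morphisms, equivariant maps and descent of properties.
-/

set_option autoImplicit false

universe u

open CategoryTheory MonoidalCategory CartesianMonoidalCategory MonObj AlgebraicGeometry Opposite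

namespace Groth.Agent.GITLib

variable {S : Scheme.{u}}

/-- The fpqc topology on schemes over `S`. -/
abbrev Jq (S : Scheme.{u}) : GrothendieckTopology (Over S) := Scheme.fpqcTopology.over S

theorem isSheaf_yoneda_q (Z : Over S) : Presieve.IsSheaf (Jq S) (yoneda.obj Z) :=
  GrothendieckTopology.Subcanonical.isSheaf_of_isRepresentable _

/-- Morphisms agreeing on a covering sieve agree. -/
theorem hom_ext_q {T Z : Over S} {Sv : Sieve T} (hSv : Sv ∈ Jq S T) {x y : T ⟶ Z}
    (h : ∀ ⦃T' : Over S⦄ (f : T' ⟶ T), Sv.arrows f → f ≫ x = f ≫ y) : x = y :=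
  ((isSheaf_yoneda_q Z).isSeparated Sv hSv).ext fun T' f hf => h f hf

/-- A monomorphism with fpqc local sections is an isomorphism. -/
theorem isIso_of_mono_of_lifts_q {X Y : Over S} (ρ : X ⟶ Y) [Mono ρ] {Sv : Sieve Y}
    (hSv : Sv ∈ Jq S Y) (h : ∀ ⦃T : Over S⦄ (f : T ⟶ Y), Sv.arrows f → ∃ x : T ⟶ X, x ≫ ρ = f) :
    IsIso ρ := by
  let fam : Presieve.FamilyOfElements (yoneda.obj X) Sv.arrows := fun T f hf => (h f hf).choose
  have hfam : fam.Compatible := by
    intro T₁ T₂ T k₁ k₂ f₁ f₂ h₁ h₂ w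
    show k₁ ≫ (h f₁ h₁).choose = k₂ ≫ (h f₂ h₂).choose
    rw [← cancel_mono ρ, Category.assoc, Category.assoc, (h f₁ h₁).choose_spec, (h f₂ h₂).choose_spec, w]
  let s : Y ⟶ X := (isSheaf_yoneda_q X Sv hSv).amalgamate fam hfam
  have hs : s ≫ ρ = 𝟙 Y := hom_ext_q hSv fun T f hf => by
    rw [← Category.assoc, show f ≫ s = fam f hf from (isSheaf_yoneda_q X Sv hSv).valid_glue hfam f hf,
      Category.comp_id]
    exact (h f hf).choose_spec
  exact ⟨s, by rw [← cancel_mono ρ, Category.assoc, hs, Category.comp_id, Category.id_comp], hs⟩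

/-- The sieve of maps on which `X` has a point. -/
def pointSieve (X T : Over S) : Sieve T where
  arrows := fun T' _ => Nonempty (T' ⟶ X)
  downward_closed := fun {_ _ _} h k => h.map (k ≫ ·)

theorem pointSieve_mem {X : Over S} (h : NonAbH1.IsLocallyTrivialFor Scheme.fpqcPrecoverage X) (T : Over S) :
    pointSieve X T ∈ Jq S T := by
  obtain ⟨R, hR, hs⟩ := h
  change Sieve.overEquiv T (pointSieve X T) ∈ Scheme.fpqcTopology T.left
  refine GrothendieckTopology.superset_covering _ ?_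
    (Scheme.fpqcTopology.pullback_stable T.hom (Precoverage.generate_mem_toGrothendieck hR))
  intro W k hk
  obtain ⟨W', l, r, hr, hlr⟩ := hk
  obtain ⟨s, hs'⟩ := hs r hr
  rw [Sieve.overEquiv_iff]
  exact ⟨Over.homMk (l ≫ s) (by
    show (l ≫ s) ≫ X.hom = k ≫ T.hom
    rw [Category.assoc, hs', hlr])⟩

variable {G X : Over S} [GrpObj G] {a : AlgGrp.Action G X}

/-- Two points of a pseudo-torsor differ by a unique point of the group. -/
theorem existsUnique_diff (h : NonAbH1.IsPseudoTorsorSch a) {T : Over S} (x y : T ⟶ X) :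
    ∃! g : T ⟶ G, lift g x ≫ a.act = y := by
  have : IsIso (lift a.act (snd G X)) := h
  let l := lift y x ≫ inv (lift a.act (snd G X))
  have hl : l ≫ lift a.act (snd G X) = lift y x := by
    simp only [l, Category.assoc, IsIso.inv_hom_id, Category.comp_id]
  have h1 : l ≫ a.act = y := by simpa using congrArg (· ≫ fst X X) hl
  have h2 : l ≫ snd G X = x := by simpa using congrArg (· ≫ snd X X) hl
  refine ⟨l ≫ fst G X, ?_, fun g hg => ?_⟩
  · show lift (l ≫ fst G X) x ≫ a.act = y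
    rw [← h2, ← comp_lift_assoc, lift_fst_snd, Category.id_comp, h1]
  · have : lift g x = l := by
      rw [← cancel_mono (lift a.act (snd G X)), hl, comp_lift, hg, lift_snd]
    rw [← this, lift_fst]

theorem eq_one_of_fixed (h : NonAbH1.IsPseudoTorsorSch a) {T : Over S} (g : T ⟶ G) (x : T ⟶ X)
    (e : lift g x ≫ a.act = x) : g = 1 :=
  (existsUnique_diff h x x).unique e (a.lift_one_act x)

theorem comp_lift_act {T T' : Over S} (k : T' ⟶ T) (g : T ⟶ G) (x : T ⟶ X) :
    k ≫ lift g x ≫ a.act = lift (k ≫ g) (k ≫ x) ≫ a.act := by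
  rw [comp_lift_assoc]

/-- An equivariant map of torsors is an isomorphism. -/
theorem isIso_of_equivariant {X' : Over S} {a' : AlgGrp.Action G X'}
    (ha : NonAbH1.IsTorsorFor Scheme.fpqcPrecoverage a) (ha' : NonAbH1.IsPseudoTorsorSch a')
    (f : X ⟶ X') (hf : a.act ≫ f = (G ◁ f) ≫ a'.act) : IsIso f := by
  have hf' : ∀ {T : Over S} (g : T ⟶ G) (x : T ⟶ X),
      (lift g x ≫ a.act) ≫ f = lift g (x ≫ f) ≫ a'.act := fun g x => by
    rw [Category.assoc, hf, lift_whiskerLeft_assoc]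
  have : Mono f := ⟨fun {T} z z' e => by
    obtain ⟨g, hg, -⟩ := existsUnique_diff ha.1 z z'
    have : g = 1 := eq_one_of_fixed ha' g (z ≫ f) (by rw [← hf', hg, e])
    rw [← hg, this, a.lift_one_act]⟩
  refine isIso_of_mono_of_lifts_q f (pointSieve_mem ha.2 X') fun T k hk => ?_
  obtain ⟨z⟩ := hk
  obtain ⟨g, hg, -⟩ := existsUnique_diff ha' (z ≫ f) k
  exact ⟨lift g z ≫ a.act, by rw [hf', hg]⟩

/-- A torsor is a categorical quotient onto the base: invariant morphisms come from sections. -/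
theorem existsUnique_section (ha : NonAbH1.IsTorsorFor Scheme.fpqcPrecoverage a) {Z : Over S} (ψ : X ⟶ Z)
    (hψ : a.act ≫ ψ = snd G X ≫ ψ) : ∃! σ : 𝟙_ (Over S) ⟶ Z, toUnit X ≫ σ = ψ := by
  have key : ∀ {T : Over S} (x y : T ⟶ X), x ≫ ψ = y ≫ ψ := by
    intro T x y
    obtain ⟨g, hg, -⟩ := existsUnique_diff ha.1 x y
    rw [← hg, Category.assoc, hψ, lift_snd_assoc]
  let Sv := pointSieve X (𝟙_ (Over S))
  have hSv := pointSieve_mem ha.2 (𝟙_ (Over S))
  let fam : Presieve.FamilyOfElements (yoneda.obj Z) Sv.arrows := fun T f hf => hf.some ≫ ψ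
  have hfam : fam.Compatible := by
    intro T₁ T₂ T k₁ k₂ f₁ f₂ h₁ h₂ w
    show k₁ ≫ h₁.some ≫ ψ = k₂ ≫ h₂.some ≫ ψ
    rw [← Category.assoc, ← Category.assoc]
    exact key _ _
  let σ := (isSheaf_yoneda_q Z Sv hSv).amalgamate fam hfam
  have hσ : ∀ {T : Over S} (x : T ⟶ X), toUnit T ≫ σ = x ≫ ψ := fun {T} x => by
    rw [show toUnit T ≫ σ = fam (toUnit T) ⟨x⟩ from
      (isSheaf_yoneda_q Z Sv hSv).valid_glue hfam (toUnit T) ⟨x⟩]
    exact key _ _
  refine ⟨σ, (hσ (𝟙 X)).trans (Category.id_comp ψ), fun σ' hσ' => hom_ext_q hSv fun T f hf => ?_⟩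
  obtain ⟨x⟩ := hf
  rw [toUnit_unique f (toUnit T), hσ x, ← hσ', ← Category.assoc, comp_toUnit]

/-- Properties of the group pass to torsors. -/
theorem property_of_torsor (P : MorphismProperty Scheme.{u}) [P.IsStableUnderBaseChange]
    [IsZariskiLocalAtTarget P] [P.DescendsAlong AlgSpCov.Fpqc]
    (ha : NonAbH1.IsTorsorFor Scheme.fpqcPrecoverage a) (hG : P G.hom) : P X.hom := by
  obtain ⟨R, hR, hs⟩ := ha.2
  refine of_fpqc_cover X.hom hR fun S' f hf => ?_
  obtain ⟨s, hs'⟩ := hs f hf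
  let T : Over S := Over.mk f
  let s' : T ⟶ X := Over.homMk s hs'
  let ρ : T ⊗ G ⟶ T ⊗ X := lift (fst T G) (lift (snd T G) (fst T G ≫ s') ≫ a.act)
  have hρ : IsIso ρ := by
    have hex := existsUnique_diff ha.1 (fst T X ≫ s') (snd T X)
    refine ⟨lift (fst T X) hex.choose, ?_, ?_⟩
    · refine CartesianMonoidalCategory.hom_ext _ _ (by simp [ρ]) ?_
      rw [Category.assoc, lift_snd, Category.id_comp]
      refine (existsUnique_diff ha.1 (fst T G ≫ s') (ρ ≫ snd T X)).unique ?_ (by simp [ρ])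
      have := congrArg (ρ ≫ ·) hex.choose_spec.1
      simp only [comp_lift_assoc] at this
      rwa [show ρ ≫ fst T X ≫ s' = fst T G ≫ s' by simp [ρ]] at this
    · refine CartesianMonoidalCategory.hom_ext _ _ (by simp [ρ]) ?_
      simp only [ρ, Category.assoc, lift_snd, Category.id_comp, comp_lift_assoc, lift_fst_assoc]
      exact hex.choose_spec.1
  have hw : ρ.left ≫ Limits.pullback.fst f X.hom = Limits.pullback.fst f G.hom :=
    congrArg CommaMorphism.left (lift_fst (fst T G) (lift (snd T G) (fst T G ≫ s') ≫ a.act))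
  have : IsIso ρ.left := inferInstanceAs (IsIso ((Over.forget S).map ρ))
  rw [← P.cancel_left_of_respectsIso ρ.left (Limits.pullback.fst f X.hom)]
  show P (ρ.left ≫ Limits.pullback.fst f X.hom)
  rw [hw]
  exact MorphismProperty.pullback_fst _ _ hG

end Groth.Agent.GITLib
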