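import Mathlib.AlgebraicGeometry.Morphisms.Finite
import Mathlib.AlgebraicGeometry.Morphisms.Proper
import Mathlib.AlgebraicGeometry.Morphisms.QuasiFinite
import Mathlib.AlgebraicGeometry.Fiber
import Mathlib.AlgebraicGeometry.ZariskisMainTheorem
import Mathlib.RingTheory.Nakayama
import Mathlib.LinearAlgebra.TensorProduct.Quotient

/-!
# Finite morphisms with trivial fibres are closed immersions
-/

set_option autoImplicit false

universe u

open CategoryTheory Limits AlgebraicGeometry TensorProduct

namespace Groth.Agent.GITLib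

/-- Every pullback to the spectrum of a field is an isomorphism. -/
def TrivFibres : MorphismProperty Scheme.{u} := fun Z X h =>
  ∀ (K : Type u) [Field K] (x : Spec (CommRingCat.of K) ⟶ X), IsIso (pullback.snd h x)

theorem trivFibres_of_fiber {Z X : Scheme.{u}} (h : Z ⟶ X)
    (H : ∀ x : X, IsIso (h.fiberToSpecResidueField x)) : TrivFibres h := by
  intro K _ x
  obtain ⟨⟨y, i⟩, rfl⟩ := (Scheme.SpecToEquivOfField K X).symm.surjective x
  have : IsIso (pullback.snd h (X.fromSpecResidueField y)) := H y
  have sq := (IsPullback.of_hasPullback (pullback.snd h (X.fromSpecResidueField y)) (Spec.map i)).paste_horiz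
    (IsPullback.of_hasPullback h (X.fromSpecResidueField y))
  show IsIso (pullback.snd h (Spec.map i ≫ X.fromSpecResidueField y))
  rw [← IsPullback.isoPullback_inv_snd sq]
  infer_instance

instance : (TrivFibres.{u}).IsStableUnderBaseChange := by
  refine ⟨fun {X Y Y' S f g f' g'} sq hg K _ x => ?_⟩
  have : IsIso (pullback.snd g (x ≫ f)) := hg K (x ≫ f)
  have sq' := (IsPullback.of_hasPullback g' x).paste_horiz sq
  rw [← IsPullback.isoPullback_hom_snd sq']
  infer_instance

theorem algebraMap_surjective_of_trivial_residue {A B : Type u} [CommRing A] [CommRing B] [Algebra A B]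
    [Module.Finite A B]
    (h : ∀ (m : Ideal A), m.IsMaximal → Function.Surjective (algebraMap (A ⧸ m) ((A ⧸ m) ⊗[A] B))) :
    Function.Surjective (algebraMap A B) := by
  let N : Submodule A B := LinearMap.range (Algebra.linearMap A B)
  suffices hN : N = ⊤ from fun b => by
    obtain ⟨a, ha⟩ : b ∈ N := hN ▸ Submodule.mem_top
    exact ⟨a, ha⟩
  have key : ∀ m : Ideal A, m.IsMaximal → ∀ b : B ⧸ N, b ∈ m • (⊤ : Submodule A (B ⧸ N)) := by
    intro m hm b
    obtain ⟨b, rfl⟩ := Submodule.Quotient.mk_surjective N b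
    obtain ⟨c, hc⟩ := h m hm (1 ⊗ₜ b)
    obtain ⟨a, rfl⟩ := Ideal.Quotient.mk_surjective c
    have e : (1 : A ⧸ m) ⊗ₜ[A] (b - algebraMap A B a) = 0 := by
      rw [TensorProduct.tmul_sub, ← hc, sub_eq_zero, Algebra.TensorProduct.algebraMap_apply,
        Algebra.algebraMap_eq_smul_one (A := B), TensorProduct.tmul_smul, TensorProduct.smul_tmul']
      congr 1
      simp [Algebra.smul_def]
    have e' : b - algebraMap A B a ∈ m • (⊤ : Submodule A B) := by
      rw [← Submodule.Quotient.mk_eq_zero, ← one_smul A (Submodule.Quotient.mk (b - algebraMap A B a) : B ⧸ _), ← Submodule.Quotient.mk_smul, ← TensorProduct.quotTensorEquivQuotSMul_mk_tmul, map_one, e, map_zero]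
    have e'' := Submodule.mem_map_of_mem (f := N.mkQ) e'
    rw [Submodule.map_smul'', Submodule.map_top, Submodule.range_mkQ] at e''
    have : N.mkQ (b - algebraMap A B a) = Submodule.Quotient.mk b := by
      rw [map_sub, Submodule.mkQ_apply, Submodule.mkQ_apply,
        (Submodule.Quotient.mk_eq_zero N).2 (show algebraMap A B a ∈ N from ⟨a, rfl⟩), sub_zero]
    rwa [this] at e''
  by_contra hN
  have hne : (⊤ : Submodule A (B ⧸ N)).annihilator ≠ ⊤ := fun e => hN (by
    rw [Submodule.annihilator_eq_top_iff] at e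
    refine eq_top_iff.2 fun b _ => (Submodule.Quotient.mk_eq_zero N).1 ?_
    exact (Submodule.mem_bot A).1 (e ▸ Submodule.mem_top))
  obtain ⟨m, hm, hle⟩ := Ideal.exists_le_maximal _ hne
  obtain ⟨r, hr, hr'⟩ := Submodule.exists_sub_one_mem_and_smul_eq_zero_of_fg_of_le_smul m
    (⊤ : Submodule A (B ⧸ N)) Module.Finite.fg_top (fun b _ => key m hm b)
  refine hm.ne_top ((Ideal.eq_top_iff_one _).2 ?_)
  have : r ∈ m := hle (Submodule.mem_annihilator.2 hr')
  simpa using m.sub_mem this hr

theorem isClosedImmersion_of_trivFibres {Z X : Scheme.{u}} (h : Z ⟶ X) [IsFinite h] (H : TrivFibres h) :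
    IsClosedImmersion h := by
  wlog hX : ∃ A : CommRingCat.{u}, X = Spec A generalizing Z X
  · rw [IsZariskiLocalAtTarget.iff_of_openCover (P := @IsClosedImmersion) X.affineCover]
    intro i
    show IsClosedImmersion (pullback.snd h (X.affineCover.f i))
    refine this (pullback.snd h (X.affineCover.f i)) ?_ ⟨_, rfl⟩
    exact MorphismProperty.of_isPullback (IsPullback.of_hasPullback h (X.affineCover.f i)) H
  obtain ⟨A, rfl⟩ := hX
  wlog hZ : ∃ B : CommRingCat.{u}, Z = Spec B generalizing Z
  · have haff : IsAffine Z := isAffine_of_isAffineHom h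
    have hf : IsFinite (Z.isoSpec.inv ≫ h) := inferInstance
    have := this (Z.isoSpec.inv ≫ h)
      (MorphismProperty.RespectsIso.precomp (P := TrivFibres) Z.isoSpec.inv h H) ⟨_, rfl⟩
    exact (MorphismProperty.cancel_left_of_respectsIso @IsClosedImmersion Z.isoSpec.inv h).1 this
  obtain ⟨B, rfl⟩ := hZ
  obtain ⟨φ, rfl⟩ := Spec.map_surjective h
  algebraize [φ.hom]
  have : Module.Finite A B := RingHom.finite_algebraMap.1 (by
    simpa [RingHom.algebraMap_toAlgebra] using (IsFinite.SpecMap_iff φ).1 ‹IsFinite (Spec.map φ)›)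
  refine IsClosedImmersion.spec_of_surjective φ ?_
  refine algebraMap_surjective_of_trivial_residue (A := A) (B := B) fun m hm => ?_
  letI := Ideal.Quotient.field m
  have : IsIso (pullback.snd (Spec.map φ) (Spec.map (CommRingCat.ofHom (algebraMap A (A ⧸ m))))) :=
    H (A ⧸ m) _
  have sq := isPullback_SpecMap_of_isPushout (CommRingCat.ofHom (algebraMap A (A ⧸ m))) φ
    (CommRingCat.ofHom (Algebra.TensorProduct.includeLeftRingHom (R := A) (A := A ⧸ m) (B := B)))
    (CommRingCat.ofHom (Algebra.TensorProduct.includeRight (R := A) (A := A ⧸ m) (B := B)).toRingHom)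
    (CommRingCat.isPushout_tensorProduct A (A ⧸ m) B)
  have : IsIso (Spec.map (CommRingCat.ofHom
      (Algebra.TensorProduct.includeLeftRingHom (R := A) (A := A ⧸ m) (B := B)))) := by
    rw [← sq.flip.isoPullback_hom_snd]
    infer_instance
  have hS : IsIso (Scheme.Spec.map (CommRingCat.ofHom (Algebra.TensorProduct.includeLeftRingHom
    (R := A) (A := A ⧸ m) (B := B))).op) := ‹_›
  have := isIso_of_reflects_iso (CommRingCat.ofHom (Algebra.TensorProduct.includeLeftRingHom
    (R := A) (A := A ⧸ m) (B := B))).op Scheme.Spec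
  have := isIso_of_op (CommRingCat.ofHom (Algebra.TensorProduct.includeLeftRingHom
    (R := A) (A := A ⧸ m) (B := B)))
  have := (ConcreteCategory.bijective_of_isIso (CommRingCat.ofHom
    (Algebra.TensorProduct.includeLeftRingHom (R := A) (A := A ⧸ m) (B := B))))
  exact this.2

/-- A proper morphism with trivial fibres is a closed immersion. -/
theorem isClosedImmersion_of_isProper {Z X : Scheme.{u}} (h : Z ⟶ X) [IsProper h]
    (H : ∀ x : X, IsIso (h.fiberToSpecResidueField x)) : IsClosedImmersion h := by
  have : LocallyQuasiFinite h := by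
    refine LocallyQuasiFinite.of_finite_preimage_singleton h fun x => ?_
    have := H x
    rw [← Scheme.Hom.range_fiberι]
    have : Subsingleton (h.fiber x) :=
      ((Scheme.homeoOfIso (asIso (h.fiberToSpecResidueField x))).injective).subsingleton
    exact Set.finite_range _
  have : IsFinite h := IsFinite.of_isProper_of_locallyQuasiFinite h
  exact isClosedImmersion_of_trivFibres h (trivFibres_of_fiber h H)

end Groth.Agent.GITLib
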