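import Groth.Agent.GITLib.UnivGeom
import Groth.Agent.GrpScheme.Basic
import Mathlib.AlgebraicGeometry.Morphisms.UniversallyOpen

/-!
# Geometric quotients by universally open groups are universally open
-/

set_option autoImplicit false

universe u

open CategoryTheory MonoidalCategory CartesianMonoidalCategory MonObj AlgebraicGeometry Topology

namespace Groth.Agent.GITLib

variable {S : Scheme.{u}} {G X Y : Over S} [GrpObj G] {a : AlgGrp.Action G X} {φ : X ⟶ Y}

/-- Surjectivity onto the fibre square and universal submersiveness give universal openness. -/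
theorem universallyOpen_of_psiY (hi : GIT.IsInvariant a φ) (hs : Function.Surjective (GIT.PsiY a φ hi).base)
    (hsub : GIT.IsUnivSubmersive φ.left) [UniversallyOpen G.hom] : UniversallyOpen φ.left := by
  refine ⟨fun P Q i₁ i₂ f H => ?_⟩
  let Y' : Over S := Over.mk (i₂ ≫ Y.hom)
  let g : Y' ⟶ Y := Over.homMk i₂ rfl
  let X' : Over S := Over.mk (f ≫ Y'.hom)
  let pr : X' ⟶ X := Over.homMk i₁ (by
    show i₁ ≫ X.hom = f ≫ i₂ ≫ Y.hom
    rw [← Over.w φ, ← reassoc_of% H.w])
  let φ' : X' ⟶ Y' := Over.homMk f rfl
  have H' : IsPullback pr φ' φ g := isPullback_of_left H.flip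
  let a' := pullbackAction a hi H'
  have hs' := surjective_PsiY_baseChange hi hs H' a' (pullbackAction_pr hi H') (pullbackAction_inv hi H')
  have hq : IsQuotientMap f.base := hsub _ _ _ H
  have : UniversallyOpen a'.act.left :=
    GrpScheme.Basic.act_mem @UniversallyOpen a' ‹UniversallyOpen G.hom›
  intro U hU
  rw [← hq.isOpen_preimage]
  have e : f.base ⁻¹' (f.base '' U) = a'.act.left.base '' ((snd G X').left.base ⁻¹' U) := by
    refine subset_antisymm ?_ ?_
    · rintro x' ⟨x, hx, e⟩
      obtain ⟨p, hp₁, hp₂⟩ := Scheme.Pullback.exists_preimage_pullback (f := φ'.left) (g := φ'.left) x' x e.symm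
      obtain ⟨γ, hγ⟩ := hs' p
      refine ⟨γ, ?_, ?_⟩
      · show (snd G X').left.base γ ∈ U
        have : (snd G X').left.base γ = x := by
          rw [← hp₂, ← hγ, ← Scheme.Hom.comp_apply]
          exact (congrArg (fun m : (G ⊗ X').left ⟶ X'.left => m.base γ)
            (Limits.pullback.lift_snd _ _ (pullbackAction_inv hi H').left)).symm
        rw [this]; exact hx
      · rw [← hp₁, ← hγ, ← Scheme.Hom.comp_apply]
        exact (congrArg (fun m : (G ⊗ X').left ⟶ X'.left => m.base γ)
          (Limits.pullback.lift_fst _ _ (pullbackAction_inv hi H').left)).symm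
    · rintro _ ⟨γ, hγ, rfl⟩
      refine ⟨_, hγ, ?_⟩
      exact (congrArg (fun m : (G ⊗ X').left ⟶ Y'.left => m.base γ) (pullbackAction_inv hi H').left).symm
  rw [e]
  exact a'.act.left.isOpenMap _ (hU.preimage (snd G X').left.base.hom.continuous)

end Groth.Agent.GITLib
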